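import Cfsg.Agent.MK.C3L.OFam
import Cfsg.Agent.TAB.F22.CovD
import Cfsg.Agent.TAB.Eng.Sep_m3
import Cfsg.Agent.MK.Sp2.Wey_m3
import Cfsg.Agent.H133.FibPce
import Cfsg.Agent.GH.Q2.ModelSp4_m3
import Cfsg.Agent.MK.T.D_m3
import Cfsg.Agent.OddHalf.D6.QThree.G23Out
import Cfsg.Agent.H64.G23Upper
import Cfsg.Agent.H96.Rad2.GTwoThree
import Cfsg.Agent.ChevalleyStructure.FieldIso
import Cfsg.Agent.H705.Dl.PsRgd
import Cfsg.Agent.H40.PV.Ell
import Cfsg.Agent.FastGrp
import Cfsg.Agent.Prune
set_option linter.all false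

-- part: MK/C3L/OLat
section
prune_inst 0x7f00000000000000000000000000000000000000000000000000000000000000000000000000000000000000000000000000000000000000000000000000000000000000000000000000000000000000003fffffffffffffffffffffffffffbeffbdffffffff
set_option linter.all false

/-- decoders of the packed data (elaboration time only) -/
private noncomputable def pk61d (b S i : Nat) : Nat := Nat.mod (Nat.shiftRight S (Nat.mul b i)) (Nat.shiftLeft (nat_lit 1) b)
private noncomputable def pk61c {α : Type} (t : Nat) (a : α) (f : Nat → α) : α := Nat.rec a (fun k _ => f k) t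
private noncomputable def pk61f {α : Type} (t : Nat) (f : Nat → α) : α := Nat.rec (f Nat.zero) (fun k _ => f (Nat.succ k)) t
private noncomputable def pk61l {α : Type} (f : Nat → α) (s e : Nat) (tl : List α) : List α :=
  pk61f e fun e => Nat.rec tl (fun k ih => List.cons (pk61f (Nat.sub e (Nat.succ k)) f) ih) (Nat.sub e s)
private noncomputable def pk61o {α : Type} (O : (n : Nat) → OfNat α n → α) (I : (n : Nat) → OfNat α n) (t : Nat) : α :=
  pk61c t (O (nat_lit 0) (I (nat_lit 0))) fun k => O (Nat.succ k) (I (Nat.succ k))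
private noncomputable def pk61y (O : (n : Nat) → OfNat Int n → Int) (I : (n : Nat) → OfNat Int n) (G : Int → Int) (t : Nat) : Int := pk61f t fun t =>
  pk61c (Nat.mod t (nat_lit 2)) (pk61o O I (Nat.div t (nat_lit 2))) fun _ => G (pk61o O I (Nat.succ (Nat.div t (nat_lit 2))))


/-!
# A lattice of generalized characters of `3.Ω₇(3)`, data (helper94; generated by notes/MK/o7)
-/

set_option autoImplicit false
set_option maxRecDepth 100000

namespace Cfsg.Agent.MK.C3L.O

open Cfsg.Agent.TAB.Eng Cfsg.Agent.TAB.Cov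

/-- the permutation characters -/
noncomputable def seeds : List (List ℤ) :=
  (by
  refine (?fq9001 : (fun (Oz : (n : Nat) → OfNat Int n → Int) (Iz : (n : Nat) → OfNat Int n) (Gz : Int → Int) => ((pk61l (fun i1 => (pk61l (fun i2 => (pk61y Oz Iz Gz (pk61d (nat_lit 12) 
    (nat_lit 0x8dc2f410e0fc0e406c06005a04c04803603002402001e01801201000c00a008006004002000) (pk61d (nat_lit 5) 
    (nat_lit 0x2008462000231004000060080211048600824208cb08c033184000060320a641ca93b0481218c642a3208cb401f18ceec856e00000000003180060000000c0018000300c34800000d001818600003018003380a4b580019c004c00424cc9200f05a609d2f8) i2)))) (Nat.mul (nat_lit 81) i1) (Nat.mul (nat_lit 81) (Nat.succ i1)) List.nil)) (nat_lit 0) (nat_lit 2) List.nil) : List (List ℤ)))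
    = ?xq9001 → (List (List ℤ))) ?hq9001; (case hq9001 => (set_option maxRecDepth 1000000 in conv => lhs; reduce)); intro _; exact ?xq9001 (@OfNat.ofNat Int) (@instOfNat) (@Neg.neg Int Int.instNegInt) : List (List ℤ))

/-- the faithful part of the column of `8B` -/
noncomputable def vU : List ℤ :=
  (by
  refine (?fq9002 : (fun (Oz : (n : Nat) → OfNat Int n → Int) (Iz : (n : Nat) → OfNat Int n) (Gz : Int → Int) => ((pk61l (fun i1 => (pk61y Oz Iz Gz (pk61d (nat_lit 7) 
    (nat_lit 0x100f80) (pk61d (nat_lit 2) 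
    (nat_lit 0x40000000000000000200000000000000000000) i1)))) (nat_lit 0) (nat_lit 81) List.nil) : List ℤ))
    = ?xq9002 → (List ℤ)) ?hq9002; (case hq9002 => (set_option maxRecDepth 1000000 in conv => lhs; reduce)); intro _; exact ?xq9002 (@OfNat.ofNat Int) (@instOfNat) (@Neg.neg Int Int.instNegInt) : List ℤ)

/-- the levels -/
noncomputable def lvU : List Lev :=
  let y0 : List Lev := (by
  refine (?fq9003 : (fun (On : (n : Nat) → OfNat Nat n → Nat) (In : (n : Nat) → OfNat Nat n) (Oz : (n : Nat) → OfNat Int n → Int) (Iz : (n : Nat) → OfNat Int n) (Gz : Int → Int) => (pk61l (fun i0 => (_root_.Cfsg.Agent.TAB.Cov.Lev.mk (pk61l (fun i1 => (pk61y Oz Iz Gz (pk61d (nat_lit 17) 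
    (nat_lit 0xa9cdaa738a488292106ad81ab80b3e056401e580b400562021c00f3006bc02d0012b0086803600166009600480023c00d6005f002d0015000900047001d800d80060002f0014800900046001e000e0006c00300017000a0004c00240011000780038001a000c00058002800120008000380018000a000400018000800020000) (pk61d (nat_lit 6) 
    (nat_lit 0x2104000d0800001862cb0000261000c80cb0000085403896d800000018b5c300000000050001d740900320527429b71d8059389f000032d40e9ad37ec44000c02817870003005000006800011081800003cb00d25814800000001212500000044501900c0000158dca50aaea2f0174df300000af00386accf9) i1)))) (Nat.mul (nat_lit 81) i0) (Nat.mul (nat_lit 81) (Nat.succ i0)) List.nil) ((fun g0 : Nat → Nat => pk61l (fun i1 => (pk61y Oz Iz Gz (pk61d (nat_lit 8) 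
    (nat_lit 0x2912153d0a6d11a3422301390000436739333400051811312f162f15001c050e04050009060b080704030000030b03050600020706090303030400) i1))) (g0 i0) (g0 (Nat.succ i0)) List.nil) fun j => (pk61d (nat_lit 6) 
    (nat_lit 0x3b740) j)) (pk61o On In (pk61d (nat_lit 6) 
    (nat_lit 0x8c7) i0)) (pk61o On In (pk61d (nat_lit 52) 
    (nat_lit 0x9f9c1e4e75000046f00d783400) i0)))) (nat_lit 0) (nat_lit 2) List.nil : List Lev))
    = ?xq9003 → (List Lev)) ?hq9003; (case hq9003 => (set_option maxRecDepth 1000000 in conv => lhs; reduce)); intro _; exact ?xq9003 (@OfNat.ofNat Nat) instOfNatNat (@OfNat.ofNat Int) (@instOfNat) (@Neg.neg Int Int.instNegInt) : List Lev)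
  let y1 : List Lev := (by
  refine (?fq9004 : (fun (On : (n : Nat) → OfNat Nat n → Nat) (In : (n : Nat) → OfNat Nat n) (Oz : (n : Nat) → OfNat Int n → Int) (Iz : (n : Nat) → OfNat Int n) (Gz : Int → Int) (tl : List Lev) => (pk61l (fun i0 => (_root_.Cfsg.Agent.TAB.Cov.Lev.mk (pk61l (fun i1 => (pk61y Oz Iz Gz (pk61d (nat_lit 18) 
    (nat_lit 0xeff12ffd0a1af245c384e41dfe1617417fe757db1598450d753ef049d3d22e24271cc2e72ffd0afb52b304a56027ddc999024ea05ff914abc4cc70723016a404ec00fbf039140ccc02f3c0b5102b5009d701f8007df0199405e80167c0569013b003f000fbc038400d7c031300bbc02e000b4002bb009d4025b0094c021c0086c0213007e001c1006c0018b006280180005e0016f0059c015e004bc012e004a801200047c010e00434010a003ec00eb0036000d70031800bf002d000b30027c009b0026000900023c007e001d8006c001ac006700180005f0016800590015000500013c004e00120004700100003f000f0003b000dc0036000d40034000cc0030000bc002c000ac0029000a000240008c00200007c001e00074001c0006c001a0006400180005c00160005400140004c00120004400100003c000e00034000c0002c000a0002400080001c00060001400040000c0002000040000)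 (pk61d (nat_lit 8) (Nat.add 
    (nat_lit 0x200008380f47403341564000142a0b0b000000495c00944d664d99010002020101020004000400070000000600030002030705000000100c00090a1d34030400000c1704030000000000111600221025001f000738104712324253730b14132f440000005e6c008c21637a960200030101080300030000000000000006000800030800040700000007100317282a0404000000000f08000000000000170000002800000027333b41324251486e0b08283a3c00000000000085425a748e010003020604000004000400070000001100080002030405000000070c000307280b030b00000b1807000000000000110100221004001f002a2c3c3d003d4b59722208103a18000000384700810069798606000105020403000b00080b0f1800000500040001040006000000000b00070000170c030000000007080000000000121500210f26002000362b453e324152435f0c100000280000004f62008a42556d930400020007040000070006120b21000000000300000000000000000000000b00172100100000112207000000000000000000000000000000000000003300005d0000180028330000000000008b416b009500000004080901000000040007000000000000000308030b0000000818000e0906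1e070f00000b1814040000000000002300001035001f001c322d423821333f70001b140b2e00000067710082474c7789000003000008070000000106040b000000000800000007000000001000000007180000000000060b0f100000000000002300001f35003100230035004a334123760000102700000000576700835d357d8d020000060204080003000400070000000500000001040306000000080b00040f180c0b0300000c17070f0000000000120d0021101c001f001c392d4633213358750c072027170000003946008041687c84010000020202020004000205030c0000050000000308030b0000000818000909062403030000122103030000000000000800000f0f0020000333084140213354780c14140b37000000000000874d647e900300000007000300080000000000000000000000000000000000000000000c180022001000001827000800000000000017000000280000003b0048003300002700001727003200000057670092413b00980000020303010200000008000f0000000b000300060b0306000000080b0006151d1e08080000000004030000000000110e0022201b003000031108221221334e7b180b262f2e0000005061008f21607f9700000100040a050000000106040b00000b00040002030f05000000200c00021a051d00070000060b130c0000000000110100221004001f00102c1f3d2b41525b651803290c2f000000384700883e6a6f91)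 (Nat.shiftLeft 
    (nat_lit 0x30000030005020008000205030c12210000000002030705000000100c000919060608000000050c0c030000000000110e00220f1b) (nat_lit 8000))) i1)))) (Nat.mul (nat_lit 81) i0) (Nat.mul (nat_lit 81) (Nat.succ i0)) List.nil) ((fun g0 : Nat → Nat => pk61l (fun i1 => (pk61y Oz Iz Gz (pk61d (nat_lit 17) 
    (nat_lit 0xc0009000000048000a0012000000040000c000a000480010000a00000004000280010000200038000c000400060001800000000000000000001007240383008682830025e078c00688288810e8075801858077003620301026d0106800540134017280038003800e000070077c021c010e01590a4a04b4605e80b0b057c0482c049810890152c206807820737016b017a2062507a00506814ec04c901c201c200226038405400179c0bce0047009f856dc0eca0bd8021b004fc12da06e3013201f18140200f70297010d80a660af9018a80878030e030f00238061c0a60066f0023804fc0000037604ef810d8027e0c4a08df80990062a0bb6007b814b8086c1084055f01f18117a018701878011c030e053000180000c000000aa0052005c00006004c02c88065c0344018800198069002e000e000aa001580112002c002c000c0005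8055702a60000008ea03b304ab80d4c1426019e012f8056808ee0023015d8141c151e049b02ac814d80466001701978a0b0454600001b0a04cf47aa80f2f1452009904d74240908b7017701ef20e081b6e05d283cb8187f043182c4002e8006200000058802780021006200228009800e4001700598004e018e010e8008c027c00250000804dc00b8005b000000b2c02b4003f005b8011c0570010500df00e140026003a00cd80a8c0732015b00a407fdc3ff00fcc3e208161cfb4e00c048a782fb89b5e2ab628838af7c19a6407b386d9360c7d223de01eef858eeb9d87f78735908b3f350c44f54f5a0827dc7741fd70eb0aaab9b4e0812e0eba075cc279828280bb1863280c7e0e960a1080c30370627860a7d8331819b22110) i1))) (g0 i0) (g0 (Nat.succ i0)) List.nil) fun j => (pk61d (nat_lit 9) 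
    (nat_lit 0x23d0273b35689c429bcb446198842000) j)) (pk61o On In (pk61d (nat_lit 16) 
    (nat_lit 0x504c7151e0adc07a40284055e1b0c01d602a240a3a4ce26f7) i0)) (pk61o On In (pk61d (nat_lit 67) 
    (nat_lit 0x360c3b0640000191a6e3f800800003c958078cb29400001e9a5cd9f61a000002137e45c40440000007b1f763175c0000040ddba89f5980000cb69662dd7050000001a81bf8f03a8000007bda06cfb140002652d4a8e5b7a80021517caefcce4b00004045cfdc85633000) i0)))) (nat_lit 0) (nat_lit 13) tl : List Lev))
    = ?xq9004 → (List Lev)) ?hq9004; (case hq9004 => (set_option maxRecDepth 1000000 in conv => lhs; reduce)); intro _; exact ?xq9004 (@OfNat.ofNat Nat) instOfNatNat (@OfNat.ofNat Int) (@instOfNat) (@Neg.neg Int Int.instNegInt) y0 : List Lev)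
  (by
  refine (?fq9005 : (fun (On : (n : Nat) → OfNat Nat n → Nat) (In : (n : Nat) → OfNat Nat n) (Oz : (n : Nat) → OfNat Int n → Int) (Iz : (n : Nat) → OfNat Int n) (Gz : Int → Int) (tl : List Lev) => (pk61l (fun i0 => (_root_.Cfsg.Agent.TAB.Cov.Lev.mk (pk61l (fun i1 => (pk61y Oz Iz Gz (pk61d (nat_lit 18) 
    (nat_lit 0x2b30884e3d59845660d09c82e830ba0b2b308acc1266405d061741452b01331c2957091b01235042ec0fbf0275c085e01f8007df01b8c05e8013b003f000fbc037f00dc8036000d4c034300cec031700bcc02e000b3c0240008fc01f80071001c0006fc01af006a801a200678018c005e8016f005a001200047c00fb0038400e00035c00b4002cc009f0026000900023c0087002100080001f80073001b0006b001a000600016800590015c005400140004b00120004700110004100100003f000ec003a000e00037000d80035000cc0030000bc002c000a400240008c00200007c001e00070001b0006000170005400140004c00120004400100003c000e00034000c0002c000a0002400080001c00060001400040000c0002000040000) (pk61d (nat_lit 7) (Nat.add 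
    (nat_lit 0x1cdcdecfe4100001810b0e0018008003800000280000008406180000020580083cb8c160c0001858b90000000000486803a40c803600cb54d0d79d5f3348c0e71096000003586038bfb5b3a8000000000e1c0000000000000000000000072000408000000f1e4000062000000000010200000000000000000000000000000000000000000006c00084000000000000000000002000010a00180080018010000000a00000040c1821000008063c18800b420c0000616002000000000122a00e8f4000e00404999d5f0e5c6c83040f00f800000d6180e2fe9e8ea080000414081000c0020a0c6000014000000000400000000e00011026888318000123a10200000000000700001ea801c006002700ecf2e8fa861e08a4f00000000001da455dbf0300020428c000058006004000000280080030b06244000020a0f2e0c5aa0830000165cb00000000000444803c3ca0038001911078e9d5ec240c4220bbc00000348802daf835b30200001050c04003001428c180000500000000010000000038000440ac220c6000048e8b080000000000000000000000001e00b803b3cba7ea187823d3c00000000007691776fc080000006101800e00306162c00016000000000180000000800006031874008000089e0e200000000000000000000000003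a017803a757ceca5cb082cbc0000000000f6bee6bfc0c001002018000200052430e80000000400000000000000000000c005cf001e000123a20000000000000000000000000000000000b8000a4000160085700000000001ea06001f408002080830000200080038000003000800207000c400000040f0800b2306100001858400000000000008000040d80360082e370173f955318b0e01137000004bb203840c5a79000000187100000000005802e0000000000000010000000038000008210020800000000f000000000000000000000000001e00b8000915a4e90000db600000000000000016360002000010c08080080030516300000c0000006201840e000080e404820a0420b000089e061000000000002e00000420000018b8b4024e62d19a2ca0318100000000000ee76fdbf6080000204302000c0010a106000018000000000400000000e00006144888408000113c2c1800000000006c00036ac02b00100070048f2e51b858b2674f00000000001dcebadfec080020810202002000c1458c000028008000000800000001c0000a04f92060c00022781840000000000000000000000000f005c0129e5c4750c181191d00000000003a383db7c0100040850600004000c00800000050010001080c0870000404201c18b3610600002cb8800000000000889007879400700032220f1d3abd84818404175600000691005b5f06b66)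 (Nat.shiftLeft 
    (nat_lit 0x400204041060010004001c0000018003000c4001600000005c00e0a48f83080001d5e0c5800000000001c000204001b006d72b8092557a184598187590000) (nat_lit 8000))) i1)))) (Nat.mul (nat_lit 81) i0) (Nat.mul (nat_lit 81) (Nat.succ i0)) List.nil) ((fun g0 : Nat → Nat => pk61l (fun i1 => (pk61y Oz Iz Gz (pk61d (nat_lit 15) 
    (nat_lit 0x7940f2450786681b787a50031a23a02e637500810f861d541fdcacd297b52f9d3c65fb7a429a3cd3e97d225cb51589c2107ab9afa99732ae6560c01329af6a5886aaae9c47460ca098688001ac2dc3298654055435e44d11419008a442c965923b1ab009d8045008908402be017f02e806982cf019c025f02a82438486818d19822f1014e8a49059634dc01c05fe0bfa1254463075c042c04445c007d405540aa4023025a0458104807e8420008c011404300f2023806c8011007500ec00f8061003b016a0018002800b000200180010001002600080020003000400080008001) i1))) (g0 i0) (g0 (Nat.succ i0)) List.nil) fun j => (pk61d (nat_lit 7) 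
    (nat_lit 0xf1a6dce84dd6a4385478a0c0c080) j)) (pk61o On In (pk61d (nat_lit 16) 
    (nat_lit 0x1613832a4cd014cc0b290dbe089c047201ca0179000c00150009000e0008) i0)) (pk61o On In (pk61d (nat_lit 66) 
    (nat_lit 0x1585a0e887be2c00b51e7e3a7d4754000fc194d0e8e07800004ff193fda992000005cebb2289bf500001eb33badebfa400002f5dd4c672ce000003d49d1ad17880000032f1a0cffe30000008703c0b0e8c000000008b52ba49000000006d4beed3c000000004baab908c000000025d55c846000000002cd6f264000) i0)))) (nat_lit 0) (nat_lit 15) tl : List Lev))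
    = ?xq9005 → (List Lev)) ?hq9005; (case hq9005 => (set_option maxRecDepth 1000000 in conv => lhs; reduce)); intro _; exact ?xq9005 (@OfNat.ofNat Nat) instOfNatNat (@OfNat.ofNat Int) (@instOfNat) (@Neg.neg Int Int.instNegInt) y1 : List Lev)

/-- the primes and the sections -/
noncomputable def plU : List (ℕ × ℕ × List ℕ) :=
  (by
  refine (?fq9006 : ((pk61l (fun i1 => (_root_.Prod.mk (pk61d (nat_lit 4) 
    (nat_lit 0xd7532) i1) (_root_.Prod.mk (pk61d (nat_lit 4) 
    (nat_lit 0x111a9) i1) ((fun g1 : Nat → Nat => pk61l (fun i2 => (pk61d (nat_lit 7) 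
    (nat_lit 0x8008040201791202c386080808090fdf2e5aa13a61e3868c160c101012602b54a530f14244070c14200) i2)) (g1 i1) (g1 (Nat.succ i1)) List.nil) fun j => (pk61d (nat_lit 6) 
    (nat_lit 0xc2eaa03c0) j))))) (nat_lit 0) (nat_lit 5) List.nil) : List (ℕ × ℕ × List ℕ))
    = ?xq9006 → (List (ℕ × ℕ × List ℕ))) ?hq9006; (case hq9006 => (set_option maxRecDepth 1000000 in conv => lhs; reduce)); intro _; exact ?xq9006 : List (ℕ × ℕ × List ℕ))

/-- the certificates -/
noncomputable def clU : List (ℕ × ℕ × List Cert) :=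
  let y0 : List (ℕ × ℕ × List Cert) := (by
  refine (?fq9007 : (pk61l (fun i0 => (_root_.Prod.mk (pk61d (nat_lit 4) 
    (nat_lit 0xd75) i0) (_root_.Prod.mk (nat_lit 1) ((fun g0 : Nat → Nat => pk61l (fun i1 => (_root_.Cfsg.Agent.TAB.Eng.Cert.mk (pk61d (nat_lit 6) 
    (nat_lit 0x100404040bd140b1c6102040) i1) (pk61l (fun i2 => _root_.Cfsg.Agent.TAB.Eng.Op.one) (Nat.mul (nat_lit 1) i1) (Nat.mul (nat_lit 1) (Nat.succ i1)) List.nil) (pk61l (fun i2 => (_root_.Prod.mk (nat_lit 0) (nat_lit 1))) (Nat.mul (nat_lit 1) i1) (Nat.mul (nat_lit 1) (Nat.succ i1)) List.nil))) (g0 i0) (g0 (Nat.succ i0)) List.nil) fun j => (pk61d (nat_lit 5) 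
    (nat_lit 0x83940) j))))) (nat_lit 0) (nat_lit 3) List.nil : List (ℕ × ℕ × List Cert))
    = ?xq9007 → (List (ℕ × ℕ × List Cert))) ?hq9007; (case hq9007 => (set_option maxRecDepth 1000000 in conv => lhs; reduce)); intro _; exact ?xq9007 : List (ℕ × ℕ × List Cert))
  let y1 : List (ℕ × ℕ × List Cert) := (by
  refine (?fq9008 : (fun (tl : List (ℕ × ℕ × List Cert)) => (pk61l (fun i0 => (_root_.Prod.mk (nat_lit 3) (_root_.Prod.mk (nat_lit 10) (pk61l (fun i1 => (_root_.Cfsg.Agent.TAB.Eng.Cert.mk (pk61d (nat_lit 7) 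
    (nat_lit 0x487ef972d509d30f1c3460b0608080) i1) ((fun g1 : Nat → Nat => pk61l (fun i2 => (pk61f (pk61d (nat_lit 7) 
    (nat_lit 0x8d15180890d100850508080fd0007cf4f8078ecf0074e4e8070dce006cd5a333668c8064c582f1e60b805cb562b1c58a8054a5414269d325488d112224078e008501f3c7468c1628e1b3464c172c54a131a3058a12244070c00911203c70d182c509101c305081420304203860a1018202001820200080) i2) fun u16 => (pk61f (pk61d (nat_lit 2) 
    (nat_lit 0xf4f4f4f4f4f4f4f4ff54ff94ff94fd7ffd553ff55fffffaa954fffffaa957ffffaa5) i2) fun t2_6 => (pk61c (Nat.div t2_6 (nat_lit 2)) (pk61c (Nat.div t2_6 (nat_lit 1)) _root_.Cfsg.Agent.TAB.Eng.Op.one fun _ => (_root_.Cfsg.Agent.TAB.Eng.Op.gen (pk61d (nat_lit 1) 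
    (nat_lit 0x512aaaa) u16) (pk61d (nat_lit 3) 
    (nat_lit 0x3c9a57a49289312252252252249) u16) (nat_lit 0))) fun _ => (pk61c (Nat.div t2_6 (nat_lit 3)) (_root_.Cfsg.Agent.TAB.Eng.Op.mul (pk61d (nat_lit 3) 
    (nat_lit 0x275b1c963689) u16) (pk61d (nat_lit 3) 
    (nat_lit 0x2d4946db248) u16)) fun _ => (_root_.Cfsg.Agent.TAB.Eng.Op.lin ((fun g2 : Nat → Nat => pk61l (fun i3 => (_root_.Prod.mk (pk61d (nat_lit 16) 
    (nat_lit 0x199c500030001721c001b000199c50003000199c5000300014add000300012671000300012671000300013c0100510001cd07000999c5000349784cda94bf001b0001d370000399c54ce700014ce0e6a599d200012671000334dc3e79b9cfc0394ce373552673d9d88025000134dc0003d3704ce7b36980208029199bb369936cc69b802564ea2344e50b3cce033ce04b73550cd2e263df6cb3670f51d1ed6df64c9ec1e9b08ea344d59396ed00014add0003b9cf59bdc9d4935d6017a6b3a58549b08cfa3042c40c206b416a8625da612609dd6d683d7ae568c42883d39bb1bb3c7cca11c291a9260ebb21aba6b6169c6bf7b5cee49684b421cacda1c34296ae65ee56ec51e5d808968a74f7e21bb1928d93d21c526143bc833264613342dbfca1c348ab8025c19b735573536a108a3d0cde99c6c00fc7296c18b881d5936684bbf27ad7119d0933ab9de4cc4b4e4b33737dd5cc20bdc28fdb08601ad887e2712e327122b9bbcb222c4c4ce3088b5261219041b3171188b08ece9dd2cf983b4657dbdedba959695d1e60d40fabe199c6cc159cc538980d2688d4380148243c3981182baa222c2ab7bd87de1e57543342088b)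 i3) (pk61d (nat_lit 5) 
    (nat_lit 0x400880110022004400880110022004c428880088662144400443310a218022104415212640ca710c8530022190a62986428443200221ca117414d73d4c7212a5b1a63a12a5b08531d0952c23214c74254008864298e84c1f06b9e9635ca618e952d863a54b110a63a12a08864298e8488642a18b6254b3a12a31d09218e810c8531c43214c110c85) i3))) (g2 u16) (g2 (Nat.succ u16)) List.nil) fun j => (pk61d (nat_lit 8) 
    (nat_lit 0xdad9d7d6d4d3d1d0cecdcbcac8c7c5c4c2c1bfbdb9b8b6b4b0afadaba8a7a5a4a3a19f9c9791908e8b878382807e7a77716a62594f4e4c4945433d38302722211f1c1814100a0500) j)))))))) (g1 i1) (g1 (Nat.succ i1)) List.nil) fun j => (pk61d (nat_lit 8) 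
    (nat_lit 0x8884807c7874706c686058504b3f36220f00) j)) ((fun g1 : Nat → Nat => pk61l (fun i2 => (_root_.Prod.mk (pk61d (nat_lit 4) 
    (nat_lit 0x1010101010101010321032103210310543210432109876543210a986543210a98543210) i2) (pk61d (nat_lit 15) 
    (nat_lit 0x4ce311160b640798051003600240018001) (pk61d (nat_lit 4) 
    (nat_lit 0x10301010101010403120211021108213221107233232332232106324526332773674743) i2)))) (g1 i1) (g1 (Nat.succ i1)) List.nil) fun j => (pk61d (nat_lit 7) 
    (nat_lit 0x23c58705fbd76e5bb35ead4223a4c480) j)))) (nat_lit 0) (nat_lit 17) List.nil)))) (nat_lit 0) (nat_lit 1) tl : List (ℕ × ℕ × List Cert)))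
    = ?xq9008 → (List (ℕ × ℕ × List Cert))) ?hq9008; (case hq9008 => (set_option maxRecDepth 1000000 in conv => lhs; reduce)); intro _; exact ?xq9008 y0 : List (ℕ × ℕ × List Cert))
  (by
  refine (?fq9009 : (fun (tl : List (ℕ × ℕ × List Cert)) => (pk61l (fun i0 => (_root_.Prod.mk (nat_lit 2) (_root_.Prod.mk (nat_lit 9) (pk61l (fun i1 => (_root_.Cfsg.Agent.TAB.Eng.Cert.mk (pk61d (nat_lit 7) 
    (nat_lit 0x12602b54a530f14244070c14200) i1) ((fun g1 : Nat → Nat => pk61l (fun i2 => (pk61f (pk61d (nat_lit 7) 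
    (nat_lit 0x10e11d010603f7c60e1b00f5e3b346403a72e0c1700ddb1600d5a33645ca9400c582f5cb562b54a49922c54894203c0284e992a446389921a300224280f9e3a4480f162801c3668c982e58a941c244071a303050800992224078e1a3058a1628483101c30200244070c142030404005080c0820200000) i2) fun u16 => (pk61f (pk61d (nat_lit 2) 
    (nat_lit 0x3d3fe53f53f53d3fe53ffff5a653ffda53ffea53ffff95a54fffffa9a93ffffea6a4) i2) fun t2_6 => (pk61c (Nat.div t2_6 (nat_lit 2)) (pk61c (Nat.div t2_6 (nat_lit 1)) _root_.Cfsg.Agent.TAB.Eng.Op.one fun _ => (_root_.Cfsg.Agent.TAB.Eng.Op.gen (pk61d (nat_lit 1) 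
    (nat_lit 0x3a09112c) u16) (pk61d (nat_lit 3) 
    (nat_lit 0x3d2cb3e92592d96592c9249) u16) (pk61d (nat_lit 1) 
    (nat_lit 0xc438a) u16))) fun _ => (pk61c (Nat.div t2_6 (nat_lit 3)) (_root_.Cfsg.Agent.TAB.Eng.Op.mul (pk61d (nat_lit 3) 
    (nat_lit 0x1319251392562215888) u16) (pk61d (nat_lit 2) 
    (nat_lit 0x214144800800) u16)) fun _ => (_root_.Cfsg.Agent.TAB.Eng.Op.lin ((fun g2 : Nat → Nat => pk61l (fun i3 => (_root_.Prod.mk (pk61d (nat_lit 9) 
    (nat_lit 0x1e0c180283493fe074755839ac012a809aa8300b1c04d5c0804d60600807245581a3df3daab0058e041cc0fb4f2efc55201de604f977062989dd70c620354154003026d1b09d97134c02e031e81e32290a0080068e85eda27a33d8bf79357fdc4e011fc9ebf4e8f40657c036dc2f6d06d1779e3f4dbdf8d16020e833741f4c61a1e801a3c19da021cf4e00ab2f3430494558481d94cbd78c02cb8edc92626e376be584606ca33195342fe9300f060c292e7155696e3f3b8d43c014bb5d01ce41bcd0dbc8acd4df03d93fa364391a8078c051acd4881939f68fc6c19c1c931c2a15c4a77ac094009ac0c017a24c03e6758884521392ea21e1a07e96039e9678bb4c492a472c86668e68f324651ad58b86337218b21c3bc3ced2c2e0ced6079c194)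 i3) (pk61d (nat_lit 5) 
    (nat_lit 0x2004c328c800886410c01208600880130ca3200221c1cf3b5ca5b1a74a96c2990952c674a822190c74240110ca63a90931d04298e2190a60044321548498e8214c710c8530022190b1741cf5b1c952d8d3a54c21909584653a14010c8531d098be0a73d096b90b634c74a96c194c84a963214e84a822190a63a12008864298e88be0a73d096b90b698e952d832990952c64298e84a822190a63a12008864298e8) i3))) (g2 u16) (g2 (Nat.succ u16)) List.nil) fun j => (pk61d (nat_lit 9) 
    (nat_lit 0x101803f9fafb7cbd5e8f2783bddaeb753a1cee571b7dbcdc6cb55a0ca632f96eb65a2c55aa8512853e9c4c24d1a8c452210a803e1dce26833994c45e2d1509a461e8d06631170a84e210d0481200) j)))))))) (g1 i1) (g1 (Nat.succ i1)) List.nil) fun j => (pk61d (nat_lit 8) 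
    (nat_lit 0x87837b7b756f6b636363514539261300) j)) ((fun g1 : Nat → Nat => pk61l (fun i2 => (_root_.Prod.mk (pk61d (nat_lit 4) 
    (nat_lit 0x10321021021010321087654321054321054321087654321098765432109876543210) i2) (pk61d (nat_lit 7) 
    (nat_lit 0x8042020804202021010108042020805010088042008080880840204024022008100882021010100820120210202012010080480840808048040201) i2))) (g1 i1) (g1 (Nat.succ i1)) List.nil) fun j => (pk61d (nat_lit 7) 
    (nat_lit 0x8909f3e76e1b3264c94a33a50500) j)))) (nat_lit 0) (nat_lit 15) List.nil)))) (nat_lit 0) (nat_lit 1) tl : List (ℕ × ℕ × List Cert)))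
    = ?xq9009 → (List (ℕ × ℕ × List Cert))) ?hq9009; (case hq9009 => (set_option maxRecDepth 1000000 in conv => lhs; reduce)); intro _; exact ?xq9009 y1 : List (ℕ × ℕ × List Cert))

/-- the columns -/
noncomputable def tgU (t : ℕ) : List ℤ := lvU.map fun l => nth l.v t

theorem seeds_chk : ∀ t < 81, nth (seeds.getD 0 []) t = (val t).1 ∧ 3 * nth (seeds.getD 1 []) t = (val t).2 := by
  decide +kernel

theorem vU_chk : ∀ t < 81, nth vU t = (if t = 40 then 48 else 0) - if dat.pwf t 9 = 40 then 16 else 0 := by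
  decide +kernel

theorem lvU_chk : okLev dat lvU [vU] [vU] = true := by decide +kernel

theorem dfs_chk : ∀ r ∈ [2, 3, 4, -2, -3, -4],
    dfs (fun _ _ => false) (3200 * dat.N) 9 lvU [r] (100 * (16 - r ^ 2).toNat) = true := by decide +kernel

theorem plU_chk : okPrimes dat plU = true ∧ (plU.all fun x => x.2.2.all fun t => hasQ clU x.1 t) = true := by
  decide +kernel

theorem clU_chk : ∀ y ∈ clU, chkQ dat y.1 y.2.1 (y.1 ^ y.2.1) seeds y.2.2 tgU 30 = true := by decide +kernel

end Cfsg.Agent.MK.C3L.O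
end

-- part: MK/C3L/OGS
section
prune_inst 0x7f00000000000000000000000000000000000000000000000000000000000000000000000000000000000000000000000000000000000000000000000000000000000000000000000000000000000000003fffffffffffffffffffffffffffbeffbdffffffff
set_option linter.all false
open scoped Cfsg.Agent.FastGrp

/-!
# MK, `3.Ω₇(3)` : sixteen faithful characters of odd degree (helper94)

The values of the faithful characters on the class `8B` are `0`, `1`, `-1`, and the centralizer has the order `16`.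
-/

set_option autoImplicit false
set_option maxRecDepth 100000

namespace Cfsg.Agent.MK.C3L.O

open Cfsg Subgroup Cfsg.Agent.H64.O73Perm Cfsg.Agent.H86.TI Cfsg.Agent.TAB.Eng Cfsg.Agent.TAB.Cov Cfsg.Agent.H51.Mult
open Cfsg.Agent.Fischer.Derived Cfsg.Agent.Fischer.Y322 Cfsg.Agent.Fischer.Y322Iso Cfsg.Agent.H407.TI
open Cfsg.Agent.Characters Cfsg.Agent.Characters.Core Cfsg.Agent.Characters.Brauer Cfsg.Agent.J3Type.CharTools
open scoped ComplexConjugate

/-- the types -/
noncomputable def td : TD Trip dat := exists_tdT.choose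

theorem td_mass : td.Mass := exists_tdT.choose_spec.1

theorem td_iff : ∀ g, ∀ i < dat.n, td.ty g = i ↔ Ty key dat val i g := exists_tdT.choose_spec.2

theorem td_val (g : Trip) : (fx g, fb g) = val (td.ty g) := by
  have h := ((td_iff g _ (td.lt g)).1 rfl).2 _ ((by decide +kernel : ∀ t < 81, (1, t) ∈ dat.pw t) _ (td.lt g))
  rwa [pow_one] at h

theorem virt_seeds : ∀ sd ∈ seeds, Virt td (nth sd) := by
  rw [show seeds = [seeds.getD 0 [], seeds.getD 1 []] from rfl]
  simp only [List.forall_mem_cons]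
  refine ⟨?_, ?_, fun _ h => by cases h⟩
  · have h : (fun g => ((nth (seeds.getD 0 []) (td.ty g) : ℤ) : ℂ)) = fun g => (fx g : ℂ) := funext fun g => by
      rw [(seeds_chk _ (td.lt g)).1, ← td_val, Int.cast_natCast]
    exact (congrArg (IsGeneralizedCharacter Trip) h).mpr gen_fx
  · have h : (fun g => ((nth (seeds.getD 1 []) (td.ty g) : ℤ) : ℂ)) = fun g => (fb g / 3 : ℂ) := funext fun g => by
      have h := congrArg (Int.cast : ℤ → ℂ) (seeds_chk _ (td.lt g)).2
      rw [← td_val] at h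
      push_cast at h
      linear_combination h / 3
    exact (congrArg (IsGeneralizedCharacter Trip) h).mpr gen_fb

theorem virt_lv : ∀ l ∈ lvU, Virt td (nth l.v) := fun l hl => by
  obtain ⟨i, hi, rfl⟩ := List.getElem_of_mem hl
  have h : nth lvU[i].v = fun t => nth (tgU t) i := funext fun t => by
    rw [nth_eq (tgU t), tgU, List.getD_eq_getElem _ _ (by rwa [List.length_map]), List.getElem_map]
  exact h ▸ virt_of_good card_trip plU_chk.1 fun x hx s hs => good_of_hasQ card_trip ⟨rfl, rfl, rfl⟩ virt_seeds clU_chk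
    (List.all_eq_true.1 (List.all_eq_true.1 plU_chk.2 x hx) s hs) i hi

/-- an element of order eight -/
def uu : Trip := ev y8 [7, 1, 2, 3, 6]

theorem ty_uu : td.ty uu = 40 := by
  obtain ⟨f, h1, r, h2, h3, h4⟩ : ∃ f ∈ fam, ∃ r ∈ f.1, r.w = [7, 1, 2, 3, 6] ∧ r.t.getD 0 0 = 40 := by decide +kernel
  have h := okT_spec okO (okT_fam f h1 r h2) (j := 0) (by decide)
  rw [pow_zero, one_mul, h3, h4] at h
  exact (td_iff _ 40 (by decide)).2 h

theorem uu_pow : uu ^ 8 = 1 := by
  have h := td.ord uu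
  rw [ty_uu] at h
  exact orderOf_dvd_iff_pow_eq_one.1 (dvd_of_eq h)

theorem cen_uu : Nat.card (centralizer {uu}) = 3 * Nat.card (centralizer {ev x8 [7, 1, 2, 3, 6]}) :=
  pi_ev _ ▸ ext_pi.card_cent (ext_pi.good_of_pow (n := 8) (by decide) uu_pow)

theorem one_uu : One td 40 := ⟨uu, ty_uu, by
  rw [cen_uu, card_trip]
  exact (Nat.mul_le_mul_left _ (Nat.mul_le_mul_left 3 c21)).trans (by decide +kernel)⟩

theorem cen_eq : Nat.card (centralizer {ev x8 [7, 1, 2, 3, 6]}) = 16 := by
  have h := one_uu.card td_mass ty_uu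
  rw [cen_uu, show dat.cnt 40 = 286584480 from rfl, show dat.N = 13756055040 from rfl] at h
  omega

section

variable [Fintype Trip] {χ : Trip → ℂ} {c : ℂ}

theorem sum_zero {f : Trip → ℂ} (h : ∀ x, f (zz * x) = c * f x) (h1 : c ≠ 1) : ∑ x, f x = 0 := by
  have h2 : ∑ x, f (zz * x) = _ := Equiv.sum_comp (Equiv.mulLeft zz) f
  simp only [h, ← Finset.mul_sum] at h2
  exact (mul_left_eq_self₀.1 h2).resolve_left h1

theorem re_pair {v : List ℤ} {a : ℤ} (h : ∑ x, χ x * nth v (td.ty x) = Nat.card Trip * a) :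
    ∑ x, 2 * (χ x).re * nth v (td.ty x) = 2 * 1 * dat.N * a := by
  have h1 := congrArg Complex.re (h.trans (show _ = ((dat.N * a : ℝ) : ℂ) by rw [td_mass.1]; push_cast; rfl))
  rw [Complex.re_sum, Complex.ofReal_re] at h1
  simp only [Complex.mul_re, Complex.intCast_re, Complex.intCast_im, mul_zero, sub_zero] at h1
  simp only [mul_assoc, ← Finset.mul_sum, h1, one_mul]

theorem sum_ip (v w : List ℤ) : ∑ x, (nth v (td.ty x) : ℝ) * nth w (td.ty x) = 1 * ip dat v w := by
  rw [sum_mass td_mass fun t => (nth v t : ℝ) * nth w t, ip, ipL_eq, one_mul]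
  push_cast
  exact Finset.sum_congr rfl fun t _ => nsmul_eq_mul _ _

/-- **the values on `8B`** -/
theorem val_uu (hχ : IsIrrCharacter Trip χ) (hz : ∀ x, χ (zz * x) = c * χ x) (h1 : c ≠ 1) (h3 : c ^ 3 = 1) {r : ℤ}
    (hr : χ uu = r) : r ^ 2 ≤ 1 := by
  have hc := isIrr_isCharacter hχ
  have h4 : ∑ x, 2 * (χ x).re * nth vU (td.ty x) = 2 * 1 * dat.N * r := re_pair (by
    have h4 : ∀ x, χ x * nth vU (td.ty x) = (if td.ty x = 40 then 48 * r else 0 : ℂ) -
        χ x * if td.ty (x ^ 9) = 40 then 16 else 0 := fun x => by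
      rw [vU_chk _ (td.lt x), td.pow, Int.cast_sub, mul_sub, apply_ite Int.cast, apply_ite Int.cast, Int.cast_zero,
        Int.cast_ofNat, Int.cast_ofNat]
      congr 1
      split_ifs with e
      · rw [← class_eq hc (one_uu.conj td_mass ty_uu e), hr, mul_comm]
      · exact mul_zero _
    simp only [h4, Finset.sum_sub_distrib]
    rw [sum_zero (f := fun x => χ x * if td.ty (x ^ 9) = 40 then 16 else 0) (fun x => by
      rw [hz, (zz_comm x).mul_pow, show 9 = 3 * 3 from rfl, pow_mul zz, zz_cube, one_pow, one_mul, mul_assoc]) h1,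
      sum_mass td_mass fun t => (if t = 40 then 48 * r else 0 : ℂ), card_trip]
    simp only [smul_ite, smul_zero, Finset.sum_ite_eq', Finset.mem_range, show 40 < dat.n by decide, if_true,
      show dat.cnt 40 = 286584480 from rfl, nsmul_eq_mul]
    push_cast
    ring)
  have h5 : ∀ l ∈ lvU, ∃ a : ℤ, ∑ x, 2 * (χ x).re * nth l.v (td.ty x) = 2 * 1 * dat.N * a := fun l hl => by
    obtain ⟨a, ha⟩ := H447.CTab.exists_mu (isGeneralizedCharacter_mul (isGeneralizedCharacter_of_isCharacter hc)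
      (virt_lv l hl)) ⟨1, isIrr_one⟩
    rw [classInner_def, inv_mul_eq_iff_eq_mul₀ card_ne_zero_complex] at ha
    exact ⟨a, re_pair (by simpa using ha)⟩
  have h2 : ∑ x, (2 * (χ x).re) ^ 2 = (2 * dat.N : ℝ) := by
    have h2 := classInner_irr_self hχ
    rw [classInner_def, inv_mul_eq_one₀ card_ne_zero_complex, td_mass.1] at h2
    have h6 := sum_zero (f := fun x => χ x * χ x) (c := c * c) (fun x => by rw [hz]; ring) fun e => h1 (by
      rw [← h3, pow_three, e, mul_one])
    have h7 := congrArg Complex.re (congrArg₂ (· + ·) h6 h2.symm)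
    simp only [← Finset.sum_add_distrib, Complex.re_sum, Complex.add_re, Complex.mul_re, Complex.conj_re,
      Complex.conj_im, Complex.natCast_re, zero_add] at h7
    rw [← h7, Finset.mul_sum]
    exact Finset.sum_congr rfl fun x _ => by ring
  have hN : (0 : ℝ) < dat.N := by exact_mod_cast (by decide +kernel : 0 < dat.N)
  have h6 : ∑ x, (2 * (χ x).re - r / 16 * nth vU (td.ty x)) ^ 2 = (2 * dat.N - 1 / 8 * dat.N * r ^ 2 : ℝ) := by
    have h6 := sum_ip vU vU
    rw [show ip dat vU vU = 32 * dat.N by decide +kernel] at h6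
    have h7 : ∀ x, (2 * (χ x).re - r / 16 * nth vU (td.ty x)) ^ 2 = (2 * (χ x).re) ^ 2 -
        r / 8 * (2 * (χ x).re * nth vU (td.ty x)) + r ^ 2 / 256 * (nth vU (td.ty x) * nth vU (td.ty x)) := fun x => by
      ring
    simp only [h7, Finset.sum_add_distrib, Finset.sum_sub_distrib, ← Finset.mul_sum, h2, h4, h6]
    push_cast
    ring
  have h7 : r ^ 2 ≤ 16 := by
    have h7 : 0 ≤ ∑ x, (2 * (χ x).re - r / 16 * nth vU (td.ty x)) ^ 2 := by positivity
    exact_mod_cast le_of_mul_le_mul_left (show dat.N * (r : ℝ) ^ 2 ≤ dat.N * 16 by linarith) hN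
  by_contra h8
  have h9 : r ∈ [2, 3, 4, -2, -3, -4] := by
    have h9 : r < 5 := by nlinarith
    have h10 : -5 < r := by nlinarith
    have h11 : r ≠ 0 ∧ r ≠ 1 ∧ r ≠ -1 := ⟨fun e => h8 (by rw [e]; decide), fun e => h8 (by rw [e]; decide),
      fun e => h8 (by rw [e]; decide)⟩
    simp only [List.mem_cons, List.not_mem_nil, or_false]
    omega
  obtain ⟨_, _, _, h10, -⟩ := bessel_dfs (h := fun x => 2 * (χ x).re) (I := 0) (W := fun t => r / 16 * nth vU t)
    one_pos le_rfl sum_ip lvU h5 lvU_chk (dfs_chk r h9) (.cons h4 .nil) (fun u hu => by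
      simp only [mul_assoc, ← Finset.mul_sum, sum_ip, hu vU List.mem_cons_self, Int.cast_zero, mul_zero]) (by
      have h10 : (((16 - r ^ 2).toNat : ℕ) : ℝ) = 16 - r ^ 2 := by
        exact_mod_cast Int.toNat_of_nonneg (sub_nonneg.2 h7)
      rw [h6, Nat.cast_mul, h10]
      push_cast
      linarith)
  cases h10

end

/-- **the count from a column** -/
theorem col_one {X G : Type} [Group X] [Group G] [Finite X] {φ : X →* G} (h : Ext (center X) φ) {U : X} {a c : ℕ}
    (hU : U ^ 2 ^ a = 1) (hr : ∀ m : ℕ, m.Coprime (orderOf U) → IsConj U (U ^ m))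
    (hc : Nat.card (centralizer ({φ U} : Set G)) = c) {l : X → ℂ} {m : center X →* ℂˣ} (hm : ∀ z : center X, l z = m z)
    (hno : ∀ χ : X → ℂ, IsIrrCharacter X χ → Over (center X) m χ → ∀ r : ℤ, χ U = r → r ^ 2 ≤ 1) :
    kk ⊤ (center X) l = c := by
  classical
  have := finite_irr (G := X)
  have := Fintype.ofFinite (IrrCharacter X)
  choose v hv using fun χ : IrrCharacter X => int_of_conj (isIrr_isCharacter χ.2) U hr
  set S := Finset.univ.filter fun χ : IrrCharacter X => Over (center X) m (χ : X → ℂ) with hS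
  have h2 : ∑ χ ∈ S, v χ ^ 2 = c := by
    have h3 := h.col_self m (h.good_of_pow (n := 2 ^ a) (fun e => absurd (Nat.prime_three.dvd_of_dvd_pow e)
      (by norm_num)) hU) hc
    simp only [hv, map_intCast, ← pow_two] at h3
    exact_mod_cast h3
  have h5 : ∀ χ ∈ S, v χ ^ 2 = if Odd (charDegree (χ : X → ℂ)) then 1 else 0 := fun χ hχ => by
    have h6 := hno χ χ.2 (Finset.mem_filter.1 hχ).2 _ (hv χ)
    have h7 : -2 < v χ := by by_contra h; nlinarith
    have h9 : v χ < 2 := by by_contra h; nlinarith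
    simp only [A.par (isIrr_isCharacter χ.2) hU (hv χ)]
    generalize v χ = w at h7 h9
    interval_cases w <;> decide
  rw [Finset.sum_congr rfl h5, Finset.sum_boole, Nat.cast_inj] at h2
  rw [kk_top, ← h2, ← Fintype.card_coe, ← Nat.card_eq_fintype_card]
  exact Nat.card_congr
    { toFun := fun χ => ⟨⟨χ.1, χ.2.1.1⟩, by
        simp only [hS, Finset.mem_filter, Finset.mem_univ, true_and]
        exact ⟨(S2.over_iff hm χ.2.1.1).2 χ.2.2, χ.2.1.2⟩⟩
      invFun := fun χ => ⟨χ.1.1, ⟨χ.1.2, (Finset.mem_filter.1 χ.2).2⟩,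
        (S2.over_iff hm χ.1.2).1 (Finset.mem_filter.1 (Finset.mem_filter.1 χ.2).1).2⟩
      left_inv := fun _ => rfl
      right_inv := fun _ => rfl }

open H133.FibPce in
/-- **the faithful characters of odd degree of `3.Ω₇(3)`** -/
theorem gs : S7.O7.GS H8 := fun X _ _ φ h1 h2 h3 h4 l m hl hm => by
  have : Fact (Nat.Prime 3) := ⟨Nat.prime_three⟩
  have := Fintype.ofFinite Trip
  have hφ : PCE φ := ⟨h1, h2.le, h4⟩
  have hπ : PCE pi := ⟨ext_pi.surj, ext_pi.ker.le.trans ext_pi.cen, perfect⟩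
  have h5 : Nat.card pi.ker = 3 := ext_pi.ker ▸ ext_pi.card
  rcases dichotomy hφ hπ (by rw [h5]; exact Nat.prime_three) ((h2 ▸ h3).trans h5.symm) with h | ⟨e, he⟩
  · have h6 : Nat.card (pj φ pi).ker = 3 ^ 2 := by
      rw [Nat.card_congr (kerFib φ pi).toEquiv, Nat.card_prod, h2, h3, h5, pow_two]
    exact absurd (h6 ▸ H64.O73Upper.card_ker_le (pce_fib hφ hπ h) (IsPGroup.of_card h6)) (by decide)
  have h6 : e.symm zz ∈ center X := by rw [← h2, MonoidHom.mem_ker, ← he, e.apply_symm_apply, pi_zz]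
  have hE : Ext (center X) φ := ⟨h1, h2, le_rfl, h3⟩
  refine col_one hE (U := e.symm uu) (a := 3) (by rw [← map_pow]; exact (congrArg _ uu_pow).trans (map_one _))
    (fun k hk => ?_) (by rw [← he, e.apply_symm_apply, uu, pi_ev, cen_eq]) hm fun χ hχ ho r hr => ?_
  · rw [← map_pow]
    exact e.symm.toMonoidHom.map_isConj (one_uu.conj td_mass ty_uu
      ((TD.pow_coprime (e.symm.orderOf_eq uu ▸ hk)).trans ty_uu))
  · refine val_uu (ODD.Red.isIrr_comp' e.symm.toMonoidHom e.symm.surjective hχ) (c := (m ⟨_, h6⟩ : ℂˣ))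
      (fun x => (congrArg χ (map_mul e.symm zz x)).trans (ho ⟨_, h6⟩ _)) (fun h7 => ?_) ?_ hr
    · have h8 := zz_ord
      rw [e.symm.map_eq_one_iff.1 (hl _ h6 ((hm ⟨_, h6⟩).trans h7)), orderOf_one] at h8
      cases h8
    · rw [← Units.val_pow_eq_pow_val, ← map_pow, show (⟨_, h6⟩ : center X) ^ 3 = 1 from Subtype.ext (hE.cube h6),
        map_one, Units.val_one]

/-- **the row of `3.Ω₇(3)`** -/
theorem o73 (F : Type) [Field F] [Fintype F] (hF : Fintype.card F = 3) : S.SmC (POmega F (quadFormOdd 3 F)) :=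
  S7.O7.o73_of (MulEquiv.refl H8) gs F hF

end Cfsg.Agent.MK.C3L.O

private theorem dce_7777996966e5 : _root_.True := by
  try have : _root_.True := by simp only [_root_.Cfsg.Agent.MK.C3L.O.uu.eq_1]
  try have : _root_.True := by simp only [_root_.Cfsg.Agent.MK.C3L.O.tgU.eq_1]
  exact _root_.True.intro
end

-- part: MK/C3L/GA
section
prune_inst 0x7f00000000000000000000000000000000000000000000000000000000000000000000000000000000000000000000000000000000000000000000000000000000000000000000000000000000000000003fffffffffffffffffffffffffffbeffbdffffffff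
set_option linter.all false
open scoped Cfsg.Agent.FastGrp

/-!
# MK, the triple cover of `G₂(3)`: tools from character theory (helper18)

* `norm_lt` : the norm inequality for representatives of classes of the quotient;
* `dih` : the congruence from a dihedral group of order `16`;
* `bad`, `exists_int`, `exists_sq` : zeros and integrality.
-/

set_option autoImplicit false
set_option maxHeartbeats 400000

namespace Cfsg.Agent.MK.C3L

open Cfsg Subgroup Cfsg.Agent.Characters Cfsg.Agent.Characters.Core Cfsg.Agent.H86.TI Cfsg.Agent.H407.TI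
open Cfsg.Agent.J3Type.CharTools
open scoped ComplexConjugate

variable {X G : Type} [Group X] [Group G] [Finite X] {φ : X →* G} {χ : X → ℂ} {m : center X →* ℂˣ}

omit [Finite X] in
theorem normSq_m (h : _root_.Cfsg.Agent.H86.TI.Ext (center X) φ) (z : center X) : Complex.normSq (m z : ℂˣ) = 1 := by
  have h1 : ((m z : ℂˣ) : ℂ) ^ 3 = 1 := by
    rw [← Units.val_pow_eq_pow_val, ← map_pow, show z ^ 3 = 1 from Subtype.ext (h.cube z.2), map_one, Units.val_one]
  have h2 := congrArg Complex.normSq h1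
  rwa [map_pow, map_one, pow_eq_one_iff_of_nonneg (Complex.normSq_nonneg _) (by norm_num)] at h2

omit [Finite X] in
theorem normSq_eq (h : _root_.Cfsg.Agent.H86.TI.Ext (center X) φ) (ho : Over (center X) m χ) {x y : X} (e : φ x = φ y) :
    Complex.normSq (χ x) = Complex.normSq (χ y) := by
  have h1 : x * y⁻¹ ∈ center X := h.mem_iff.2 (by rw [map_mul, map_inv, e, mul_inv_cancel])
  have h2 := ho ⟨_, h1⟩ y
  rw [show ((⟨_, h1⟩ : center X) : X) * y = x from inv_mul_cancel_right _ _] at h2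
  rw [h2, map_mul, normSq_m h, one_mul]

/-- **the norm inequality** -/
theorem norm_lt (h : _root_.Cfsg.Agent.H86.TI.Ext (center X) φ) (hχ : IsIrrCharacter X χ) (ho : Over (center X) m χ) {n : ℕ} (x : Fin n → X)
    (c : Fin n → ℕ) (hc : ∀ i, Nat.card (centralizer ({φ (x i)} : Set G)) ≤ c i) (h1 : ∀ i, φ (x i) ≠ 1)
    (hn : ∀ i j, IsConj (φ (x i)) (φ (x j)) → i = j) : ∑ i, Complex.normSq (χ (x i)) / c i < 1 := by
  classical
  have : Finite G := Finite.of_surjective φ h.surj
  have := Fintype.ofFinite X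
  have := Fintype.ofFinite G
  let f : G → ℝ := fun g => Complex.normSq (χ (Function.surjInv h.surj g))
  have h2 : ∀ y, f (φ y) = Complex.normSq (χ y) := fun y => normSq_eq h ho (Function.surjInv_eq h.surj _)
  have h3 : ∑ g, f g = Nat.card G := by
    have h4 := classInner_irr_self hχ
    rw [classInner_def, inv_mul_eq_one₀ card_ne_zero_complex] at h4
    simp only [Complex.mul_conj, ← h2] at h4
    rw [H829.GowDesc.sum_comp_surj φ h.surj fun g => (f g : ℂ), h.ker, h.card, h.card_E, Nat.cast_mul,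
      mul_right_inj' (by norm_num)] at h4
    exact_mod_cast h4.symm
  let S : Fin n → Finset G := fun i => Finset.univ.filter fun g => IsConj (φ (x i)) g
  have h4 : ∀ i, Complex.normSq (χ (x i)) / c i * Nat.card G ≤ ∑ g ∈ S i, f g := fun i => by
    have h5 := H447.CTab.card_class_mul (φ (x i))
    have h6 : (0 : ℝ) < c i := Nat.cast_pos.2 (Nat.card_pos.trans_le (hc i))
    rw [Finset.sum_congr rfl (g := fun _ => Complex.normSq (χ (x i))) fun g hg => ?_, Finset.sum_const, nsmul_eq_mul,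
      div_mul_eq_mul_div, div_le_iff₀ h6, mul_comm (_ : ℝ) (Complex.normSq _), mul_assoc]
    · refine mul_le_mul_of_nonneg_left ?_ (Complex.normSq_nonneg _)
      rw [← h5]
      exact_mod_cast Nat.mul_le_mul_left _ (hc i)
    · obtain ⟨k, rfl⟩ := isConj_iff.1 (Finset.mem_filter.1 hg).2
      obtain ⟨k, rfl⟩ := h.surj k
      rw [← map_inv, ← map_mul, ← map_mul, h2, isIrr_isClassFunction hχ]
  have h5 : ∑ i, ∑ g ∈ S i, f g < Nat.card G := by
    rw [← Finset.sum_biUnion fun i _ j _ hij => Finset.disjoint_left.2 fun g hi hj => hij (hn i j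
      ((Finset.mem_filter.1 hi).2.trans (Finset.mem_filter.1 hj).2.symm)), ← h3]
    refine Finset.sum_lt_sum_of_subset (Finset.subset_univ _) (Finset.mem_univ 1) (fun e => ?_) ?_
      fun _ _ _ => Complex.normSq_nonneg _
    · obtain ⟨i, -, hi⟩ := Finset.mem_biUnion.1 e
      exact h1 i (isConj_one_left.1 (Finset.mem_filter.1 hi).2)
    · rw [← map_one φ, h2]
      exact Complex.normSq_pos.2 (isIrr_apply_one_ne_zero hχ)
  have h6 := (Finset.sum_le_sum fun i (_ : i ∈ Finset.univ) => h4 i).trans_lt h5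
  rw [← Finset.sum_mul] at h6
  exact (mul_lt_iff_lt_one_left (Nat.cast_pos.2 Nat.card_pos)).1 h6

omit [Finite X] in
/-- **a dihedral group of order `16`** -/
theorem dih (hχ : IsCharacter X χ) {U R : X} (hU : U ^ 8 = 1) (hR : R * R = 1) (hRU : R * U * R = U⁻¹) {a : ℂ}
    (ha : ∀ i : ℕ, χ (R * U ^ i) = a) : ∃ n : ℕ, ∑ i ∈ Finset.range 8, χ (U ^ i) + 8 * a = 16 * n := by
  obtain ⟨n, hn⟩ := classInner_isNat (isCharacter_comp (LFourA.SylDih.dih U R hU hR hRU) hχ) isCharacter_one
  rw [classInner_def, DihedralGroup.nat_card, inv_mul_eq_iff_eq_mul₀ (by norm_num),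
    ← (DihedralGroup.equivSum (n := 8)).symm.sum_comp, Fintype.sum_sum_type] at hn
  refine ⟨n, Eq.trans ?_ (hn.trans (by norm_num))⟩
  simp only [Pi.one_apply, map_one, mul_one]
  refine congrArg₂ (· + ·) (Fin.sum_univ_eq_sum_range (fun i => χ (U ^ i)) 8).symm ?_
  rw [Finset.sum_congr rfl (g := fun _ => a) fun i _ => ha i.val]
  simp

omit [Finite X] in
/-- a character vanishes at an element which is moved in its coset -/
theorem bad (h : _root_.Cfsg.Agent.H86.TI.Ext (center X) φ) (hχ : IsCharacter X χ) (ho : Over (center X) m χ) (hm : ∀ z, m z = 1 → z = 1)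
    {a b : X} (h1 : φ a * φ b = φ b * φ a) (h2 : a * b ≠ b * a) : χ b = 0 := by
  have h3 : a * b * a⁻¹ * b⁻¹ ∈ center X := h.mem_iff.2 (by simp only [h1, _root_.map_mul, _root_.map_inv, _root_.mul_inv_cancel_right, _root_.mul_inv_cancel])
  have h4 := ho ⟨_, h3⟩ b
  rw [show ((⟨_, h3⟩ : center X) : X) * b = a * b * a⁻¹ from inv_mul_cancel_right _ _,
    isCharacter_isClassFunction hχ] at h4
  by_contra h5
  have h6 := congrArg Subtype.val (hm _ (Units.ext (mul_right_cancel₀ h5 (h4.symm.trans (one_mul _).symm))))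
  exact h2 (mul_inv_eq_iff_eq_mul.1 (mul_inv_eq_one.1 h6))

variable (hc : IsCharacter X χ) (hσ : ∀ σ : ℂ ≃+* ℂ, (∀ z : ℂ, z ^ 3 = 1 → σ z = z) → ∀ x, σ (χ x) = χ x)
include hc hσ

omit [Finite X] in
theorem pow_eq {y : X} {n j : ℕ} (hy : y ^ n = 1) (hn : n ≠ 0) (hj : j.Coprime n) (h3 : j % 3 = 1) :
    χ (y ^ j) = χ y := by
  have h6 : 3 * n ≠ 0 := mul_ne_zero (by norm_num) hn
  obtain ⟨σ, h7⟩ := GaloisBasic.exists_ringEquiv_pow h6 (m := j) (Nat.Coprime.mul_right
    ((Nat.Prime.coprime_iff_not_dvd Nat.prime_three).2 (by omega)).symm hj)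
  rw [← GaloisBasic.map_apply (σ : ℂ →+* ℂ) h7 hc h6 (by rw [mul_comm, pow_mul, hy, one_pow])]
  refine hσ σ (fun z hz => ?_) y
  rw [h7 z (by rw [pow_mul, hz, one_pow]), ← Nat.div_add_mod j 3, h3, pow_succ, pow_mul, hz, one_pow, one_mul]

omit [Finite X] in
theorem pow_odd {y : X} (hy : y ^ 8 = 1) {j : ℕ} (hj : Odd j) : χ (y ^ j) = χ y := by
  have h1 : y ^ (9 * j + 16) = y ^ j := by
    rw [show 9 * j + 16 = j + 8 * (j + 2) by ring, pow_add, pow_mul, hy, one_pow, mul_one]
  rw [← h1]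
  refine pow_eq hc hσ hy (by norm_num) ?_ (by omega)
  rw [show 8 = 2 ^ 3 from rfl]
  refine (Nat.coprime_two_right.2 ?_).pow_right 3
  obtain ⟨k, rfl⟩ := hj
  exact ⟨9 * k + 12, by ring⟩

theorem exists_int (h2 : 2 ∣ Nat.card X) {y : X} (hy : y ^ 8 = 1) : ∃ e : ℤ, χ y = e :=
  GaloisBasic.exists_int_of_rat hc y ((GaloisBasic.exists_rat_iff hc y).2 fun _ hj =>
    pow_odd hc hσ hy (Nat.coprime_two_right.1 (hj.coprime_dvd_right h2)))

theorem exists_sq (h3 : 3 ∣ Nat.card X) (y : X) : ∃ n : ℤ, (χ * fun g => conj (χ g)) y = n := by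
  have h1 := isCharacter_mul hc (isCharacter_conj hc)
  refine GaloisBasic.exists_int_of_rat h1 y ((GaloisBasic.exists_rat_iff h1 y).2 fun j hj => ?_)
  have h2 : ¬ 3 ∣ j := fun e => by
    have h4 := Nat.eq_one_of_dvd_coprimes hj e h3
    omega
  have h4 : 0 < Nat.card X := Nat.card_pos
  simp only [Pi.mul_apply]
  by_cases h5 : j % 3 = 1
  · rw [pow_eq hc hσ pow_card_eq_one' h4.ne' hj h5]
  · obtain ⟨N, hN⟩ : ∃ N, Nat.card X = N + 1 := ⟨_, (Nat.sub_add_cancel h4).symm⟩
    have h6 : (y⁻¹) ^ (N * j) = y ^ j := by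
      rw [pow_mul, inv_pow, inv_eq_of_mul_eq_one_right (by rw [← pow_succ, ← hN, pow_card_eq_one'])]
    have h7 : N % 3 = 2 := by omega
    rw [← h6, pow_eq hc hσ pow_card_eq_one' h4.ne' (Nat.Coprime.mul_left (by rw [hN]; simp) hj)
      (by rw [Nat.mul_mod, h7, show j % 3 = 2 by omega]), isCharacter_apply_inv hc, Complex.conj_conj, mul_comm]

omit hc hσ

/-- the arithmetic -/
theorem arith {d a b c e f p q : ℤ} (h1 : 16 ∣ d + 9 * a + 2 * b + 4 * e) (h2 : 16 ∣ d + 9 * a + 2 * c + 4 * f)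
    (h3 : 2 ∣ e - b) (h4 : 2 ∣ b - a) (h5 : 2 ∣ c - a) (h6 : 2 ∣ f - c) (h7 : 2 ∣ p) (h8 : 3 ∣ p - b * b) (h9 : 2 ∣ q)
    (h10 : 3 ∣ q - c * c) (h11 : 0 ≤ p) (h12 : 0 ≤ q)
    (h13 : 12 * (e * e) + 12 * (f * f) + b * b + c * c + 8 * p + 8 * q < 96) : e ≠ 2 ∧ e ≠ -2 := by
  by_contra h
  have h14 : e * e = 4 := by
    rw [not_and_or, not_not, not_not] at h
    rcases h with rfl | rfl <;> rfl
  have h15 := mul_self_nonneg b
  have h16 := mul_self_nonneg c
  have h17 := mul_self_nonneg f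
  have h18 : -2 < f := by nlinarith only [h11, h12, h13, h14]
  have h19 : f < 2 := by nlinarith only [h11, h12, h13, h14]
  have h20 : -7 < b := by nlinarith only [h11, h12, h13, h14]
  have h21 : b < 7 := by nlinarith only [h11, h12, h13, h14]
  have h22 : -7 < c := by nlinarith only [h11, h12, h13, h14]
  have h23 : c < 7 := by nlinarith only [h11, h12, h13, h14]
  obtain rfl : f = 0 := by (clear * - h3 h4 h5 h6 h h18 h19; omega)
  have h24 : 8 ∣ b - c + 4 := by (clear * - h1 h h2; omega)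
  have h25 : 2 ∣ b := by (clear * - h6 h24; omega)
  clear h1 h2 h3 h4 h5 h6 h
  interval_cases b <;> interval_cases c <;> (clear * - h24 h11 h12 h14 h10 h13 h25 h7 h8 h9; omega)

/-- the data in the quotient -/
structure Dt (z u r x : G) : Prop where
  u4 : u ^ 4 = z
  rr : r * r = 1
  ru : r * u * r * u = 1
  x3 : x ^ 3 = 1
  xu : x * u ^ 2 = u ^ 2 * x
  c1 : Nat.card (centralizer ({u} : Set G)) = 8
  c2 : Nat.card (centralizer ({u ^ 2} : Set G)) ≤ 96
  c3 : Nat.card (centralizer ({u ^ 2 * x} : Set G)) ≤ 12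

/-- what one half of the data gives -/
theorem half (h : _root_.Cfsg.Agent.H86.TI.Ext (center X) φ) (hc : IsCharacter X χ) (ho : Over (center X) m χ) (hm : ∀ z, m z = 1 → z = 1)
    (hσ : ∀ σ : ℂ ≃+* ℂ, (∀ z : ℂ, z ^ 3 = 1 → σ z = z) → ∀ x, σ (χ x) = χ x) {z r : G} {U T A B : X}
    (h1 : z ≠ 1) (hz : ∀ t : G, t ≠ 1 → t * t = 1 → IsConj t z) (D : Dt z (φ U) r (φ B))
    (hU : U ^ 8 = 1) (hT : U ^ 4 = T) (h3 : φ A * φ B = φ B * φ A) (h4 : A * B ≠ B * A) (h5 : φ A * z = z * φ A)
    {d a : ℤ} (hd : χ 1 = d) (ha : χ T = a) :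
    ∃ b e p : ℤ, χ U = e ∧ χ (U ^ 2) = b ∧ Complex.normSq (χ (U ^ 2 * B)) = p ∧ 16 ∣ d + 9 * a + 2 * b + 4 * e ∧
      2 ∣ e - b ∧ 2 ∣ b - a ∧ 2 ∣ p ∧ 3 ∣ p - b * b := by
  have h6 : φ T = z := by rw [← hT, map_pow, D.u4]
  have h7 : T ^ 2 = 1 := by rw [← hT, ← pow_mul, hU]
  have h8 : orderOf T = 2 := by
    have := Fact.mk Nat.prime_two
    exact orderOf_eq_prime h7 fun e => h1 (by rw [← h6, e, map_one])
  have h9 : 2 ∣ Nat.card X := h8 ▸ _root_.orderOf_dvd_natCard T
  have h10 : (U ^ 2) ^ 8 = 1 := by rw [← pow_mul, mul_comm, pow_mul, hU, one_pow]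
  obtain ⟨e, he⟩ := exists_int hc hσ h9 hU
  obtain ⟨b, hb⟩ := exists_int hc hσ h9 h10
  obtain ⟨p, hp⟩ := exists_sq hc hσ (h.card_E ▸ Dvd.intro _ rfl) (U ^ 2 * B)
  obtain ⟨R, rfl, hR⟩ := h.exists_lift r (n := 2) (by norm_num) (by rw [pow_two, D.rr])
  rw [pow_two] at hR
  have h11 : R⁻¹ = R := inv_eq_of_mul_eq_one_left hR
  have h12 : R * U * R = U⁻¹ := h.inj_of (m := 8) (n := 8) (by norm_num) (by norm_num)
    (by rw [show R * U * R = R * U * R⁻¹ by rw [h11], conj_pow, hU, mul_one, mul_inv_cancel])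
    (by rw [inv_pow, hU, inv_one]) (by rw [map_mul, map_mul, map_inv]; exact eq_inv_of_mul_eq_one_left D.ru)
  have h13 : ∀ i : ℕ, R * U ^ i * R = (U ^ i)⁻¹ := fun i => by
    rw [← inv_pow, ← h12, show R * U * R = R * U * R⁻¹ by rw [h11], conj_pow, h11]
  have h14 : ∀ i : ℕ, (R * U ^ i) ^ 2 = 1 := fun i => by rw [pow_two, ← mul_assoc, h13, inv_mul_cancel]
  obtain ⟨n, hn⟩ := dih hc hU hR h12 (a := a) fun i => by
    rw [← ha]
    refine class_eq hc (h.isConj_of (m := 2) (n := 2) (by norm_num) (by norm_num) (h14 i) h7 ?_)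
    rw [h6]
    refine hz _ (fun e => h1 ?_) (by rw [← map_mul, ← pow_two, h14, map_one])
    have h15 : φ R = φ (U ^ i)⁻¹ := by rw [map_inv, eq_inv_iff_mul_eq_one, ← map_mul, e]
    have h16 : Commute (φ R) (φ U) := by
      rw [h15, map_inv, map_pow]
      exact ((Commute.refl _).pow_left i).inv_left
    have h17 := D.ru
    rw [h16.eq, mul_assoc (φ U), D.rr, mul_one] at h17
    rw [← D.u4, show 4 = 2 * 2 from rfl, pow_mul, pow_two (φ U), h17, one_pow]
  have h15 : ∀ j, Odd j → χ (U ^ j) = e := fun j hj => (pow_odd hc hσ hU hj).trans he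
  have h16 : χ (U ^ 6) = b := by
    rw [show 6 = 2 * 3 from rfl, pow_mul]
    exact (pow_odd hc hσ h10 (by decide)).trans hb
  simp only [Finset.sum_range_succ, Finset.sum_range_zero] at hn
  rw [pow_zero, hd, h15 1 (by decide), hb, h15 3 (by decide), hT, ha, h15 5 (by decide), h16, h15 7 (by decide)] at hn
  have h17 : Commute B (U ^ 2) := h.good_of_pow (n := 8) (by norm_num) h10 B (by rw [map_pow, D.xu])
  have h18 : Commute A T := h.good_of_pow (n := 2) (by norm_num) h7 A (by rw [h6, h5])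
  have h19 : B ^ 3 ∈ center X := h.mem_iff.2 (by rw [map_pow, D.x3])
  have h20 := isCharacter_mul hc (isCharacter_conj hc)
  have h21 : (U ^ 2 * B) ^ 2 = T * B ^ 2 := by rw [h17.symm.mul_pow, ← pow_mul, hT]
  have h22 : χ ((U ^ 2 * B) ^ 2) = 0 := by
    rw [h21]
    refine bad h hc ho hm (a := A) ?_ fun e => h4 ?_
    · rw [map_mul, map_pow, h6]
      exact (show Commute (φ A) z from h5).mul_right ((show Commute (φ A) (φ B) from h3).pow_right 2)
    · have h23 : Commute A (B ^ 2) := by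
        rw [← inv_mul_cancel_left T (B ^ 2)]
        exact h18.inv_right.mul_right e
      have h24 : Commute A (B ^ 3) := mem_center_iff.1 h19 A
      rw [show B = B ^ 3 * (B ^ 2)⁻¹ by group]
      exact h24.mul_right h23.inv_right
  have h23 : Complex.normSq (χ ((U ^ 2 * B) ^ 3)) = Complex.normSq (χ (U ^ 6)) :=
    normSq_eq h ho (by rw [h17.symm.mul_pow, ← pow_mul, map_mul, h.mem_iff.1 h19, mul_one])
  refine ⟨b, e, p, he, hb, ?_, ⟨n, ?_⟩, int_congr hc U Nat.prime_two he hb,
    int_congr hc (U ^ 2) Nat.prime_two hb (by rw [← pow_mul, hT, ha]), ?_,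
    int_congr h20 (U ^ 2 * B) Nat.prime_three hp ?_⟩
  · rw [Pi.mul_apply, Complex.mul_conj] at hp
    exact_mod_cast hp
  · have h24 : ((d + 9 * a + 2 * b + 4 * e : ℤ) : ℂ) = ((16 * n : ℤ) : ℂ) := by
      push_cast
      linear_combination hn
    exact_mod_cast h24
  · simpa only [_root_.Nat.cast_ofNat, _root_.sub_zero] using int_congr h20 (U ^ 2 * B) Nat.prime_two hp (b := 0) (by rw [Pi.mul_apply, h22, zero_mul, Int.cast_zero])
  · rw [Pi.mul_apply, Complex.mul_conj, h23, h16, Complex.normSq_intCast]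
    norm_cast

omit [Finite X] in
theorem not_conj {g k : G} {n : ℕ} (h1 : g ^ n = 1) (h2 : k ^ n ≠ 1) : ¬ IsConj g k := fun h =>
  h2 (isConj_one_right.1 (h1 ▸ h.pow n))

/-- **the count** -/
theorem kk_eq (h : _root_.Cfsg.Agent.H86.TI.Ext (center X) φ) {z u u' r r' : G} {A B : X} (h1 : z ≠ 1) (h2 : z * z = 1)
    (hz : ∀ t : G, t ≠ 1 → t * t = 1 → IsConj t z) (D : Dt z u r (φ B)) (D' : Dt z u' r' (φ A))
    (h3 : φ A * φ B = φ B * φ A) (h4 : A * B ≠ B * A) (h5 : IsConj u (u ^ 3)) (h6 : ¬ IsConj (u ^ 2) (u' ^ 2))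
    {l : X → ℂ} (hl : Fa (center X) l) (hlm : ∀ z : center X, l z = m z) : kk ⊤ (center X) l = 8 := by
  have hm : ∀ z, m z = 1 → z = 1 := fun z e => Subtype.ext (hl z z.2 (by rw [hlm, e, Units.val_one]))
  have h7 : ∀ {u r x : G}, Dt z u r x → u ^ 8 = 1 := fun D => by
    rw [show 8 = 4 * 2 from rfl, pow_mul, D.u4, pow_two, h2]
  have h8 : ∀ {u r x : G}, Dt z u r x → x * z = z * x := fun D => by
    rw [← D.u4, show 4 = 2 * 2 from rfl, pow_mul]
    exact (show Commute _ _ from D.xu).pow_right 2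
  have h9 : ∀ {u r x : G}, Dt z u r x → ∀ k, (u ^ 2 * x) ^ k = (u ^ 2) ^ k * x ^ k := fun D k =>
    (show Commute _ _ from D.xu).symm.mul_pow k
  have h10 : ∀ {u r x : G}, Dt z u r x → (u ^ 2) ^ 4 = 1 := fun D => by rw [← pow_mul, h7 D]
  have h11 : ∀ {u r x : G}, Dt z u r x → (u ^ 2 * x) ^ 9 = u ^ 2 := fun {u r x} D => by
    rw [h9 D, show 9 = 3 * 3 from rfl, pow_mul x 3, D.x3, one_pow, mul_one, show 3 * 3 = 4 * 2 + 1 from rfl, pow_succ,
      pow_mul, h10 D, one_pow, one_mul]
  have h12 : ∀ {u r x : G}, Dt z u r x → x ≠ 1 → (u ^ 2 * x) ^ 8 ≠ 1 := fun {u r x} D e e' => e (by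
    have h13 := h11 D
    rwa [pow_succ, e', one_mul, mul_eq_left] at h13)
  have h13 : ∀ {u r x : G}, Dt z u r x → u ^ 4 ≠ 1 := fun D => D.u4 ▸ h1
  have h14 : ∀ {u r x : G}, Dt z u r x → u ^ 2 ≠ 1 := fun D e => h13 D (by
    rw [show 4 = 2 * 2 from rfl, pow_mul, e, one_pow])
  have h15 : ∀ {g : G}, g ^ 4 = 1 → g ^ 8 = 1 := fun e => by rw [show 8 = 4 * 2 from rfl, pow_mul, e, one_pow]
  have hA : φ A ≠ 1 := fun e => h4 (h.comm (h.mem_iff.2 e) B)
  have hB : φ B ≠ 1 := fun e => h4 (h.comm (h.mem_iff.2 e) A).symm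
  obtain ⟨U, rfl, hU⟩ := h.exists_lift u (n := 8) (by norm_num) (h7 D)
  obtain ⟨U', rfl, hU'⟩ := h.exists_lift u' (n := 8) (by norm_num) (h7 D')
  refine S2.col_count h (a := 3) hU (fun e => h14 D (by rw [e, one_pow])) (fun j hj => ?_) D.c1 le_rfl hlm
    fun χ hχ ho hσ => ?_
  · refine h.isConj_of (m := 8) (n := 8) (by norm_num) (by norm_num) hU
      (by rw [← pow_mul, mul_comm, pow_mul, hU, one_pow]) ?_
    have h16 : ∀ k : ℕ, IsConj (φ U ^ k) (φ U ^ (7 * k)) := fun k => by
      rw [pow_mul]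
      refine IsConj.pow k (isConj_iff.2 ⟨r, ?_⟩)
      rw [inv_eq_of_mul_eq_one_left D.rr, eq_inv_of_mul_eq_one_left D.ru, inv_eq_iff_mul_eq_one, ← pow_succ', h7 D]
    have h17 : j % 2 = 1 := by
      by_contra e
      have h18 : orderOf U ∣ 2 ^ 3 := orderOf_dvd_of_pow_eq_one hU
      have h19 := (hj.coprime_dvd_left (Nat.dvd_of_mod_eq_zero (by omega : j % 2 = 0))).symm.pow_right 3
      exact h14 D (by rw [orderOf_eq_one_iff.1 (h19.eq_one_of_dvd h18), map_one, one_pow])
    rw [map_pow, pow_eq_pow_mod j (h7 D)]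
    rcases (by omega : j % 8 = 1 ∨ j % 8 = 3 ∨ j % 8 = 5 ∨ j % 8 = 7) with e | e | e | e <;> rw [e]
    · rw [pow_one]
    · exact h5
    · have h18 := h5.trans (h16 3)
      rwa [pow_eq_pow_mod (7 * 3) (h7 D)] at h18
    · simpa only [_root_.isConj_iff, _root_.pow_one, _root_.mul_one] using h16 1
  · have hc := isIrr_isCharacter hχ
    have h16 : U' ^ 4 = U ^ 4 := h.inj_of (m := 2) (n := 2) (by norm_num) (by norm_num) (by rw [← pow_mul, hU'])
      (by rw [← pow_mul, hU]) (by rw [map_pow, map_pow, D.u4, D'.u4])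
    obtain ⟨d, hd⟩ := isCharacter_apply_one hc
    have h17 : 2 ∣ Nat.card X := by
      have := Fact.mk Nat.prime_two
      exact orderOf_eq_prime (x := U ^ 4) (p := 2) (by rw [← pow_mul, hU])
        (fun e => h13 D (by rw [← map_pow, e, map_one])) ▸ _root_.orderOf_dvd_natCard _
    obtain ⟨a, ha⟩ := exists_int hc hσ h17 (y := U ^ 4) (by rw [← pow_mul, mul_comm, pow_mul, hU, one_pow])
    obtain ⟨b, e, p, k1, k2, k3, k4, k5, k6, k7, k8⟩ := half h hc ho hm hσ h1 hz D hU rfl h3 h4 (h8 D') (d := d) hd ha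
    obtain ⟨c, f, q, l1, l2, l3, l4, l5, l6, l7, l8⟩ :=
      half h hc ho hm hσ h1 hz D' hU' h16 h3.symm h4.symm (h8 D) (d := d) hd ha
    have h18 : ¬ IsConj (φ U) (φ U') := fun e => h6 (e.pow 2)
    have h19 : ¬ IsConj (φ U ^ 2 * φ B) (φ U' ^ 2 * φ A) := fun e => h6 (h11 D ▸ h11 D' ▸ e.pow 9)
    have h20 := norm_lt h hχ ho ![U, U', U ^ 2, U' ^ 2, U ^ 2 * B, U' ^ 2 * A] ![8, 8, 96, 96, 12, 12]
      (by
        simp only [Fin.forall_fin_succ, Matrix.cons_val_zero, Matrix.cons_val_succ, map_mul, map_pow]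
        exact ⟨D.c1.le, D'.c1.le, D.c2, D'.c2, D.c3, D'.c3, fun i => i.elim0⟩)
      (by
        simp only [Fin.forall_fin_succ, Matrix.cons_val_zero, Matrix.cons_val_succ, map_mul, map_pow]
        exact ⟨fun e => h14 D (by rw [e, one_pow]), fun e => h14 D' (by rw [e, one_pow]), h14 D, h14 D',
          fun e => h12 D hB (by rw [e, one_pow]), fun e => h12 D' hA (by rw [e, one_pow]), fun i => i.elim0⟩)
      (fun i j hij => by
        by_contra hne
        wlog hlt : i < j generalizing i j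
        · exact this j i hij.symm (Ne.symm hne) (lt_of_le_of_ne (not_lt.1 hlt) (Ne.symm hne))
        have a1 := not_conj (h10 D) (h13 D)
        have a2 := not_conj (h10 D') (h13 D)
        have a3 := not_conj (h10 D) (h13 D')
        have a4 := not_conj (h10 D') (h13 D')
        have a5 := fun {g : G} (e : g ^ 8 = 1) => not_conj e (h12 D hB)
        have a6 := fun {g : G} (e : g ^ 8 = 1) => not_conj e (h12 D' hA)
        fin_cases i <;> fin_cases j <;> simp only [Fin.lt_def, Nat.lt_irrefl, Nat.reduceLT] at hlt <;>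
          simp only [Fin.zero_eta, Fin.mk_one, Fin.reduceFinMk, Matrix.cons_val, map_mul, map_pow] at hij
        exacts [h18 hij, a1 hij.symm, a2 hij.symm, a5 (h7 D) hij, a6 (h7 D) hij, a3 hij.symm, a4 hij.symm,
          a5 (h7 D') hij, a6 (h7 D') hij, h6 hij, a5 (h15 (h10 D)) hij, a6 (h15 (h10 D)) hij,
          a5 (h15 (h10 D')) hij, a6 (h15 (h10 D')) hij, h19 hij])
    simp only [Fin.sum_univ_six, Matrix.cons_val, k1, k2, k3, l1, l2, l3, Complex.normSq_intCast] at h20
    have h21 := arith k4 l4 k5 k6 l6 l5 k7 k8 l7 l8 (by exact_mod_cast k3 ▸ Complex.normSq_nonneg _)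
      (by exact_mod_cast l3 ▸ Complex.normSq_nonneg _) (by
        have h22 : ((12 * (e * e) + 12 * (f * f) + b * b + c * c + 8 * p + 8 * q : ℤ) : ℝ) < ((96 : ℤ) : ℝ) := by
          push_cast at h20 ⊢
          linarith only [h20]
        exact_mod_cast h22)
    rw [k1]
    exact_mod_cast h21

end Cfsg.Agent.MK.C3L

private theorem dce_2dc68eef38b7 : _root_.True := by
  try have : _root_.True := by simp only [_root_.Cfsg.Agent.LFourA.SylDih.dih.congr_simp]
  exact _root_.True.intro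
end

-- part: MK/C3L/GB
section
set_option linter.all false
open scoped Cfsg.Agent.FastGrp

/-!
# MK, the triple cover of `G₂(3)`: computations in the centraliser of an involution (helper18)
-/

set_option autoImplicit false
set_option maxHeartbeats 400000
set_option maxRecDepth 100000

namespace Cfsg.Agent.MK.C3L

open Cfsg Subgroup Cfsg.Agent.MK.T Cfsg.Agent.MK.S.Pc Cfsg.Agent.QTNorm
open Cfsg.Agent.LargeExtra.W2 Cfsg.Agent.LargeExtra.W2.PlusHom Cfsg.Agent.LargeExtra.Model Cfsg.Agent.GTwoThree.Cent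
open Cfsg.Agent.OddHalf.D6.QThree.G23Abs

/-- the order of a centraliser in the model -/
def cen (c : K) : ℕ := (Finset.univ.filter fun w : K => mul false w c = mul false c w).card

/-- elements of order eight -/
def uA : K := (mj, 0, 0, 1)
/-- elements of order eight -/
def uB : K := (ml, 0, 0, 1)

theorem cen1 : cen uA = 8 ∧ cen (kq (mi * mj)) = 96 ∧ cen (mi * mj, 0, 1, 0) = 12 := by
  delta cen
  rw [mul_eq_gz]
  decide +kernel

theorem cen2 : cen uB = 8 ∧ cen (kq (mk * ml)) = 96 ∧ cen (mk * ml, 1, 0, 0) = 12 := by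
  delta cen
  rw [mul_eq_gz]
  decide +kernel

theorem ncK : ∀ w : K, mul false w (kq (mi * mj)) ≠ mul false (kq (mk * ml)) w := by
  rw [mul_eq_gz]
  decide +kernel

theorem cenP : ∀ w : K, mul false w ky = mul false ky w → mul false w (kq mi) = mul false (kq mi) w →
    mul false w (kq mk) = mul false (kq mk) w → w = k1 ∨ w = kq zz := by
  rw [mul_eq_gz]
  decide +kernel

/-- the value of a word in the model -/
def evK (g : ℕ → K) : List ℕ → K
  | [] => k1
  | a :: w => mul false (g a) (evK g w)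

/-- a polycyclic sequence of a Sylow `2`-subgroup -/
def gK (n : ℕ) : K := [ky, kq mi, kq mk, kq (mi * mj), kq (mk * ml), kq zz].getD n k1

/-- the certificate -/
def cK : Cert where
  gw := [[0], [1], [2], [3], [4], [5]]
  sq := [[], [5], [5], [5], [5], []]
  cm := [[[], [3, 5], [4, 5], [5], [5], []], [[], [], [], [5], [], []], [[], [], [], [], [5], []], [], [], []]
  dv := [([], [], []), ([], [], []), ([], [], []), ([0], [1], [5]), ([0], [2], [5]), ([1], [3], [])]

theorem chkK : ∀ i < 6, chk1 (fun v w => decide (evK gK v = evK gK w)) 6 3 cK i = true := by decide +kernel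

theorem keyK : ((List.range 6).sublists.map fun w => evK gK (cK.ex w)).Nodup := by decide +kernel

theorem eight : ∀ (m : M) (e : Fin 2), evK (fun _ => (m, 0, 0, e)) [0, 0, 0, 0, 0, 0, 0, 0] = k1 := by
  have h : ∀ (m : M) (e : Fin 2), (fun u : K => mul false u (mul false u (mul false u (mul false u (mul false u
      (mul false u (mul false u (mul false u k1)))))))) (m, 0, 0, e) = k1 := by
    rw [mul_eq_gz]
    decide +kernel
  exact h

variable {G : Type} [Group G] [Finite G] {Q : Subgroup G} {z i j k l x₁ x₂ y : G}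
  (h : Case9c Q z i j k l x₁ x₂ y) (hy : y * y = 1)
include hy

section

omit [Finite G]

theorem ev_toG (g : ℕ → K) : ∀ w, ev (fun n => toG h (g n)) w = toG h (evK g w)
  | [] => (toG_k1 h).symm
  | a :: w => by rw [ev_cons, ev_toG g w, evK, mulG h hy]

omit hy in
theorem toG_z : toG h (kq zz) = z := by rw [toG_kq, hom_zz]

theorem card_cen {c : K} {n : ℕ} (hc : toG h c ^ n = z) : Nat.card (centralizer ({toG h c} : Set G)) = cen c := by
  rw [cen, ← Fintype.card_subtype, ← Nat.card_eq_fintype_card]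
  refine (Nat.card_congr (Equiv.ofBijective (fun w => ⟨toG h w.1, by
    rw [mem_centralizer_singleton_iff, ← mulG h hy, w.2, mulG h hy]⟩) ⟨fun a b e =>
      Subtype.ext (toG_injective h (congrArg Subtype.val e)), fun g => ?_⟩)).symm
  have h1 := mem_centralizer_singleton_iff.1 g.2
  have h2 := ((show Commute _ _ from h1).pow_right n).eq
  rw [hc] at h2
  obtain ⟨w, hw⟩ := exists_code h h2
  exact ⟨⟨w, toG_injective h (by rw [mulG h hy, mulG h hy, hw, h1])⟩, Subtype.ext hw⟩

theorem dt_of {u r x v w : K} {x' : G} (h0 : toG h x = x') (h1 : mul false u u = v) (h2 : mul false v v = kq zz) (h3 : mul false r r = k1)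
    (h4 : mul false (mul false (mul false r u) r) u = k1) (h5 : x' ^ 3 = 1) (h6 : mul false x v = w)
    (h7 : mul false v x = w) (h8 : evK (fun _ => w) [0, 0, 0, 0, 0, 0] = kq zz)
    (h9 : cen u = 8 ∧ cen v = 96 ∧ cen w = 12) : Dt z (toG h u) (toG h r) x' := by
  subst h0
  have h10 : toG h u ^ 2 = toG h v := by rw [pow_two, ← mulG h hy, h1]
  have h11 : toG h v ^ 2 = z := by rw [pow_two, ← mulG h hy, h2, toG_z]
  have h12 : toG h u ^ 4 = z := by rw [show 4 = 2 * 2 from rfl, pow_mul, h10, h11]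
  have h13 : toG h w ^ 6 = z := by
    refine Eq.trans ?_ (toG_z h)
    rw [← h8, ← ev_toG h hy]
    simp [ev, pow_succ, mul_assoc]
  refine ⟨h12, by rw [← mulG h hy, h3, toG_k1], by rw [← mulG h hy, ← mulG h hy, ← mulG h hy, h4, toG_k1], h5,
    by rw [h10, ← mulG h hy, ← mulG h hy, h6, h7], by rw [card_cen h hy h12, h9.1], by
      rw [h10, card_cen h hy h11, h9.2.1], by rw [h10, ← mulG h hy, h7, card_cen h hy h13, h9.2.2]⟩

theorem dtA : Dt z (toG h uA) (toG h (mk * ml, 0, 0, 1)) x₂ :=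
  dt_of h hy (x := (1, 0, 1, 0)) (by simp [toG]) (by decide +kernel) (by decide +kernel) (by decide +kernel)
    (by decide +kernel) h.x₂3 (by decide +kernel) (by decide +kernel) (by decide +kernel) cen1

theorem dtB : Dt z (toG h uB) (toG h (mi * mj, 0, 0, 1)) x₁ :=
  dt_of h hy (x := (1, 1, 0, 0)) (by simp [toG]) (by decide +kernel) (by decide +kernel) (by decide +kernel)
    (by decide +kernel) h.x₁3 (by decide +kernel) (by decide +kernel) (by decide +kernel) cen2

theorem conj3 : IsConj (toG h uA) (toG h uA ^ 3) := by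
  refine isConj_iff.2 ⟨toG h ky, ?_⟩
  rw [mul_inv_eq_iff_eq_mul, pow_succ, pow_two, ← mulG h hy, ← mulG h hy, ← mulG h hy, ← mulG h hy]
  exact congrArg _ (by decide +kernel)

theorem nconj : ¬ IsConj (toG h uA ^ 2) (toG h uB ^ 2) := fun e => by
  obtain ⟨g, hg⟩ := isConj_iff.1 e
  have h1 := congrArg (· ^ 2) hg
  simp only [conj_pow, ← pow_mul, (dtA h hy).u4, (dtB h hy).u4] at h1
  obtain ⟨w, rfl⟩ := exists_code h (mul_inv_eq_iff_eq_mul.1 h1)
  rw [mul_inv_eq_iff_eq_mul, pow_two, pow_two, ← mulG h hy, ← mulG h hy, ← mulG h hy, ← mulG h hy, toG_inj h,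
    show mul false uA uA = kq (mi * mj) by decide +kernel, show mul false uB uB = kq (mk * ml) by decide +kernel] at hg
  exact ncK w hg

include h

/-- **the faithful characters of odd degree** -/
theorem kk_case {X : Type} [Group X] [Finite X] {φ : X →* G} (hE : H86.TI.Ext (center X) φ)
    (hz : ∀ t : G, t ≠ 1 → t * t = 1 → IsConj t z) {A B : X} (hA : φ A = x₁) (hB : φ B = x₂) (hAB : A * B ≠ B * A)
    {c : X → ℂ} {m : center X →* ℂˣ} (hc : Fa (center X) c) (hm : ∀ z : center X, c z = m z) :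
    kk ⊤ (center X) c = 8 :=
  kk_eq hE h.large.z_ne h.large.z_sq hz (by rw [hB]; exact dtA h hy) (by rw [hA]; exact dtB h hy)
    (by rw [hA, hB, h.xx]) hAB (conj3 h hy) (nconj h hy) hc hm

end

include h in
/-- **the local side** -/
theorem loc_case {n : ℕ} (hn : Odd n) (hG : Nat.card G = 2 ^ 6 * n) : SelfN G ∧ a2 G = 8 := by
  have := two_prime
  have h1 : PC (cK.el fun n => toG h (gK n)) 6 3 := pc_of_chk (fun v w e => by
    rw [ev_toG h hy, ev_toG h hy, of_decide_eq_true e]) (by norm_num) chkK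
  have h2 : 2 ^ 6 ≤ Nat.card (V (cK.el fun n => toG h (gK n)) 6 0) := by
    have : Nonempty K := ⟨k1⟩
    refine S5.le_card_of_key (Function.invFun (toG h)) ?_
    simp only [← cK.ev_ex, ev_toG h hy, Function.leftInverse_invFun (toG_injective h) _]
    exact keyK
  refine ⟨?_, S5.a2_of_pc (MonoidHom.id G) Function.injective_id h1 h2 (fun _ _ => ⟨_, rfl⟩) hn hG⟩
  have h3 : ∀ n < 6, (cK.el fun n => toG h (gK n)) n = toG h (gK n) := fun n hn => by
    interval_cases n <;> exact mul_one _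
  have h4 := h1.card_eq h2 (Nat.zero_le 6)
  let P : Subgroup G :=
    { carrier := {g | ∃ w : K, w.2.1 = 0 ∧ w.2.2.1 = 0 ∧ toG h w = g}
      one_mem' := ⟨k1, rfl, rfl, toG_k1 h⟩
      mul_mem' := by
        rintro _ _ ⟨⟨m, a, b, e⟩, rfl, rfl, rfl⟩ ⟨⟨m', a', b', e'⟩, rfl, rfl, rfl⟩
        exact ⟨_, by simp [GTwoThree.Cent.mul, sg], by simp [GTwoThree.Cent.mul, sg], mulG h hy _ _⟩
      inv_mem' := by
        rintro _ ⟨⟨m, a, b, e⟩, rfl, rfl, rfl⟩
        refine ⟨evK (fun _ => (m, 0, 0, e)) [0, 0, 0, 0, 0, 0, 0], by simp [evK, GTwoThree.Cent.mul, sg, k1],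
          by simp [evK, GTwoThree.Cent.mul, sg, k1], eq_inv_of_mul_eq_one_right ?_⟩
        rw [← mulG h hy, ← toG_k1 h, ← eight m e]
        rfl }
  have h5 : IsPGroup 2 P := by
    rintro ⟨g, hg⟩
    refine ⟨3, Subtype.ext (show g ^ 2 ^ 3 = 1 from ?_)⟩
    obtain ⟨⟨m, a, b, e⟩, rfl, rfl, rfl⟩ := hg
    have h6 := congrArg (toG h) (eight m e)
    rw [← ev_toG h hy, toG_k1] at h6
    simpa [ev, pow_succ, mul_assoc] using h6
  have h6 : V (cK.el fun n => toG h (gK n)) 6 0 ≤ P := V_le fun n _ hn => by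
    rw [h3 n hn]
    exact ⟨_, by interval_cases n <;> rfl, by interval_cases n <;> rfl, rfl⟩
  let T : Sylow 2 G := Sylow.ofCard _ (h4.trans (by rw [hG, S5.fact_two hn]))
  have h7 : (T : Subgroup G) = P := (T.is_maximal' h5 h6).symm
  refine SelfN.of_one T fun x hx => ?_
  rw [h7] at hx ⊢
  have h8 : x * z = z * x := norm_comm (T := P) ⟨kq zz, rfl, rfl, toG_z h⟩ h.large.z_sq h.large.z_ne
    (by rintro _ ⟨w, -, -, rfl⟩; exact toG_comm h w) (by
      rintro _ ⟨w, -, -, rfl⟩ - e1 e2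
      have h9 : ∀ c : K, c.2.1 = 0 → c.2.2.1 = 0 → mul false w c = mul false c w := fun c e3 e4 =>
        toG_injective h (by rw [mulG h hy, mulG h hy, e2 _ ⟨c, e3, e4, rfl⟩])
      rcases cenP w (h9 _ rfl rfl) (h9 _ rfl rfl) (h9 _ rfl rfl) with rfl | rfl
      · exact absurd (toG_k1 h) e1
      · exact toG_z h) hx
  obtain ⟨w, rfl⟩ := exists_code h h8
  obtain ⟨p, e1, e2, e3⟩ := (mem_normalizer_iff.1 hx _).1 (⟨ky, rfl, rfl, rfl⟩ : toG h ky ∈ P)
  rw [eq_mul_inv_iff_mul_eq, ← mulG h hy, ← mulG h hy, toG_inj h] at e3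
  obtain ⟨m, a, b, e⟩ := w
  obtain ⟨m', a', b', e'⟩ := p
  have h9 : ∀ (a b : Fin 3) (e e' : Fin 2), mul2 (0, 0, e') (a, b, e) = mul2 (a, b, e) (0, 0, 1) → a = 0 ∧ b = 0 := by
    decide
  obtain rfl : a' = 0 := e1
  obtain rfl : b' = 0 := e2
  obtain ⟨rfl, rfl⟩ := h9 a b e e' (congrArg Prod.snd e3)
  exact ⟨_, rfl, rfl, rfl⟩

end Cfsg.Agent.MK.C3L

private theorem dce_124c9f150918 : _root_.True := by
  try have : _root_.True := by simp only [_root_.Cfsg.Agent.GTwoThree.Cent.mul.eq_1]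
  try have : _root_.True := by simp only [_root_.Cfsg.Agent.MK.C3L.cen.eq_1]
  try have : _root_.True := by simp only [_root_.Cfsg.Agent.MK.C3L.evK.eq_1]
  try have : _root_.True := by simp only [_root_.Cfsg.Agent.MK.C3L.evK.eq_def]
  try have : _root_.True := by simp only [_root_.Cfsg.Agent.MK.C3L.evK.eq_2]
  exact _root_.True.intro
end

-- part: MK/C3L/G23
section
prune_inst 0x7f00000000000000000000000000000000000000000000000000000000000000000000000000000000000000000000000000000000000000000000000000000000000000000000000000000000000000003fffffffffffffffffffffffffffbeffbdffffffff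
set_option linter.all false
open scoped Cfsg.Agent.FastGrp

/-!
# MK, the small row of the triple cover of `G₂(3)` (helper18)
-/

set_option autoImplicit false
set_option maxHeartbeats 400000
set_option maxRecDepth 100000

namespace Cfsg.Agent.MK.C3L

open Cfsg Cfsg.Lie Subgroup Cfsg.Agent.MK.T Cfsg.Agent.GTwoThree.Model Cfsg.Agent.H64.G23Upper
open Cfsg.Agent.OddHalf.Small.G23Data Cfsg.Agent.OddHalf.Small.G23Check Cfsg.Agent.OddHalf.Small.G23
open Cfsg.Agent.OddHalf.D6.QThree Cfsg.Agent.H96.Rad2.G23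

theorem xe_eq {r : ℕ} (hr : r < 12) : xe r 1 = ev y [2 * r] := by
  refine Subtype.ext (Units.ext ?_)
  rw [ev_cons, ev_nil, mul_one, y_val (by omega), Nat.mul_div_cancel_left _ two_pos, Nat.mul_mod_right, zero_add,
    Nat.cast_one]
  rfl

theorem swap_check : ∃ i < 48, eqc (NL.getD i [] ++ [14]) ([4] ++ NL.getD i []) = true ∧
    eqc (NL.getD i [] ++ [0]) ([12] ++ NL.getD i []) = true := by decide +kernel

theorem comm_of {X G : Type} [Group X] [Group G] {φ : X →* G} (h : H86.TI.Ext (center X) φ) {A B a b : X}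
    (e : A * B = B * A) {k k' : ℕ} (ha : φ a = φ A ^ k) (hb : φ b = φ B ^ k') : a * b = b * a := by
  have h1 : ∀ {A a : X} {k : ℕ}, φ a = φ A ^ k → ∃ z ∈ center X, a = z * A ^ k := fun {A a k} h1 =>
    ⟨a * (A ^ k)⁻¹, h.mem_iff.2 (by rw [map_mul, map_inv, map_pow, h1, mul_inv_cancel]),
      (inv_mul_cancel_right _ _).symm⟩
  obtain ⟨z, hz, rfl⟩ := h1 ha
  obtain ⟨z', hz', rfl⟩ := h1 hb
  exact (show Commute z _ from h.comm hz _).mul_left ((show Commute z' _ from h.comm hz' _).symm.mul_right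
    ((show Commute A B from e).pow_pow k k'))

variable {X : Type} [Group X] [Finite X] {φ : X →* ↥Gp}

/-- the lifts of two orthogonal root elements do not commute -/
theorem not_comm (h : H86.TI.Ext (center X) φ) (hp : commutator X = ⊤) {A B : X} (hA : φ A = ev y [12])
    (hB : φ B = ev y [4]) : A * B ≠ B * A := fun e => by
  have h2 : Com φ 6 2 := fun a b ha hb => by
    obtain ⟨k, hk⟩ := exists_pow ha
    obtain ⟨k', hk'⟩ := exists_pow hb
    exact comm_of h e (hk.trans (congrArg (· ^ k) ((xe_eq (r := 6) (by norm_num)).trans hA.symm)))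
      (hk'.trans (congrArg (· ^ k') ((xe_eq (r := 2) (by norm_num)).trans hB.symm)))
  have h3 : Com φ 0 7 := (((h2.refl h.surj (by norm_num) (by norm_num) 1 (by norm_num)).refl h.surj (by decide)
    (by decide) 0 (by norm_num)).refl h.surj (by decide) (by decide) 1 (by norm_num)).refl h.surj (by decide)
    (by decide) 0 (by norm_num)
  have h4 : Nat.card φ.ker = 3 := h.ker ▸ h.card
  have h5 : φ.ker = ⊥ := ker_trivial ⟨h.surj, h.ker.le, hp⟩ (IsPGroup.of_card (n := 1) h4) h3.symm
  rw [h5, card_bot] at h4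
  omega

/-- the automorphisms which fix the centre are inner -/
theorem inn (h : H86.TI.Ext (center X) φ) (hp : commutator X = ⊤) :
    ∀ α : MulAut X, (∀ z ∈ center X, α z = z) → ∃ x, α = MulAut.conj x := by
  obtain ⟨i, -, h1, h2⟩ := swap_check
  replace h1 := eq_of_eqc h1
  replace h2 := eq_of_eqc h2
  rw [ev_append, ev_append, ← mul_inv_eq_iff_eq_mul] at h1 h2
  refine inn_of_no φ h.surj h.ker hp (β := MulAut.conj (ev y (NL.getD i [])) * γ)
    (out_cases card_out fun ⟨g, hg⟩ => γ_outer ((ev y (NL.getD i []))⁻¹ * g) (by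
      rw [map_mul, hg, map_inv, inv_mul_cancel_left])) fun α h3 h4 => ?_
  obtain ⟨A, hA⟩ := h.surj (ev y [12])
  obtain ⟨B, hB⟩ := h.surj (ev y [4])
  have h5 := not_comm h hp hA hB
  have h6 : φ A * φ B = φ B * φ A := by
    rw [hA, hB, ← ev_append, ← ev_append]
    exact eq_of_eqc G23Words.xx
  have h7 : A * B * A⁻¹ * B⁻¹ ∈ center X := h.mem_iff.2 (by simp [h6])
  have h8 : α A * B⁻¹ ∈ center X :=
    h.mem_iff.2 (by rw [map_mul, map_inv, h3, hA, hB, MulAut.mul_apply, γ_ev, mul_inv_eq_one]; exact h1)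
  have h9 : α B * A⁻¹ ∈ center X :=
    h.mem_iff.2 (by rw [map_mul, map_inv, h3, hA, hB, MulAut.mul_apply, γ_ev, mul_inv_eq_one]; exact h2)
  have h10 := h4 _ h7
  obtain ⟨s, hs, h11⟩ : ∃ s ∈ center X, α A = s * B := ⟨_, h8, (inv_mul_cancel_right _ _).symm⟩
  obtain ⟨t, ht, h12⟩ : ∃ t ∈ center X, α B = t * A := ⟨_, h9, (inv_mul_cancel_right _ _).symm⟩
  have h13 : s * B * (t * A) * (s * B)⁻¹ * (t * A)⁻¹ = (A * B * A⁻¹ * B⁻¹)⁻¹ := by
    rw [h.comm hs, h.comm ht, show B * s * (A * t) * (B * s)⁻¹ = B * (s * (A * t)) * s⁻¹ * B⁻¹ by group, h.comm hs,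
      show B * (A * t * s) * s⁻¹ * B⁻¹ * (A * t)⁻¹ = B * A * (t * B⁻¹) * t⁻¹ * A⁻¹ by group, h.comm ht]
    group
  simp only [map_mul, map_inv] at h10
  rw [h11, h12, h13, inv_eq_iff_mul_eq_one, ← pow_two] at h10
  exact h5 (mul_inv_eq_iff_eq_mul.1 (mul_inv_eq_one.1 (h.eq_one_of_pow h7 (by norm_num) h10)))

theorem smC_Gp : S.SmC ↥Gp := by
  intro X _ _ φ hφ hk h3 hp _
  have h : H86.TI.Ext (center X) φ := ⟨hφ, hk, le_rfl, h3⟩
  have W := G23Facts.words
  have h1 := G23Facts.case9c W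
  have h2 := W.h21 G23Words.yy
  rw [W.nil] at h2
  obtain ⟨h4, h5⟩ := loc_case h1 h2 (by decide) card_G
  obtain ⟨Q, hQ⟩ := kk_norm φ hφ hk (by rw [h3]; decide) (CycN.of_selfN h4)
  obtain ⟨A, hA⟩ := hφ (ev y [12])
  obtain ⟨B, hB⟩ := hφ (ev y [4])
  have := two_prime
  refine sm_of_inn (inn h hp) Q fun l hl => kk_eq_of_hom le_rfl le_top (center_le_normalizer _) fun m hm => ?_
  rw [hQ l m hm, kk_case h1 h2 h (fun t e1 e2 => isConj_iff.2 (exists_conj (orderOf_eq_prime (by rw [pow_two, e2]) e1)))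
    hA hB (not_comm h hp hA hB) hl hm, ← h5]
  exact (k0_norm_self h4 (Q.mapSurjective hφ)).symm

seal dotProduct in
/-- **the triple cover of `G₂(3)`** -/
theorem g23 (F : Type) [Field F] [Fintype F] (hF : Fintype.card F = 3) : S.SmC ↥(chevG2.group F) :=
  S.SmC.congr (ChevalleyStructure.FieldIso.groupEquiv chevG2
    (FiniteField.ringEquivOfCardEq (by rw [hF]; rfl : Fintype.card (ZMod 3) = Fintype.card F))).symm smC_Gp

end Cfsg.Agent.MK.C3L
end

-- part: MK/Sp2/Dual
section
prune_inst 0x7f00000000000000000000000000000000000000000000000000000000000000000000000000000000000000000000000000000000000000000000000000000000000000000000000000000000000000003fffffffffffffffffffffffffffbeffbdfbfeffff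
set_option linter.all false
open scoped Cfsg.Agent.FastGrp

/-!
# The Alvis-Curtis duality (helper82)

`R : RGD cs h p T n X` a root group datum of a finite group `Y`.

* `DD cs h T X g = ∑ J, (-1) ^ |J| R_J *R_J g`;  `mackey` : `[Ind_{P_K} φ, D g]` as a sum over the Weyl group;
* `DD_adj`, `DD_DD`, `DD_iso` : `D` is a self-adjoint involution;  `DD_irr` : `D χ` is irreducible up to the sign.
-/

set_option autoImplicit false
set_option linter.unusedSectionVars false

open scoped ComplexConjugate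

namespace Cfsg.Agent.MK.Sp2

open Cfsg Cfsg.Agent.Characters Cfsg.Agent.Characters.Core
open Cfsg.Agent.H53.HC Cfsg.Agent.H641.Gow Cfsg.Agent.H45.GG
open CoxeterSystem Cfsg.Agent.ChevalleyStructure.CoxeterGeom Cfsg.Agent.Tits.Roots Cfsg.Agent.Tits.Core
  Cfsg.Agent.Tits.Exchange Cfsg.Agent.Nodes.Reps Cfsg.Agent.Nodes.BNOf Cfsg.Agent.Nodes.StabComb
  Cfsg.Agent.Nodes.Bruhat Cfsg.Agent.Nodes.OppDec Cfsg.Agent.Nodes.LeviDec
open Cfsg.Agent.H705.Dl.PsRgd (rp rp_spec PJ_empty PJ_univ PJ_mono dc_uniq dc_cover)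
open Cfsg.Agent.FixOdd.Cox (capL)

variable {I W Y : Type} [Fintype I] [DecidableEq I] [Group W] [Group Y] {M : CoxeterMatrix I} [Fintype W] [Fintype Y]

section defs

variable (cs : CoxeterSystem M W) {A : I → I → ℤ} (h : IsCartan M A) (T : Subgroup Y) (X : (I → ℤ) → Subgroup Y)

/-- `R_J *R_J` -/
noncomputable def EJ (J : Set I) (g : Y → ℂ) : Y → ℂ := ii (PJ cs h T X J) (av (VJ cs h X J) g)

/-- the duality -/
noncomputable def DD (g : Y → ℂ) : Y → ℂ := ∑ J : Finset I, ((-1 : ℂ) ^ J.card) • EJ cs h T X J g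

/-- the Mackey term -/
noncomputable def Tm (K : Set I) (φ : Y → ℂ) (J : Set I) (k : Y) (g : Y → ℂ) : ℂ :=
  mn (dd (PJ cs h T X K) (PJ cs h T X J) k) fun q => φ q * conj (av (VJ cs h X J) g (k⁻¹ * q * k))

/-- an inflated class function -/
structure Iv (K : Set I) (φ : Y → ℂ) : Prop where
  cl : Cl (PJ cs h T X K) φ
  inv : ∀ x ∈ PJ cs h T X K, ∀ v ∈ VJ cs h X K, φ (x * v) = φ x

/-- an inflated cuspidal class function -/
structure Cu (K : Set I) (φ : Y → ℂ) : Prop extends Iv cs h T X K φ where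
  cu : ∀ j ∈ K, ∀ l ∈ LJ cs h T X (K \ {j}), av (rad cs h X K j) φ l = 0

theorem cls_DD (g : Y → ℂ) : IsClassFunction Y (DD cs h T X g) := fun x y => by
  simp only [DD, Finset.sum_apply, Pi.smul_apply]
  exact Finset.sum_congr rfl fun J _ => by rw [EJ, cls_ii]

end defs

variable {cs : CoxeterSystem M W} {A : I → I → ℤ} {h : IsCartan M A} {p : ℕ} {T : Subgroup Y} {n : I → Y}
  {X : (I → ℤ) → Subgroup Y} {J K K' : Set I} {φ φ' f g : Y → ℂ} {w : W} {k : Y}

theorem EJ_adj (hf : IsClassFunction Y f) (hg : IsClassFunction Y g) :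
    classInner (EJ cs h T X J f) g = classInner f (EJ cs h T X J g) := by
  rw [← classInner_conj_symm (EJ cs h T X J g) f, EJ, EJ, inner_ii _ _ hg, inner_ii _ _ hf, mn_av VJ_le_PJ, ← mn_star]
  exact mn_congr fun x _ => by rw [map_mul, Complex.conj_conj, mul_comm]

theorem DD_adj (hf : IsClassFunction Y f) (hg : IsClassFunction Y g) :
    classInner (DD cs h T X f) g = classInner f (DD cs h T X g) := by
  rw [DD, DD, classInner_sum_left, classInner_sum_right]
  refine Finset.sum_congr rfl fun J _ => ?_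
  rw [classInner_smul_left, classInner_smul_right, EJ_adj hf hg, map_pow, map_neg, map_one]

theorem VJ_anti (hK : K ⊆ J) : VJ cs h X J ≤ VJ cs h X K :=
  RGD.Sup_mono fun _ ⟨h1, h2, k, hk, h3⟩ => ⟨h1, h2, k, fun h4 => hk (hK h4), h3⟩

variable (R : RGD cs h p T n X)

include R

theorem DD_int {χ ψ : Y → ℂ} (hχ : IsCharacter Y χ) (hψ : IsCharacter Y ψ) :
    ∃ z : ℤ, classInner (DD cs h T X χ) ψ = z := by
  choose m hm using fun J : Finset I => av_nat (VJ_le_PJ (cs := cs) (h := h) (T := T) (X := X) (J := J))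
    (PJ_le_normalizer_VJ R J) hχ hψ
  refine ⟨∑ J : Finset I, (-1) ^ J.card * m J, ?_⟩
  rw [DD, classInner_sum_left]
  push_cast
  refine Finset.sum_congr rfl fun J _ => ?_
  rw [classInner_smul_left, EJ, inner_ii _ _ (isCharacter_isClassFunction hψ), hm]

theorem VJ_diff {j : I} (hj : j ∈ K) {x : Y} (hx : x ∈ VJ cs h X (K \ {j})) :
    ∃ a ∈ rad cs h X K j, ∃ b ∈ VJ cs h X K, x = a * b := by
  obtain ⟨hP, h1⟩ := projL_VJ R hj hx
  obtain ⟨l, hl, v, hv, rfl⟩ := (mem_PJ R).1 hP
  rw [show (⟨l * v, hP⟩ : PJ cs h T X K) = ⟨l, LJ_le_PJ hl⟩ * ⟨v, VJ_le_PJ hv⟩ from rfl, map_mul, projL_L R hl,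
    projL_V R hv, mul_one] at h1
  exact ⟨l, h1, v, hv, rfl⟩

theorem Cu.zero (hφ : Cu cs h T X K φ) {j : I} (hj : j ∈ K) {q : Y} (hq : q ∈ PJ cs h T X (K \ {j})) :
    av (rad cs h X K j) φ q = 0 := by
  obtain ⟨l, hl, x, hx, rfl⟩ := (mem_PJ R).1 hq
  obtain ⟨a, ha, b, hb, rfl⟩ := VJ_diff R hj hx
  rw [← hφ.cu j hj l hl, ← av_mul l ha]
  refine mn_congr fun u hu => ?_
  have h1 := rad_le_PJ (T := T) K j hu
  rw [← hφ.inv (l * a * u) (mul_mem (mul_mem (LJ_le_PJ (LJ_mono Set.sdiff_subset hl)) (rad_le_PJ K j ha)) h1)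
    (u⁻¹ * b * u⁻¹⁻¹) ((Subgroup.mem_normalizer_iff.1 (PJ_le_normalizer_VJ R K (inv_mem h1)) b).1 hb)]
  congr 1
  group

theorem tm_zero (hφ : Cu cs h T X K φ) (hk : Rp cs R.nsys w k) (hL : IsMinL cs K w) (hR : IsMinR cs J w) {j : I}
    (hj : j ∈ K) (h1 : ∀ x ∈ PosRad cs h K j, rep cs h w⁻¹ x ∈ NotJ cs h J) : Tm cs h T X K φ J k g = 0 := by
  have h2 : ∀ u ∈ rad cs h X K j, k⁻¹ * u * k ∈ VJ cs h X J := fun u hu =>
    conj_mem_Sup' R hk (fun x hx => hx.1.1) h1 hu
  rw [Tm, mn_sub (B := rad cs h X K j) fun u hu => mem_dd.2 ⟨rad_le_PJ K j hu, VJ_le_PJ (h2 u hu)⟩]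
  refine mn_zero fun q hq => ?_
  have h3 : capL cs K J w ⊆ K \ {j} := by
    rintro a ⟨ha, i, hi, e⟩
    refine ⟨ha, ?_⟩
    rintro rfl
    have h4 := h1 _ (mem_PosRad ha)
    rw [← H40.PV.rep_sr_of_comm (h := h) e ((isMinR_iff cs).1 hR i hi), rep_inv_apply] at h4
    exact sr_not_NotJ hi h4
  rw [mn_congr (F' := fun u => φ (q * u) * conj (av (VJ cs h X J) g (k⁻¹ * q * k))) fun u hu => by
    rw [← av_mul (k⁻¹ * q * k) (h2 u hu)]
    congr 3
    group, mn_mul', show mn _ _ = av _ φ q from rfl,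
    hφ.zero R hj (PJ_mono R h3 (H40.PV.proj R hk hL hR (mem_dd.1 hq).1 (mem_dd.1 hq).2)), zero_mul]

theorem cj_mem_B (hk : Rp cs R.nsys w k) (hR : IsMinR cs J w) {v : Y} (hv : v ∈ RGD.B cs h T X)
    (hP : k⁻¹ * v * k ∈ PJ cs h T X J) : k⁻¹ * v * k ∈ RGD.B cs h T X := by
  have h1 := H40.PV.proj R (J' := ∅) hk.inv ((isMinR_inv_iff cs).1 (by rwa [inv_inv]))
    ((minR_iff (h := h)).2 fun _ hi => hi.elim) hP (by
      rw [PJ_empty R]
      simpa only [mul_assoc, _root_.inv_inv, _root_.mul_inv_cancel_left, _root_.mul_inv_cancel, _root_.mul_one] using hv)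
  rw [← PJ_empty R]
  refine PJ_mono R (fun a ha => ?_) h1
  obtain ⟨_, _, hi, _⟩ := ha
  exact hi.elim

theorem tm_main (hφ : Iv cs h T X K φ) (hk : Rp cs R.nsys w k) (hw : Mp cs h K K' w) (hJ : K' ⊆ J)
    (hR : IsMinR cs J w) : Tm cs h T X K φ J k g =
      mn (LJ cs h T X K) fun l => φ l * conj (av (VJ cs h X K') g (k⁻¹ * l * k)) := by
  have h1 : ∀ l ∈ LJ cs h T X K, k⁻¹ * l * k ∈ PJ cs h T X J := fun l hl =>
    LJ_le_PJ (LJ_mono hJ (cj_mem_LJ R hk hw hl))
  rw [Tm, mn_prod (A := LJ cs h T X K) (B := dd (VJ cs h X K) (PJ cs h T X J) k)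
    (fun l hl => mem_dd.2 ⟨LJ_le_PJ hl, h1 l hl⟩) (fun v hv => mem_dd.2 ⟨VJ_le_PJ (mem_dd.1 hv).1, (mem_dd.1 hv).2⟩)
    fun x hx => by
      obtain ⟨l, hl, v, hv, rfl⟩ := (mem_PJ R).1 (mem_dd.1 hx).1
      refine ⟨l, hl, v, mem_dd.2 ⟨hv, ?_⟩, rfl⟩
      simpa only [mul_assoc, _root_.mul_inv_rev, _root_.inv_inv, _root_.mul_inv_cancel_left, _root_.inv_mul_cancel_left] using mul_mem (inv_mem (h1 l hl)) (mem_dd.1 hx).2]
  refine mn_congr fun l hl => ?_
  have h2 : ∀ v, v ∈ dd (VJ cs h X K) (PJ cs h T X J) k ↔ k⁻¹ * v * k ∈ dd (PJ cs h T X J) (VJ cs h X K) k⁻¹ :=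
    fun v => by simp only [mem_dd, mul_assoc, and_comm, _root_.inv_inv, _root_.mul_inv_cancel_left, _root_.mul_inv_cancel, _root_.mul_one]
  have h3 : dd (PJ cs h T X J) (VJ cs h X K) k⁻¹ ≤ VJ cs h X K' := fun y hy => by
    obtain ⟨h4, h5⟩ := mem_dd.1 hy
    have e : y = k⁻¹ * (k⁻¹⁻¹ * y * k⁻¹) * k := by group
    rw [e] at h4 ⊢
    exact cj_mem_VJ_of R hk hw h5 (B_le_PJ (cj_mem_B R hk hR (VJ_le_B K h5) h4))
  have h4 : VJ cs h X K' ≤ dd (PJ cs h T X J) (VJ cs h X K) k⁻¹ ⊔ VJ cs h X J := by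
    refine RGD.Sup_le fun x hx u hu => ?_
    rcases mem_PosJ_or_NotJ J hx.1 hx.2.1 with h5 | h5
    · refine Subgroup.mem_sup_left (mem_dd.2 ⟨LJ_le_PJ (X_le_LJ (PosJ_subset J h5) hu), ?_⟩)
      rw [inv_inv]
      refine RGD.le_Sup (S := NotJ cs h K) ?_ (R.conj_mem hk hx.1 hu)
      refine (mem_PosJ_or_NotJ K (hx.1.act w) (rep_nonneg_of_supp (minR_iff.1 hR) h5.2.1 h5.2.2)).resolve_left
        fun h6 => ?_
      obtain ⟨-, -, m, hm, h7⟩ := hx
      have h8 := supp_of hw.2 h6.2.2 m hm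
      rw [rep_inv_apply] at h8
      exact h7.ne' h8
    · exact Subgroup.mem_sup_right (RGD.le_Sup (S := NotJ cs h J) h5 hu)
  rw [mn_congr (F' := fun v => φ l * conj (av (VJ cs h X J) g (k⁻¹ * l * k * (k⁻¹ * v * k)))) fun v hv => by
    rw [hφ.inv l (LJ_le_PJ hl) v (mem_dd.1 hv).1]
    congr 3
    group, mn_mul, mn_star, mn_cj h2 fun y => av (VJ cs h X J) g (k⁻¹ * l * k * y)]
  congr 2
  rw [av, mn_prod h3 (VJ_anti hJ) fun x hx => by
    have h5 := h4 hx
    rw [← SetLike.mem_coe, Subgroup.coe_mul_of_left_le_normalizer_right _ _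
      fun y hy => PJ_le_normalizer_VJ R J (mem_dd.1 hy).1] at h5
    obtain ⟨a, ha, b, hb, e⟩ := h5
    exact ⟨a, ha, b, hb, e.symm⟩]
  exact mn_congr fun y _ => mn_congr fun v _ => by rw [mul_assoc _ y]

theorem inner_iv (hφ : Iv cs h T X K φ) (hg : IsClassFunction Y g) : classInner (ii (PJ cs h T X K) φ) g =
    mn (LJ cs h T X K) fun l => φ l * conj (av (VJ cs h X K) g l) := by
  rw [inner_ii _ _ hg, ← mn_av' VJ_le_PJ hφ.inv, mn_prod LJ_le_PJ VJ_le_PJ fun x hx => (mem_PJ R).1 hx]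
  refine mn_congr fun l hl => ?_
  rw [mn_congr (F' := fun _ => φ l * conj (av (VJ cs h X K) g l)) fun v hv => by
    rw [hφ.inv l (LJ_le_PJ hl) v hv, av_mul l hv], mn_const]

/-- the transport of a cuspidal function -/
theorem Cu.transport (hφ : Cu cs h T X K φ) (hk : Rp cs R.nsys w k) (hw : Mp cs h K K' w) :
    ∃ φ', Cu cs h T X K' φ' ∧ ∀ l ∈ LJ cs h T X K, φ' (k⁻¹ * l * k) = φ l := by
  classical
  let ψ : Y → ℂ := fun x => if hx : x ∈ PJ cs h T X K' then φ (k * projL R K' ⟨x, hx⟩ * k⁻¹) else 0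
  have h1 : ∀ x (hx : x ∈ PJ cs h T X K'), ψ x = φ (k * projL R K' ⟨x, hx⟩ * k⁻¹) := fun x hx => dif_pos hx
  have h2 : ∀ l ∈ LJ cs h T X K', ψ l = φ (k * l * k⁻¹) := fun l hl => by rw [h1 l (LJ_le_PJ hl), projL_L R hl]
  refine ⟨ψ, ⟨⟨fun x hx y hy => ?_, fun x hx v hv => ?_⟩, fun i hi l hl => ?_⟩, fun l hl => ?_⟩
  · rw [h1 x hx, h1 _ (mul_mem (mul_mem hy hx) (inv_mem hy)), show (⟨y * x * y⁻¹, _⟩ : PJ cs h T X K') =
      ⟨y, hy⟩ * ⟨x, hx⟩ * (⟨y, hy⟩ : PJ cs h T X K')⁻¹ from rfl, map_mul, map_mul, map_inv,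
      ← hφ.cl _ (LJ_le_PJ (cj_mem_LJ' R hk hw (projL R K' ⟨x, hx⟩).2)) _
        (LJ_le_PJ (cj_mem_LJ' R hk hw (projL R K' ⟨y, hy⟩).2))]
    congr 1
    simp only [mul_assoc, _root_.Subgroup.coe_mul, _root_.InvMemClass.coe_inv, _root_.inv_mul_cancel_left, _root_.mul_inv_rev, _root_.inv_inv]
  · rw [h1 x hx, h1 _ (mul_mem hx (VJ_le_PJ hv)), show (⟨x * v, _⟩ : PJ cs h T X K') =
      ⟨x, hx⟩ * ⟨v, VJ_le_PJ hv⟩ from rfl, map_mul, projL_V R hv, mul_one]
  · obtain ⟨j, hj, e⟩ := hw.1 i hi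
    have e' : rep cs h w⁻¹ (sr j) = sr i := by rw [← e, rep_inv_apply]
    have h3 : ∀ u, u ∈ rad cs h X K j ↔ k⁻¹ * u * k ∈ rad cs h X K' i := fun u =>
      ⟨fun hu => conj_mem_Sup' R hk (fun x hx => hx.1.1) (fun x hx => Mp.rad hw.inv e' hx) hu, fun hu => by
        have := conj_mem_Sup R hk (fun x hx => hx.1.1) (fun x hx => Mp.rad hw e hx) hu
        rw [show u = k * (k⁻¹ * u * k) * k⁻¹ by group]
        exact this⟩
    rw [← hφ.cu j hj _ (cj_mem_LJ' R hk (Mp.diff hw e) hl), av, av, ← mn_cj h3]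
    refine mn_congr fun u hu => ?_
    rw [h2 _ (mul_mem (LJ_mono Set.sdiff_subset hl) (cj_mem_LJ R hk hw (rad_le_LJ K j hu)))]
    congr 1
    group
  · rw [h2 _ (cj_mem_LJ R hk hw hl)]
    congr 1
    group

variable (hG : GG cs h T X = ⊤)

include hG

open Classical in
/-- **Mackey's formula** -/
theorem mackey (hφ : Cl (PJ cs h T X K) φ) (hg : IsClassFunction Y g) :
    classInner (ii (PJ cs h T X K) φ) (DD cs h T X g) = ∑ J : Finset I, (-1) ^ J.card * ∑ w : W,
      if IsMinL cs K w ∧ IsMinR cs J w then Tm cs h T X K φ J (rp R w) g else 0 := by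
  rw [DD, classInner_sum_right]
  refine Finset.sum_congr rfl fun J _ => ?_
  rw [classInner_smul_right, map_pow, map_neg, map_one, EJ, inner_ii_ii hφ (cl_av hg (PJ_le_normalizer_VJ R J))
    (fun w : {w : W // IsMinL cs K w ∧ IsMinR cs J w} => rp R w)
    (fun v w a ha b hb e => Subtype.ext (dc_uniq R w.2.1 v.2.1 w.2.2 v.2.2 ha hb e).symm) fun x => by
      obtain ⟨d, -, h1, h2, h3⟩ := dc_cover R (Set.subset_univ K) (Set.subset_univ (J : Set I)) (x := x)
        (by rw [PJ_univ, hG]; trivial)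
      exact ⟨⟨d, h1, h2⟩, h3⟩, ← Finset.sum_filter]
  congr 1
  exact (Finset.sum_subtype _ (by simp) fun w => Tm cs h T X K φ J (rp R w) g).symm

theorem step (hφ : Cu cs h T X K φ) (hw : Op cs h K w) (hk : Rp cs R.nsys w k) (hφ' : Iv cs h T X (Asc cs h w) φ')
    (hr : ∀ l ∈ LJ cs h T X K, φ' (k⁻¹ * l * k) = φ l) (hg : IsClassFunction Y g) :
    classInner (ii (PJ cs h T X K) φ) (DD cs h T X g) =
      (-1) ^ (Asc cs h w).card * classInner (ii (PJ cs h T X (Asc cs h w)) φ') g := by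
  classical
  let K1 : W → Set I := fun v => {i | ∃ j ∈ K, rep cs h v⁻¹ (sr j) = sr i}
  let c : W → ℂ := fun v => mn (LJ cs h T X K) fun l => φ l * conj (av (VJ cs h X (K1 v)) g ((rp R v)⁻¹ * l * rp R v))
  have h1 : ∀ (v : W) (J : Finset I), (if IsMinL cs K v ∧ IsMinR cs J v then Tm cs h T X K φ J (rp R v) g else 0) =
      if IsMinL cs K v ∧ J ⊆ Asc cs h v ∧ ∀ j ∈ K, ∃ i ∈ J, rep cs h v⁻¹ (sr j) = sr i then c v else 0 := by
    intro v J
    have h2 : IsMinR cs J v ↔ J ⊆ Asc cs h v := minR_iff.trans (forall₂_congr fun _ _ => mem_Asc.symm)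
    by_cases h3 : IsMinL cs K v ∧ IsMinR cs J v
    · rw [if_pos h3]
      split_ifs with h4
      · refine tm_main R hφ.toIv (rp_spec R v) ⟨fun i ⟨j, hj, e⟩ => ⟨j, hj, by rw [← e, rep_apply_inv]⟩, fun j hj => ?_⟩
          (fun i ⟨j, hj, e⟩ => ?_) h3.2
        · obtain ⟨i, -, e⟩ := h4.2.2 j hj
          exact ⟨i, ⟨j, hj, e⟩, e⟩
        · obtain ⟨i', hi, e'⟩ := h4.2.2 j hj
          rwa [sr_inj (e.symm.trans e')]
      · obtain ⟨j, hj, h5⟩ := (sim_or (minL_iff.1 h3.1) (minR_iff.1 h3.2)).resolve_left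
          fun h5 => h4 ⟨h3.1, h2.1 h3.2, h5⟩
        exact tm_zero R hφ (rp_spec R v) h3.1 h3.2 hj h5
    · rw [if_neg h3, if_neg fun h4 => h3 ⟨h4.1, h2.2 h4.2.1⟩]
  have hm := hw.mp
  have h2 : K1 w = Asc cs h w := Set.ext fun i => ⟨fun ⟨j, hj, e⟩ => by
      obtain ⟨i', hi, e'⟩ := hm.2 j hj
      rwa [sr_inj (e.symm.trans e')], fun hi => by
      obtain ⟨j, hj, e⟩ := hm.1 i hi
      exact ⟨j, hj, by rw [← e, rep_inv_apply]⟩⟩
  rw [mackey R hG hφ.cl hg]
  simp only [h1, Finset.mul_sum]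
  rw [Finset.sum_comm, Finset.sum_eq_single w, Finset.sum_eq_single (Asc cs h w), if_pos ⟨minL_iff.2 fun j hj =>
    hw.1 _ (sr_mem_PosJ hj), subset_rfl, hm.2⟩, inner_iv R hφ' hg, ← mn_cj (H := LJ cs h T X K) (g := rp R w) fun l =>
      ⟨cj_mem_LJ R (rp_spec R w) hm, fun hl => by simpa only [mul_assoc, _root_.mul_inv_cancel_left, _root_.mul_inv_cancel, _root_.mul_one] using cj_mem_LJ' R (rp_spec R w) hm hl⟩]
  · congr 1
    simp only [c, h2]
    refine mn_congr fun l hl => ?_
    rw [← hr l hl, ← hφ'.cl _ (LJ_le_PJ (cj_mem_LJ R hk hm hl)) _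
      (inv_mem (LJ_le_PJ (T_le_LJ (hk.unique (rp_spec R w)))))]
    congr 2
    group
  · intro J _ hJ
    rw [if_neg, mul_zero]
    rintro ⟨-, h3, h4⟩
    refine hJ (h3.antisymm fun i hi => ?_)
    obtain ⟨j, hj, e⟩ := hm.1 i hi
    obtain ⟨i', hi', e'⟩ := h4 j hj
    rw [← e, rep_inv_apply] at e'
    rwa [sr_inj e']
  · simp only [_root_.Finset.mem_univ, _root_.not_true_eq_false, _root_.Std.le_refl, _root_.true_and, _root_.mul_ite, _root_.MulZeroClass.mul_zero, _root_.ite_eq_right_iff, _root_.mul_eq_zero, _root_.pow_eq_zero_iff', _root_.neg_eq_zero, _root_.one_ne_zero, _root_.ne_eq, _root_.Finset.card_eq_zero, _root_.false_and, _root_.false_or, _root_.and_imp, _root_.IsEmpty.forall_iff]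
  · intro v _ hv
    by_cases h3 : ∃ i ∈ Asc cs h v, i ∉ K1 v
    · obtain ⟨i, hi, h3⟩ := h3
      refine toggle i _ fun J _ => if_congr (and_congr_right fun _ => and_congr ?_ (forall₂_congr fun j hj => ?_)) rfl rfl
      · rw [Finset.insert_subset_iff, and_iff_right hi]
      · refine ⟨fun ⟨a, ha, e⟩ => ⟨a, (Finset.mem_insert.1 ha).resolve_left ?_, e⟩,
          fun ⟨a, ha, e⟩ => ⟨a, Finset.mem_insert_of_mem ha, e⟩⟩
        rintro rfl
        exact h3 ⟨j, hj, e⟩
    · push Not at h3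
      refine Finset.sum_eq_zero fun J _ => ?_
      rw [if_neg, mul_zero]
      refine fun h4 => hv ((op_of (minL_iff.1 h4.1) fun i hi => ?_).uniq hw)
      obtain ⟨j, hj, e⟩ := h3 i (mem_Asc.2 hi.2.1)
      rw [← e, rep_apply_inv] at hi
      exact sr_not_NotJ hj hi
  · simp only [_root_.Finset.mem_univ, _root_.not_true_eq_false, _root_.mul_ite, _root_.MulZeroClass.mul_zero, _root_.IsEmpty.forall_iff]

/-- the induced cuspidal functions span the class functions -/
theorem eq_zero_of_cu (hf : IsClassFunction Y f)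
    (h0 : ∀ (K : Finset I) φ, Cu cs h T X K φ → classInner (ii (PJ cs h T X K) φ) f = 0) : f = 0 := by
  classical
  have key : ∀ K : Finset I, ∀ x ∈ PJ cs h T X K, av (VJ cs h X K) f x = 0 := by
    intro K
    induction K using Finset.strongInduction with
    | H K ih =>
      have hi : Iv cs h T X K (av (VJ cs h X K) f) := ⟨cl_av hf (PJ_le_normalizer_VJ R _), fun x _ v hv => av_mul x hv⟩
      have h1 := h0 K _ ⟨hi, fun j hj l hl => by
        have h2 := ih _ (Finset.erase_ssubset hj) l (by rw [Finset.coe_erase]; exact LJ_le_PJ hl)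
        rw [Finset.coe_erase, av, mn_prod (rad_le_VJ R hj) (VJ_anti Set.sdiff_subset) fun x hx => VJ_diff R hj hx] at h2
        rw [← h2]
        exact mn_congr fun y _ => mn_congr fun v _ => by rw [mul_assoc]⟩
      have := Fintype.ofFinite (PJ cs h T X K)
      rw [inner_ii _ _ hf, ← mn_av' VJ_le_PJ hi.inv, ← inner_res] at h1
      exact fun x hx => congrFun (classInner_self_eq_zero h1) ⟨x, hx⟩
  funext x
  have h1 := key Finset.univ x (by rw [Finset.coe_univ, PJ_univ, hG]; trivial)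
  rw [av, mn_congr (F' := fun _ => f x) fun v hv => by
    have h2 : VJ cs h X (Finset.univ : Finset I) ≤ ⊥ := RGD.Sup_le fun _ ⟨_, _, k, hk, _⟩ => absurd (by simp) hk
    rw [Subgroup.mem_bot.1 (h2 hv), mul_one], mn_const] at h1
  exact h1

/-- **the duality is an involution** -/
theorem DD_DD (hg : IsClassFunction Y g) : DD cs h T X (DD cs h T X g) = g := by
  refine sub_eq_zero.1 (eq_zero_of_cu R hG (fun x y => by rw [Pi.sub_apply, Pi.sub_apply, cls_DD, hg]) fun K φ hφ => ?_)
  obtain ⟨w, hw⟩ := exists_op (cs := cs) (h := h) (K : Set I)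
  obtain ⟨k, hk⟩ := exists_rp cs R.nsys w
  obtain ⟨φ', h1, h2⟩ := hφ.transport R hk hw.mp
  have h3 : Asc cs h w⁻¹ = K := Finset.coe_injective hw.asc
  rw [classInner_sub_right, step R hG hφ hw hk h1.toIv h2 (cls_DD _ _ _ _ g), step R hG h1 hw.inv hk.inv (φ' := φ)
    (by rw [h3]; exact hφ.toIv) (fun l hl => by
      rw [← h2 _ (by rw [inv_inv]; exact cj_mem_LJ' R hk hw.mp hl)]
      congr 1
      group) hg, h3, Mp.card hw.mp, ← mul_assoc, ← mul_pow]
  simp

theorem DD_iso (hf : IsClassFunction Y f) (hg : IsClassFunction Y g) :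
    classInner (DD cs h T X f) (DD cs h T X g) = classInner f g := by
  rw [DD_adj hf (cls_DD _ _ _ _ g), DD_DD R hG hg]

/-- **the dual of an irreducible character** -/
theorem DD_irr {χ : Y → ℂ} (hχ : IsIrrCharacter Y χ) :
    IsIrrCharacter Y (DD cs h T X χ) ∨ IsIrrCharacter Y (-DD cs h T X χ) := by
  have : Finite (IrrCharacter Y) := finite_irr
  have := Fintype.ofFinite (IrrCharacter Y)
  have hc := isIrr_isClassFunction hχ
  refine isIrr_of_generalized (isGeneralizedCharacter_iff.2 ?_) (by rw [DD_iso R hG hc hc, classInner_irr_self hχ])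
  choose z hz using fun ψ : IrrCharacter Y => DD_int R (isIrr_isCharacter hχ) (isIrr_isCharacter ψ.2)
  refine ⟨z, (classFunction_eq_sum (cls_DD _ _ _ _ χ)).trans (Finset.sum_congr rfl fun ψ _ => ?_)⟩
  rw [hz, Int.cast_smul_eq_zsmul]

end Cfsg.Agent.MK.Sp2

private theorem dce_21c437f873d5 : _root_.True := by
  try have : _root_.True := by simp only [_root_.Cfsg.Agent.MK.Sp2.Asc.congr_simp]
  try have : _root_.True := by simp only [_root_.Cfsg.Agent.MK.Sp2.EJ.eq_1]
  try have : _root_.True := by simp only [_root_.Cfsg.Agent.MK.Sp2.EJ.congr_simp]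
  try have : _root_.True := by simp only [_root_.Cfsg.Agent.MK.Sp2.DD.eq_1]
  try have : _root_.True := by simp only [_root_.Cfsg.Agent.MK.Sp2.Tm.congr_simp]
  try have : _root_.True := by simp only [_root_.Cfsg.Agent.Nodes.Bruhat.LJ.congr_simp]
  try have : _root_.True := by simp only [_root_.Cfsg.Agent.MK.Sp2.Tm.eq_1]
  exact _root_.True.intro
end
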