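import Cfsg.Agent.Fischer.Y322Iso
import Cfsg.Agent.H123.Cls.Pop
import Cfsg.Agent.ClassicalGeometry.SpinorSign
import Cfsg.Agent.LieClassical.OrthForms
import Cfsg.Agent.Prune
set_option linter.all false

section
prune_inst 0x7f00000000000000000000000000000000000000000000000000000000000000000000000000000000000000000000000000000000000000000000000000000000000000000000000000000000000000003fffffffffffffffffffffffffffbeffbdffffffff

-- part: MK/C3L/OCen
section
set_option linter.all false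
open scoped Cfsg.Agent.FastGrp

/-!
# Orders of centralizers in `Ω₇(3)` (helper94)

All the `2187` vectors are treated at once (two masks for each coordinate).  `cent_four`, `cent_two` : upper bounds of the
orders of the centralizers in `H8`, from a chain of stabilizers in the full isometry group.
-/

set_option autoImplicit false
set_option maxRecDepth 100000

namespace Cfsg.Agent.MK.C3L.O

open Cfsg Matrix Subgroup
open Cfsg.Agent.Fischer.Derived Cfsg.Agent.Fischer.O73 Cfsg.Agent.Fischer.Y322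
open Cfsg.Agent.H123.Cls (fB fB_eq popS cmb popS_eq)

/-! ### masks -/

/-- a family of elements of `ZMod 3` : the mask of the nonzero ones and the mask of the signs -/
structure T where
  z : ℕ
  s : ℕ

/-- the value of two bits -/
def vb (z s : Bool) : ZMod 3 := cond z (cond s (-1) 1) 0

/-- the members -/
def T.val (t : T) (i : ℕ) : ZMod 3 := vb (t.z.testBit i) (t.s.testBit i)

/-- strict construction -/
noncomputable def mkT (z s : ℕ) : T := fB z fun z => fB s fun s => ⟨z, s⟩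

theorem mkT_eq (z s : ℕ) : mkT z s = ⟨z, s⟩ := by rw [mkT, fB_eq, fB_eq]

/-- strict application -/
noncomputable def fT {α : Type} (t : T) (k : T → α) : α := T.rec (fun z s => k ⟨z, s⟩) t

theorem fT_eq {α : Type} (t : T) (k : T → α) : fT t k = k t := rfl

/-- sum -/
noncomputable def T.add (a b : T) : T :=
  T.rec (fun z s => T.rec (fun z' s' => fB (Nat.land z z') fun m =>
    mkT (Nat.xor (Nat.lor z z') (Nat.land m (Nat.xor s s'))) (Nat.xor (Nat.lor (Nat.land z s) (Nat.land z' s')) m)) b) a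

/-- product -/
noncomputable def T.mul (a b : T) : T :=
  T.rec (fun z s => T.rec (fun z' s' => mkT (Nat.land z z') (Nat.xor s s')) b) a

/-- negative -/
noncomputable def T.neg (a : T) : T := T.rec (fun z s => mkT z (Nat.xor s z)) a

/-- `c * a + b` -/
noncomputable def T.ax (c : ZMod 3) (a b : T) : T :=
  cond (Nat.beq c.val 0) b (cond (Nat.beq c.val 1) (a.add b) (a.neg.add b))

theorem val_add (a b : T) (i : ℕ) : (a.add b).val i = a.val i + b.val i := by
  obtain ⟨z, s⟩ := a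
  obtain ⟨z', s'⟩ := b
  have h : ∀ a b c d : Bool, vb ((a || c) ^^ ((a && c) && (b ^^ d))) (((a && b) || (c && d)) ^^ (a && c)) =
      vb a b + vb c d := by decide
  show T.val (fB (Nat.land z z') fun m => mkT _ _) i = _
  rw [fB_eq, mkT_eq]
  simp only [T.val, Nat.land_eq, Nat.lor_eq, Nat.xor_eq, Nat.testBit_and, Nat.testBit_or, Nat.testBit_xor]
  exact h _ _ _ _

theorem val_mul (a b : T) (i : ℕ) : (a.mul b).val i = a.val i * b.val i := by
  obtain ⟨z, s⟩ := a
  obtain ⟨z', s'⟩ := b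
  have h : ∀ a b c d : Bool, vb (a && c) (b ^^ d) = vb a b * vb c d := by decide
  show T.val (mkT _ _) i = _
  rw [mkT_eq]
  simp only [T.val, Nat.land_eq, Nat.xor_eq, Nat.testBit_and, Nat.testBit_xor]
  exact h _ _ _ _

theorem val_neg (a : T) (i : ℕ) : a.neg.val i = - a.val i := by
  obtain ⟨z, s⟩ := a
  have h : ∀ a b : Bool, vb a (b ^^ a) = - vb a b := by decide
  show T.val (mkT _ _) i = _
  rw [mkT_eq]
  simp only [T.val, Nat.xor_eq, Nat.testBit_xor]
  exact h _ _

theorem val_ax (c : ZMod 3) (a b : T) (i : ℕ) : (T.ax c a b).val i = c * a.val i + b.val i := by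
  have h : ∀ c : ZMod 3, c = 0 ∨ c = 1 ∨ c = -1 := by decide
  rcases h c with rfl | rfl | rfl
  · rw [zero_mul, zero_add]; rfl
  · rw [one_mul, ← val_add]; rfl
  · rw [neg_one_mul, ← val_neg, ← val_add]; rfl

theorem val_zero (i : ℕ) : (⟨0, 0⟩ : T).val i = 0 := by simp [T.val, vb]

/-- a family of vectors -/
structure W where
  (a b c d e f g : T)

/-- the members -/
def W.val (x : W) (i : ℕ) : V7 := ⟨x.a.val i, x.b.val i, x.c.val i, x.d.val i, x.e.val i, x.f.val i, x.g.val i⟩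

/-- strict construction -/
noncomputable def mkW (a b c d e f g : T) : W :=
  fT a fun a => fT b fun b => fT c fun c => fT d fun d => fT e fun e => fT f fun f => fT g fun g => ⟨a, b, c, d, e, f, g⟩

/-- strict application -/
noncomputable def fW {α : Type} (x : W) (k : W → α) : α := W.rec (fun a b c d e f g => k ⟨a, b, c, d, e, f, g⟩) x

theorem mkW_eq (a b c d e f g : T) : mkW a b c d e f g = ⟨a, b, c, d, e, f, g⟩ := rfl

theorem fW_eq {α : Type} (x : W) (k : W → α) : fW x k = k x := rfl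

/-- the polar form with a constant vector -/
noncomputable def dotT (v : V7) (x : W) : T :=
  .ax (2 * v.a) x.a (.ax v.e x.b (.ax v.f x.c (.ax v.g x.d (.ax v.b x.e (.ax v.c x.f (.ax v.d x.g ⟨0, 0⟩))))))

theorem val_dotT (v : V7) (x : W) (i : ℕ) : (dotT v x).val i = v.dot (x.val i) := by
  simp only [dotT, val_ax, val_zero, V7.dot, W.val]
  ring

/-- the polar form -/
noncomputable def dotW (x y : W) : T :=
  .ax 2 (x.a.mul y.a) (.add (x.e.mul y.b) (.add (x.f.mul y.c) (.add (x.g.mul y.d) (.add (x.b.mul y.e)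
    (.add (x.c.mul y.f) (x.d.mul y.g))))))

theorem val_dotW (x y : W) (i : ℕ) : (dotW x y).val i = (x.val i).dot (y.val i) := by
  simp only [dotW, val_ax, val_add, val_mul, V7.dot, W.val]
  ring

/-- a letter -/
noncomputable def actT (v : V7) (x : W) : W :=
  fW x fun x => fT (dotT v x) fun k => mkW (T.ax v.a k x.a).neg (T.ax v.b k x.b).neg (T.ax v.c k x.c).neg
    (T.ax v.d k x.d).neg (T.ax v.e k x.e).neg (T.ax v.f k x.f).neg (T.ax v.g k x.g).neg

theorem val_actT (v : V7) (x : W) (i : ℕ) : (actT v x).val i = v.act (x.val i) := by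
  rw [actT, fW_eq, fT_eq, mkW_eq]
  simp only [W.val, val_neg, val_ax, val_dotT, V7.act, V7.comb, V7.mk.injEq]
  refine ⟨?_, ?_, ?_, ?_, ?_, ?_, ?_⟩ <;> ring

/-- a word -/
noncomputable def actL (w : List (Fin 8)) (x : W) : W := List.rec x (fun k _ r => actT (root k) r) w

theorem val_actL (x : W) (i : ℕ) : ∀ w, (actL w x).val i = actW w (x.val i)
  | [] => rfl
  | _ :: w => (val_actT _ _ i).trans (congrArg _ (val_actL x i w))

/-- `c * x + y` -/
noncomputable def axW (c : ZMod 3) (x y : W) : W :=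
  fW y fun y => mkW (.ax c x.a y.a) (.ax c x.b y.b) (.ax c x.c y.c) (.ax c x.d y.d) (.ax c x.e y.e) (.ax c x.f y.f)
    (.ax c x.g y.g)

theorem val_axW (c : ZMod 3) (x y : W) (i : ℕ) :
    ((axW c x y).val i).toFun = c • (x.val i).toFun + (y.val i).toFun := by
  rw [axW, fW_eq, mkW_eq]
  funext j
  rcases j with ⟨⟩ | j | j
  · simp [V7.toFun, W.val, val_ax]
  · fin_cases j <;> simp [V7.toFun, W.val, val_ax]
  · fin_cases j <;> simp [V7.toFun, W.val, val_ax]

/-- zero -/
def zW : W := ⟨⟨0, 0⟩, ⟨0, 0⟩, ⟨0, 0⟩, ⟨0, 0⟩, ⟨0, 0⟩, ⟨0, 0⟩, ⟨0, 0⟩⟩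

theorem val_zW (i : ℕ) : (zW.val i).toFun = 0 := by
  funext j
  rcases j with ⟨⟩ | j | j
  · simp [V7.toFun, W.val, zW, val_zero]
  · fin_cases j <;> simp [V7.toFun, W.val, zW, val_zero]
  · fin_cases j <;> simp [V7.toFun, W.val, zW, val_zero]

/-- the nonzero members -/
noncomputable def nzW (x : W) : ℕ :=
  fW x fun x => Nat.lor x.a.z (Nat.lor x.b.z (Nat.lor x.c.z (Nat.lor x.d.z (Nat.lor x.e.z (Nat.lor x.f.z x.g.z)))))

theorem vb_zero : ∀ a b : Bool, vb a b = 0 ↔ a = false := by decide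

theorem nzW_iff (x : W) (i : ℕ) : (nzW x).testBit i = false ↔ (x.val i).toFun = 0 := by
  rw [nzW, fW_eq]
  simp [funext_iff, V7.toFun, W.val, T.val, vb_zero, Fin.forall_fin_succ, and_assoc]

/-- the coordinates -/
def X : W :=
  ⟨⟨0x6db6db6db6db6db6db6db6db6db6db6db6db6db6db6db6db6db6db6db6db6db6db6db6db6db6db6db6db6db6db6db6db6db6db6db6db6db6db6db6db6db6db6db6db6db6db6db6db6db6db6db6db6db6db6db6db6db6db6db6db6db6db6db6db6db6db6db6db6db6db6db6db6db6db6db6db6db6db6db6db6db6db6db6db6db6db6db6db6db6db6db6db6db6db6db6db6db6db6db6db6db6db6db6db6db6db6db6db6db6db6db6db6db6db6db6db6db6db6db6db6db6db6db6db6db6db6db6db6db6db6db6db6db6db6db6db6db6db6db6db6db6db6db6db6db6db6db6db6db6db6db6db6db6db6db6db6db6db6db6db6db6db6db6db6db6db6db6db6db6db6db6db6db6db6db6db6db6db6db6db6db6db6,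
    0x4924924924924924924924924924924924924924924924924924924924924924924924924924924924924924924924924924924924924924924924924924924924924924924924924924924924924924924924924924924924924924924924924924924924924924924924924924924924924924924924924924924924924924924924924924924924924924924924924924924924924924924924924924924924924924924924924924924924924924924924924924924924924924924924924924924924924924924924924924924924924924924924924924924924924924924924924924924924924924924924924924924924924924924924924924924924924924924924924924924924924924924⟩,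
    ⟨0x7e3f1f8fc7e3f1f8fc7e3f1f8fc7e3f1f8fc7e3f1f8fc7e3f1f8fc7e3f1f8fc7e3f1f8fc7e3f1f8fc7e3f1f8fc7e3f1f8fc7e3f1f8fc7e3f1f8fc7e3f1f8fc7e3f1f8fc7e3f1f8fc7e3f1f8fc7e3f1f8fc7e3f1f8fc7e3f1f8fc7e3f1f8fc7e3f1f8fc7e3f1f8fc7e3f1f8fc7e3f1f8fc7e3f1f8fc7e3f1f8fc7e3f1f8fc7e3f1f8fc7e3f1f8fc7e3f1f8fc7e3f1f8fc7e3f1f8fc7e3f1f8fc7e3f1f8fc7e3f1f8fc7e3f1f8fc7e3f1f8fc7e3f1f8fc7e3f1f8fc7e3f1f8fc7e3f1f8fc7e3f1f8fc7e3f1f8fc7e3f1f8fc7e3f1f8fc7e3f1f8fc7e3f1f8fc7e3f1f8fc7e3f1f8fc7e3f1f8fc7e3f1f8fc7e3f1f8fc7e3f1f8fc7e3f1f8fc7e3f1f8fc7e3f1f8fc7e3f1f8fc7e3f1f8fc7e3f1f8fc7e3f1f8,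
    0x70381c0e070381c0e070381c0e070381c0e070381c0e070381c0e070381c0e070381c0e070381c0e070381c0e070381c0e070381c0e070381c0e070381c0e070381c0e070381c0e070381c0e070381c0e070381c0e070381c0e070381c0e070381c0e070381c0e070381c0e070381c0e070381c0e070381c0e070381c0e070381c0e070381c0e070381c0e070381c0e070381c0e070381c0e070381c0e070381c0e070381c0e070381c0e070381c0e070381c0e070381c0e070381c0e070381c0e070381c0e070381c0e070381c0e070381c0e070381c0e070381c0e070381c0e070381c0e070381c0e070381c0e070381c0e070381c0e070381c0e070381c0e070381c0e070381c0e070381c0e070381c0⟩,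
    ⟨0x7fffe00ffffc01ffff803ffff007fffe00ffffc01ffff803ffff007fffe00ffffc01ffff803ffff007fffe00ffffc01ffff803ffff007fffe00ffffc01ffff803ffff007fffe00ffffc01ffff803ffff007fffe00ffffc01ffff803ffff007fffe00ffffc01ffff803ffff007fffe00ffffc01ffff803ffff007fffe00ffffc01ffff803ffff007fffe00ffffc01ffff803ffff007fffe00ffffc01ffff803ffff007fffe00ffffc01ffff803ffff007fffe00ffffc01ffff803ffff007fffe00ffffc01ffff803ffff007fffe00ffffc01ffff803ffff007fffe00ffffc01ffff803ffff007fffe00ffffc01ffff803ffff007fffe00ffffc01ffff803ffff007fffe00ffffc01ffff803ffff007fffe00,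
    0x7fc0000ff80001ff00003fe00007fc0000ff80001ff00003fe00007fc0000ff80001ff00003fe00007fc0000ff80001ff00003fe00007fc0000ff80001ff00003fe00007fc0000ff80001ff00003fe00007fc0000ff80001ff00003fe00007fc0000ff80001ff00003fe00007fc0000ff80001ff00003fe00007fc0000ff80001ff00003fe00007fc0000ff80001ff00003fe00007fc0000ff80001ff00003fe00007fc0000ff80001ff00003fe00007fc0000ff80001ff00003fe00007fc0000ff80001ff00003fe00007fc0000ff80001ff00003fe00007fc0000ff80001ff00003fe00007fc0000ff80001ff00003fe00007fc0000ff80001ff00003fe00007fc0000ff80001ff00003fe00007fc0000⟩,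
    ⟨0x7ffffffffffffe0000003fffffffffffff0000001fffffffffffff8000000fffffffffffffc0000007ffffffffffffe0000003fffffffffffff0000001fffffffffffff8000000fffffffffffffc0000007ffffffffffffe0000003fffffffffffff0000001fffffffffffff8000000fffffffffffffc0000007ffffffffffffe0000003fffffffffffff0000001fffffffffffff8000000fffffffffffffc0000007ffffffffffffe0000003fffffffffffff0000001fffffffffffff8000000fffffffffffffc0000007ffffffffffffe0000003fffffffffffff0000001fffffffffffff8000000fffffffffffffc0000007ffffffffffffe0000003fffffffffffff0000001fffffffffffff8000000,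
    0x7ffffff00000000000003ffffff80000000000001ffffffc0000000000000ffffffe00000000000007ffffff00000000000003ffffff80000000000001ffffffc0000000000000ffffffe00000000000007ffffff00000000000003ffffff80000000000001ffffffc0000000000000ffffffe00000000000007ffffff00000000000003ffffff80000000000001ffffffc0000000000000ffffffe00000000000007ffffff00000000000003ffffff80000000000001ffffffc0000000000000ffffffe00000000000007ffffff00000000000003ffffff80000000000001ffffffc0000000000000ffffffe00000000000007ffffff00000000000003ffffff80000000000001ffffffc0000000000000⟩,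
    ⟨0x7fffffffffffffffffffffffffffffffffffffffe00000000000000000000ffffffffffffffffffffffffffffffffffffffffc00000000000000000001ffffffffffffffffffffffffffffffffffffffff800000000000000000003ffffffffffffffffffffffffffffffffffffffff000000000000000000007fffffffffffffffffffffffffffffffffffffffe00000000000000000000ffffffffffffffffffffffffffffffffffffffffc00000000000000000001ffffffffffffffffffffffffffffffffffffffff800000000000000000003ffffffffffffffffffffffffffffffffffffffff000000000000000000007fffffffffffffffffffffffffffffffffffffffe00000000000000000000,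
    0x7fffffffffffffffffffc0000000000000000000000000000000000000000ffffffffffffffffffff80000000000000000000000000000000000000001ffffffffffffffffffff00000000000000000000000000000000000000003fffffffffffffffffffe00000000000000000000000000000000000000007fffffffffffffffffffc0000000000000000000000000000000000000000ffffffffffffffffffff80000000000000000000000000000000000000001ffffffffffffffffffff00000000000000000000000000000000000000003fffffffffffffffffffe00000000000000000000000000000000000000007fffffffffffffffffffc0000000000000000000000000000000000000000⟩,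
    ⟨0x7ffffffffffffffffffffffffffffffffffffffffffffffffffffffffffffffffffffffffffffffffffffffffffffffffffffffffffffffffffffffffe0000000000000000000000000000000000000000000000000000000000003fffffffffffffffffffffffffffffffffffffffffffffffffffffffffffffffffffffffffffffffffffffffffffffffffffffffffffffffffffffffff0000000000000000000000000000000000000000000000000000000000001fffffffffffffffffffffffffffffffffffffffffffffffffffffffffffffffffffffffffffffffffffffffffffffffffffffffffffffffffffffffff8000000000000000000000000000000000000000000000000000000000000,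
    0x7ffffffffffffffffffffffffffffffffffffffffffffffffffffffffffff00000000000000000000000000000000000000000000000000000000000000000000000000000000000000000000000000000000000000000000000003ffffffffffffffffffffffffffffffffffffffffffffffffffffffffffff80000000000000000000000000000000000000000000000000000000000000000000000000000000000000000000000000000000000000000000000001ffffffffffffffffffffffffffffffffffffffffffffffffffffffffffffc0000000000000000000000000000000000000000000000000000000000000000000000000000000000000000000000000000000000000000000000000⟩,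
    ⟨0x7fffffffffffffffffffffffffffffffffffffffffffffffffffffffffffffffffffffffffffffffffffffffffffffffffffffffffffffffffffffffffffffffffffffffffffffffffffffffffffffffffffffffffffffffffffffffffffffffffffffffffffffffffffffffffffffffffffffffffffffffffffffffffffffffffffffffffffffffffffffffffffffffffffffffffffffffffffffffffffffffffffffffffffffffffffffffffffffffffffffffffffe00000000000000000000000000000000000000000000000000000000000000000000000000000000000000000000000000000000000000000000000000000000000000000000000000000000000000000000000000000000000000,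
    0x7fffffffffffffffffffffffffffffffffffffffffffffffffffffffffffffffffffffffffffffffffffffffffffffffffffffffffffffffffffffffffffffffffffffffffffffffffffffffffffffffffffffffffffffffffffffc0000000000000000000000000000000000000000000000000000000000000000000000000000000000000000000000000000000000000000000000000000000000000000000000000000000000000000000000000000000000000000000000000000000000000000000000000000000000000000000000000000000000000000000000000000000000000000000000000000000000000000000000000000000000000000000000000000000000000000000000000000⟩⟩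

/-- the check of one coordinate -/
private noncomputable def okC (t : T) (q n : ℕ) : Bool :=
  T.rec (fun z s => Nat.beq (Nat.mul (Nat.land 1 (Nat.shiftRight z n)) (Nat.succ (Nat.land 1 (Nat.shiftRight s n))))
    (Nat.mod (Nat.div n q) 3)) t

private theorem okC_spec {t : T} {q n : ℕ} (h : okC t q n = true) {a : ZMod 3} (e : n / q % 3 = a.val) : t.val n = a := by
  obtain ⟨z, s⟩ := t
  have h1 : (1 &&& z >>> n) * ((1 &&& s >>> n) + 1) = a.val := (Nat.eq_of_beq_eq_true h).trans e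
  have h2 : ∀ (u v : Fin 2) (a : ZMod 3), u.1 * (v.1 + 1) = a.val → vb (u.1 != 0) (v.1 != 0) = a := by decide
  exact h2 ⟨_, Nat.lt_succ_of_le Nat.and_le_left⟩ ⟨_, Nat.lt_succ_of_le Nat.and_le_left⟩ a h1

private noncomputable def allC (t : T) (q n : ℕ) : Bool := Nat.rec true (fun i ih => cond (okC t q i) ih false) n

private theorem allC_spec {t : T} {q : ℕ} : ∀ {n : ℕ}, allC t q n = true → ∀ i < n, okC t q i = true
  | 0, _, _, h => absurd h (Nat.not_lt_zero _)
  | n + 1, h, i, hi => by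
    have h1 : cond (okC t q n) (allC t q n) false = true := h
    cases e : okC t q n
    · rw [e] at h1
      cases h1
    · rw [e] at h1
      rcases Nat.lt_succ_iff_lt_or_eq.1 hi with h2 | rfl
      exacts [allC_spec h1 i h2, e]

theorem X_code (v : V7) : v.code < 2187 ∧ X.val v.code = v := by
  have h : (allC X.a 1 2187 && allC X.b 3 2187 && allC X.c 9 2187 && allC X.d 27 2187 && allC X.e 81 2187 &&
      allC X.f 243 2187 && allC X.g 729 2187) = true := by decide +kernel
  simp only [Bool.and_eq_true] at h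
  obtain ⟨⟨⟨⟨⟨⟨h1, h2⟩, h3⟩, h4⟩, h5⟩, h6⟩, h7⟩ := h
  obtain ⟨a, b, c, d, e, f, g⟩ := v
  have := a.val_lt
  have := b.val_lt
  have := c.val_lt
  have := d.val_lt
  have := e.val_lt
  have := f.val_lt
  have := g.val_lt
  obtain ⟨n, hn, h0⟩ : ∃ n, V7.code ⟨a, b, c, d, e, f, g⟩ = n ∧
    n = a.val + 3 * (b.val + 3 * (c.val + 3 * (d.val + 3 * (e.val + 3 * (f.val + 3 * g.val))))) := ⟨_, rfl, rfl⟩
  have h8 : n < 2187 := by omega
  rw [hn]
  refine ⟨h8, ?_⟩
  rw [W.val, okC_spec (allC_spec h1 n h8) (a := a) (by omega), okC_spec (allC_spec h2 n h8) (a := b) (by omega),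
    okC_spec (allC_spec h3 n h8) (a := c) (by omega), okC_spec (allC_spec h4 n h8) (a := d) (by omega),
    okC_spec (allC_spec h5 n h8) (a := e) (by omega), okC_spec (allC_spec h6 n h8) (a := f) (by omega),
    okC_spec (allC_spec h7 n h8) (a := g) (by omega)]

/-! ### refinement -/

/-- the points of `m` where the bit of `b` is the same as at `n` -/
noncomputable def sameB (n b m : ℕ) : ℕ := fB (Nat.land m b) fun u => cond (b.testBit n) u (Nat.xor m u)

theorem sameB_spec {n b m i : ℕ} (hm : m.testBit i = true) (h : b.testBit i = b.testBit n) :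
    (sameB n b m).testBit i = true := by
  rw [sameB, fB_eq, ← h]
  cases hb : b.testBit i <;> simp [hm, hb]

/-- the points of `m` where the value of `t` is the same as at `n` -/
noncomputable def sameT (n : ℕ) (t : T) (m : ℕ) : ℕ :=
  T.rec (fun z s => fB (sameB n z m) fun m => fB (Nat.land z s) fun u => sameB n u m) t

theorem sameT_spec {n m i : ℕ} {t : T} (hm : m.testBit i = true) (h : t.val i = t.val n) :
    (sameT n t m).testBit i = true := by
  obtain ⟨z, s⟩ := t
  have h1 : ∀ a b c d : Bool, vb a b = vb c d → a = c ∧ (a && b) = (c && d) := by decide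
  have h2 := h1 _ _ _ _ h
  rw [show sameT n ⟨z, s⟩ m = fB (sameB n z m) fun m => fB (Nat.land z s) fun u => sameB n u m from rfl, fB_eq, fB_eq]
  exact sameB_spec (sameB_spec hm h2.1) (by simpa only [Nat.land_eq, Nat.testBit_and] using h2.2)

/-- several refinements -/
noncomputable def fold {β : Type} (f : β → ℕ → ℕ) (l : List β) : ℕ → ℕ :=
  List.rec (fun m => m) (fun a _ ih m => fB (f a m) ih) l

theorem fold_spec {β : Type} {f : β → ℕ → ℕ} {i : ℕ} : ∀ {l : List β}, (∀ a ∈ l, ∀ m, m.testBit i = true →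
    (f a m).testBit i = true) → ∀ {m : ℕ}, m.testBit i = true → (fold f l m).testBit i = true
  | [], _, _, hm => hm
  | a :: l, h, m, hm => by
    show Nat.testBit (fB _ _) i = true
    rw [fB_eq]
    exact fold_spec (fun b hb => h b (List.mem_cons_of_mem _ hb)) (h a List.mem_cons_self m hm)

/-- a combination -/
noncomputable def linW (p : List (ZMod 3)) : List W → W :=
  List.rec (fun _ => zW) (fun c _ ih ys => List.rec zW (fun y ys _ => axW c y (ih ys)) ys) p

/-- the iterates -/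
noncomputable def iter {α : Type} (w : List (Fin 8)) (d : ℕ) : W → (List W → α) → α :=
  Nat.rec (fun _ k => k []) (fun _ ih x k => fW x fun x => ih (actL w x) fun l => k (x :: l)) d

/-- a level : the vector, the number of the new fixed vectors, the polynomials -/
structure Lv where
  n : ℕ
  d : ℕ
  ps : List (List (ZMod 3))

/-- the candidates for the image of the vector -/
noncomputable def cand (ys : List W) (qs : List T) (fx : List V7) (l : Lv) : ℕ :=
  fold (fun p m => fB (nzW (linW p ys)) fun b => sameB l.n b m) l.ps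
    (fold (fun u m => sameT l.n (dotT u X) m) fx (fold (sameT l.n) qs (Nat.sub (Nat.pow 2 2187) 1)))

/-- the product of the numbers of the candidates -/
noncomputable def run (ys : List W) (qs : List T) (lv : List Lv) : List V7 → ℕ :=
  List.rec (fun _ => 1) (fun l _ ih fx => Nat.mul (fB (cand ys qs fx l) (popS 12 (cmb 12 8)))
    (ih (X.val l.n :: (ys.take l.d).map (·.val l.n) ++ fx))) lv

/-- the last levels -/
def lb : List Lv := [⟨1, 0, []⟩, ⟨3, 0, []⟩, ⟨9, 0, []⟩, ⟨27, 0, []⟩, ⟨81, 0, []⟩, ⟨243, 0, []⟩, ⟨729, 0, []⟩]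

/-- the bound -/
noncomputable def bnd (w : List (Fin 8)) (d : ℕ) (lv : List Lv) : ℕ :=
  iter w d X fun ys => run ys (ys.map (dotW X)) (lv ++ lb) []

/-! ### soundness -/

local notation "O7" => isometryGroup (ZMod 3) Q

/-- the family is equivariant -/
def Eq' (g : O7) (y : W) : Prop := ∀ c : O7, Commute c g → ∀ n i, (X.val i).toFun = mat c *ᵥ (X.val n).toFun →
  (y.val i).toFun = mat c *ᵥ (y.val n).toFun

theorem Eq'.act {w : List (Fin 8)} {y : W} (h : Eq' (ev gen w) y) : Eq' (ev gen w) (actL w y) := fun c hc n i e => by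
  rw [val_actL, val_actL, ← mat_ev, ← mat_ev, h c hc n i e, mulVec_mulVec, mulVec_mulVec, ← mat_mul, ← mat_mul, hc.eq]

theorem eq'_lin {g : O7} : ∀ (p : List (ZMod 3)) {ys : List W}, (∀ y ∈ ys, Eq' g y) → Eq' g (linW p ys)
  | [], _, _ => fun c _ n i _ => by
    show (zW.val i).toFun = _ *ᵥ (zW.val n).toFun
    rw [val_zW, val_zW, mulVec_zero]
  | _ :: _, [], _ => fun c _ n i _ => by
    show (zW.val i).toFun = _ *ᵥ (zW.val n).toFun
    rw [val_zW, val_zW, mulVec_zero]
  | a :: p, y :: ys, h => fun c hc n i e => by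
    show ((axW a y (linW p ys)).val i).toFun = _ *ᵥ ((axW a y (linW p ys)).val n).toFun
    rw [val_axW, val_axW, mulVec_add, mulVec_smul, h y List.mem_cons_self c hc n i e,
      eq'_lin p (fun z hz => h z (List.mem_cons_of_mem _ hz)) c hc n i e]

theorem iter_spec {α : Type} (w : List (Fin 8)) : ∀ (d : ℕ) {x : W}, Eq' (ev gen w) x → ∀ k : List W → α,
    ∃ ys, (∀ y ∈ ys, Eq' (ev gen w) y) ∧ iter w d x k = k ys
  | 0, _, _, _ => ⟨[], fun _ h => (by cases h), rfl⟩
  | d + 1, x, hx, k => by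
    obtain ⟨ys, h1, h2⟩ := iter_spec w d hx.act fun l => k (x :: l)
    exact ⟨x :: ys, List.forall_mem_cons.2 ⟨hx, h1⟩, h2⟩

/-- the stabilizers -/
def HS (g : O7) (fx : List V7) : Subgroup O7 where
  carrier := {c | Commute c g ∧ ∀ u ∈ fx, mat c *ᵥ u.toFun = u.toFun}
  one_mem' := ⟨Commute.one_left g, fun _ _ => one_mulVec _⟩
  mul_mem' ha hb := ⟨ha.1.mul_left hb.1, fun u hu => by rw [mat_mul, ← mulVec_mulVec, hb.2 u hu, ha.2 u hu]⟩
  inv_mem' := fun {a} ha => ⟨ha.1.inv_left, fun u hu => by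
    nth_rewrite 1 [← ha.2 u hu]
    rw [mulVec_mulVec, ← mat_mul, inv_mul_cancel, mat_one, one_mulVec]⟩

theorem card_step {G : Type} [Group G] [Finite G] (H K : Subgroup G) (f : G → ℕ) (S : Finset ℕ) (h1 : ∀ c ∈ H, f c ∈ S)
    (h2 : ∀ a ∈ H, ∀ b ∈ H, f a = f b → a⁻¹ * b ∈ K) : Nat.card H ≤ S.card * Nat.card K := by
  classical
  have h3 : ∀ s, ∃ r : G, (∃ c ∈ H, f c = s) → r ∈ H ∧ f r = s := fun s => by
    by_cases h : ∃ c ∈ H, f c = s
    · obtain ⟨c, hc⟩ := h
      exact ⟨c, fun _ => hc⟩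
    · exact ⟨1, fun e => absurd e h⟩
  choose r hr using h3
  rw [← Nat.card_eq_finsetCard, ← Nat.card_prod]
  refine Nat.card_le_card_of_injective (fun c : H => ((⟨f c, h1 c c.2⟩, ⟨(r (f c))⁻¹ * c,
    h2 _ (hr _ ⟨c, c.2, rfl⟩).1 _ c.2 (hr _ ⟨c, c.2, rfl⟩).2⟩) : S × K)) fun a b e => ?_
  have e1 : f a = f b := congrArg (fun p : S × K => p.1.1) e
  have e2 : (r (f a))⁻¹ * a = (r (f b))⁻¹ * b := congrArg (fun p : S × K => p.2.1) e
  rw [e1] at e2
  exact Subtype.ext (mul_left_cancel e2)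

theorem fin7 : Finite O7 := inferInstance

theorem X_img (c : O7) (n : ℕ) : (X.val (ofFun (mat c *ᵥ (X.val n).toFun)).code).toFun = mat c *ᵥ (X.val n).toFun := by
  rw [(X_code _).2, toFun_ofFun]

theorem cand_spec {g c : O7} {ys : List W} (hy : ∀ y ∈ ys, Eq' g y) {fx : List V7} (hc : c ∈ HS g fx) (l : Lv) :
    (cand ys (ys.map (dotW X)) fx l).testBit (ofFun (mat c *ᵥ (X.val l.n).toFun)).code = true := by
  have e := X_img c l.n
  have h0 := (X_code (ofFun (mat c *ᵥ (X.val l.n).toFun))).1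
  generalize (ofFun (mat c *ᵥ (X.val l.n).toFun)).code = i at e h0
  refine fold_spec (fun p _ m hm => ?_) (fold_spec (fun u hu m hm => sameT_spec hm ?_)
    (fold_spec (fun q hq m hm => sameT_spec hm ?_) ?_))
  · rw [fB_eq]
    refine sameB_spec hm (Bool.eq_iff_iff.2 (not_iff_not.1 ?_))
    rw [Bool.not_eq_true, Bool.not_eq_true, nzW_iff, nzW_iff, eq'_lin p hy c hc.1 _ _ e]
    refine ⟨fun h => ?_, fun h => by rw [h, mulVec_zero]⟩
    have h1 := congrArg (mat c⁻¹ *ᵥ ·) h
    simpa only [mulVec_mulVec, ← mat_mul, inv_mul_cancel, mat_one, one_mulVec, mulVec_zero] using h1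
  · rw [val_dotT, val_dotT, ← B_toFun, ← B_toFun, e, ← B_mat c u.toFun (X.val l.n).toFun, hc.2 u hu]
  · obtain ⟨y, h1, rfl⟩ := List.mem_map.1 hq
    rw [val_dotW, val_dotW, ← B_toFun, ← B_toFun, e, hy y h1 c hc.1 _ _ e, B_mat]
  · exact (Nat.testBit_two_pow_sub_one 2187 i).trans (decide_eq_true h0)

theorem run_spec {g : O7} {ys : List W} (hy : ∀ y ∈ ys, Eq' g y) : ∀ (lv : List Lv) (fx : List V7),
    (∀ c : O7, (∀ u ∈ fx, mat c *ᵥ u.toFun = u.toFun) → (∀ l ∈ lv, mat c *ᵥ (X.val l.n).toFun = (X.val l.n).toFun) →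
      c = 1) → Nat.card (HS g fx) ≤ run ys (ys.map (dotW X)) lv fx
  | [], fx, h => by
    rw [((HS g fx).eq_bot_iff_forall).2 fun c hc => h c hc.2 fun _ e => (by cases e), card_bot]
    exact le_rfl
  | l :: lv, fx, h => by
    have := fin7
    have h1 := run_spec hy lv (X.val l.n :: (ys.take l.d).map (·.val l.n) ++ fx) fun c h1 h2 =>
      h c (fun u hu => h1 u (List.mem_append_right _ hu))
        (List.forall_mem_cons.2 ⟨h1 _ (List.mem_append_left _ List.mem_cons_self), h2⟩)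
    refine (card_step _ (HS g (X.val l.n :: (ys.take l.d).map (·.val l.n) ++ fx))
      (fun c => (ofFun (mat c *ᵥ (X.val l.n).toFun)).code)
      ((Finset.range (12 * 2 ^ 8)).filter fun i => (cand ys (ys.map (dotW X)) fx l).testBit i = true)
      (fun c hc => Finset.mem_filter.2 ⟨Finset.mem_range.2 ((X_code _).1.trans (by decide)), cand_spec hy hc l⟩)
      fun a ha b hb e => ?_).trans (Nat.mul_le_mul (le_of_eq ?_) h1)
    · have h2 := mul_mem (inv_mem ha) hb
      have h3 : mat (a⁻¹ * b) *ᵥ (X.val l.n).toFun = (X.val l.n).toFun := by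
        rw [mat_mul, ← mulVec_mulVec, ← X_img b, ← e, X_img, mulVec_mulVec, ← mat_mul, inv_mul_cancel, mat_one,
          one_mulVec]
      refine ⟨h2.1, List.forall_mem_append.2 ⟨List.forall_mem_cons.2 ⟨h3, fun u hu => ?_⟩, h2.2⟩⟩
      obtain ⟨y, h4, rfl⟩ := List.mem_map.1 hu
      exact (hy y (List.mem_of_mem_take h4) _ h2.1 _ _ h3.symm).symm
    · have h2 : ∀ x : ℕ, ((Finset.range (12 * 2 ^ 8)).filter fun i => x.testBit i = true).card =
          ∑ i ∈ Finset.range (12 * 2 ^ 8), (x.testBit i).toNat := fun x => by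
        rw [Finset.card_filter]
        exact Finset.sum_congr rfl fun i _ => by cases x.testBit i <;> rfl
      rw [fB_eq, popS_eq (by decide), h2]
      rw [← h2]
      exact ((Finset.card_filter_le _ _).trans_eq (Finset.card_range _)).trans_lt (by decide)

theorem lb_basis : ∀ x ∈ basis, ∃ l ∈ lb, X.val l.n = x := by decide +kernel

/-- **the centralizer in the isometry group** -/
theorem card_le_bnd (w : List (Fin 8)) (d : ℕ) (lv : List Lv) : Nat.card (HS (ev gen w) []) ≤ bnd w d lv := by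
  obtain ⟨ys, h1, h2⟩ := iter_spec w d (x := X) (fun _ _ _ _ e => e)
    fun ys => run ys (ys.map (dotW X)) (lv ++ lb) []
  rw [bnd, h2]
  refine run_spec h1 _ _ fun c _ h => mat_injective (Matrix.ext_of_mulVec_single fun i => ?_)
  obtain ⟨l, h3, h4⟩ := lb_basis _ (single_mem i)
  have h5 := h l (List.mem_append_right _ h3)
  rw [h4, toFun_ofFun] at h5
  rw [h5, mat_one, one_mulVec]

/-! ### the spinor norm -/

/-- the form -/
def QF : QuadraticForm (ZMod 3) (Ix → ZMod 3) :=
  (LieClassical.OrthForms.oddForm 3 (ZMod 3)).copy Q (LieClassical.OrthForms.coe_oddForm _ _).symm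

open ClassicalGeometry.SpinorSign ClassicalGeometry.Reflection in
/-- the two signs -/
noncomputable def sg : O7 →* ℤˣ × ℤˣ := (spinorSign Q 1).prod (spinorSign Q (-1))

/-- a reflection on tuples -/
def rf (v x : V7) : V7 :=
  ⟨x.a - v.q * v.dot x * v.a, x.b - v.q * v.dot x * v.b, x.c - v.q * v.dot x * v.c, x.d - v.q * v.dot x * v.d,
    x.e - v.q * v.dot x * v.e, x.f - v.q * v.dot x * v.f, x.g - v.q * v.dot x * v.g⟩

/-- the signs of a reflection -/
def sv (v : V7) : ℤˣ × ℤˣ := if v.q = 1 then (-1, 1) else (1, -1)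

open ClassicalGeometry.SpinorSign ClassicalGeometry.Reflection in
theorem exists_rf (v : V7) (hv : v.q ≠ 0) : ∃ r : O7, sg r = sv v ∧ ∀ x : V7, mat r *ᵥ x.toFun = (rf v x).toFun := by
  have h1 : QF v.toFun = v.q := Q_toFun v
  have h2 : QF v.toFun ≠ 0 := h1 ▸ hv
  refine ⟨reflIso QF _ h2, ?_, fun x => ?_⟩
  · have h3 := spinorSign_reflIso (by decide) QF one_ne_zero _ h2
    have h4 := spinorSign_reflIso (by decide) QF (c := -1) (by decide) _ h2
    have h5 : ∀ q : ZMod 3, q ≠ 0 → ((if IsSquare (1 * q) then -1 else 1, if IsSquare (-1 * q) then -1 else 1) : ℤˣ × ℤˣ) =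
        if q = 1 then (-1, 1) else (1, -1) := by decide
    rw [h1] at h3 h4
    exact (Prod.ext h3 h4).trans (h5 _ hv)
  · have h3 : ∀ q : ZMod 3, q⁻¹ = q := by decide +kernel
    have h4 : QuadraticMap.polar QF v.toFun x.toFun = v.dot x := by
      rw [← B_toFun, B_eq]
      rfl
    refine (reflectionMatrix_mulVec QF _ _).trans ?_
    rw [h1, h3, h4]
    funext j
    rcases j with ⟨⟩ | j | j
    · simp [V7.toFun, rf]
    · fin_cases j <;> simp [V7.toFun, rf]
    · fin_cases j <;> simp [V7.toFun, rf]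

/-- a product of reflections on tuples -/
def rfL : List ℕ → V7 → V7
  | [], x => x
  | n :: l, x => rf (X.val n) (rfL l x)

theorem exists_rfL : ∀ l : List ℕ, (∀ n ∈ l, (X.val n).q ≠ 0) →
    ∃ r : O7, sg r = (l.map fun n => sv (X.val n)).prod ∧ ∀ x : V7, mat r *ᵥ x.toFun = (rfL l x).toFun
  | [], _ => ⟨1, map_one _, fun _ => one_mulVec _⟩
  | n :: l, h => by
    obtain ⟨r, h1, h2⟩ := exists_rf _ (h n List.mem_cons_self)
    obtain ⟨s, h3, h4⟩ := exists_rfL l fun m hm => h m (List.mem_cons_of_mem _ hm)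
    exact ⟨r * s, by rw [map_mul, h1, h3]; rfl, fun x => by rw [mat_mul, ← mulVec_mulVec, h4, h2]; rfl⟩

/-- a reflection on a family -/
private noncomputable def rfT (v : V7) (x : W) : W :=
  fW x fun x => fT (dotT v x) fun k => mkW (T.ax (-(v.q * v.a)) k x.a) (T.ax (-(v.q * v.b)) k x.b)
    (T.ax (-(v.q * v.c)) k x.c) (T.ax (-(v.q * v.d)) k x.d) (T.ax (-(v.q * v.e)) k x.e) (T.ax (-(v.q * v.f)) k x.f)
    (T.ax (-(v.q * v.g)) k x.g)

private theorem val_rfT (v : V7) (x : W) (i : ℕ) : (rfT v x).val i = rf v (x.val i) := by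
  rw [rfT, fW_eq, fT_eq, mkW_eq]
  simp only [W.val, val_ax, val_dotT, rf, V7.mk.injEq]
  refine ⟨?_, ?_, ?_, ?_, ?_, ?_, ?_⟩ <;> ring

/-- a product of reflections on a family -/
private noncomputable def rfW (l : List ℕ) (x : W) : W := List.rec x (fun n _ r => rfT (X.val n) r) l

private theorem val_rfW (x : W) (i : ℕ) : ∀ l, (rfW l x).val i = rfL l (x.val i)
  | [] => rfl
  | _ :: l => (val_rfT _ _ i).trans (congrArg _ (val_rfW x i l))

/-- the product of the reflections commutes with the word and has the signs `s` -/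
noncomputable def okR (w : List (Fin 8)) (l : List ℕ) (s : ℤˣ × ℤˣ) : Bool :=
  (l.all fun n => decide ((X.val n).q ≠ 0)) && decide ((l.map fun n => sv (X.val n)).prod = s) &&
    fW (rfW l (actL w X)) fun A => Nat.beq (nzW (axW 2 A (actL w (rfW l X)))) 0

theorem okR_spec {w : List (Fin 8)} {l : List ℕ} {s : ℤˣ × ℤˣ} (h : okR w l s = true) :
    s ∈ (HS (ev gen w) []).map sg := by
  simp only [okR, Bool.and_eq_true, List.all_eq_true, decide_eq_true_eq, fW_eq, Nat.beq_eq] at h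
  obtain ⟨r, h1, h2⟩ := exists_rfL l h.1.1
  refine ⟨r, ⟨mat_injective (Matrix.ext_of_mulVec_single fun i => ?_), fun _ e => by cases e⟩, h1.trans h.1.2⟩
  have h3 := (nzW_iff (axW 2 (rfW l (actL w X)) (actL w (rfW l X))) (ofFun (Pi.single i 1)).code).1
    (by rw [h.2, Nat.zero_testBit])
  rw [val_axW, val_rfW, val_actL, val_actL, val_rfW, (X_code _).2] at h3
  have h4 : ∀ a b : ZMod 3, 2 * a + b = 0 → a = b := by decide
  rw [mat_mul, mat_mul, ← mulVec_mulVec, ← mulVec_mulVec, ← toFun_ofFun (Pi.single i 1), mat_ev, h2, h2, mat_ev]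
  exact funext fun j => h4 _ _ (congrFun h3 j)

theorem neg_mem (g : O7) : ((1, -1) : ℤˣ × ℤˣ) ∈ (HS g []).map sg := by
  obtain ⟨r, h1, h2⟩ := exists_rfL [1, 84, 165, 252, 495, 756, 1485] (by decide +kernel)
  have h3 : ∀ x ∈ basis, (rfL [1, 84, 165, 252, 495, 756, 1485] x).toFun = -x.toFun := by decide +kernel
  have h4 : mat r = -1 := Matrix.ext_of_mulVec_single fun i => by
    rw [← toFun_ofFun (Pi.single i 1), h2, h3 _ (single_mem i), neg_mulVec, one_mulVec]
  refine ⟨r, ⟨mat_injective ?_, fun _ e => by cases e⟩, h1.trans (by decide +kernel)⟩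
  rw [mat_mul, mat_mul, h4, neg_one_mul, mul_neg_one]

theorem toO_inj : Function.Injective toO := Fischer.Y322Iso.injective_of_ne toO ⟨x8 0, fun h => gen01_ne (by
  rw [← toO_x8 0, h, one_mul, mul_one])⟩

theorem cent_mul (w : List (Fin 8)) : Nat.card ((HS (ev gen w) []).map sg) * Nat.card (centralizer {ev x8 w}) ≤
    Nat.card (HS (ev gen w) []) := by
  have := fin7
  have e : toO (ev x8 w) = ev gen w := (Fischer.Y322.map_ev toO x8 w).trans (congrArg (ev · w) (funext toO_x8))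
  rw [← (sg.comp (HS (ev gen w) []).subtype).ker.index_mul_card, index_ker, MonoidHom.range_comp, range_subtype]
  refine Nat.mul_le_mul_left _ (Nat.card_le_card_of_injective (fun c => ⟨⟨toO c, ?_, fun _ e => by cases e⟩, ?_⟩)
    fun a b h => Subtype.ext (toO_inj (congrArg (fun x => x.1.1) h)))
  · rw [← e]
    exact (show Commute c.1 (ev x8 w) from mem_centralizer_singleton_iff.1 c.2).map toO
  · exact Abelianization.commutator_subset_ker sg (toO_mem c)

/-- **a centralizer in `Ω₇(3)`**, if the class does not split -/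
theorem cent_four {w : List (Fin 8)} {d : ℕ} {lv : List Lv} {l : List ℕ} {c : ℕ}
    (h : (Nat.ble (bnd w d lv) (4 * c) && (okR w l (-1, 1) || okR w l (-1, -1))) = true) :
    Nat.card (centralizer {ev x8 w}) ≤ c := by
  rw [Bool.and_eq_true, Bool.or_eq_true] at h
  have h1 := (cent_mul w).trans ((card_le_bnd w d lv).trans (Nat.le_of_ble_eq_true h.1))
  have h2 := neg_mem (ev gen w)
  have h3 : ((-1, 1) : ℤˣ × ℤˣ) ∈ (HS (ev gen w) []).map sg :=
    h.2.elim okR_spec fun e => mul_mem h2 (okR_spec e)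
  have h4 : ∀ s : ℤˣ × ℤˣ, s = 1 ∨ s = (-1, 1) ∨ s = (1, -1) ∨ s = (-1, 1) * (1, -1) := by decide
  have h5 : (HS (ev gen w) []).map sg = ⊤ := (eq_top_iff' _).2 fun s => by
    rcases h4 s with rfl | rfl | rfl | rfl
    exacts [one_mem _, h3, h2, mul_mem h3 h2]
  rw [h5, card_top, Nat.card_prod, Nat.card_eq_fintype_card] at h1
  exact Nat.le_of_mul_le_mul_left h1 (by decide)

/-- **a centralizer in `Ω₇(3)`** -/
theorem cent_two {w : List (Fin 8)} {d : ℕ} {lv : List Lv} {c : ℕ} (h : Nat.ble (bnd w d lv) (2 * c) = true) :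
    Nat.card (centralizer {ev x8 w}) ≤ c := by
  have h1 := (cent_mul w).trans ((card_le_bnd w d lv).trans (Nat.le_of_ble_eq_true h))
  have h2 : 1 < Nat.card ((HS (ev gen w) []).map sg) :=
    Finite.one_lt_card_iff_nontrivial.2 ⟨⟨_, neg_mem _⟩, 1, fun e =>
      absurd (show ((1, -1) : ℤˣ × ℤˣ) = 1 from congrArg Subtype.val e) (by decide)⟩
  exact Nat.le_of_mul_le_mul_left ((Nat.mul_le_mul_right _ h2).trans h1) (by decide)

end Cfsg.Agent.MK.C3L.O

private theorem dce_2272f898f145 : _root_.True := by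
  try have : _root_.True := by simp only [_root_.Cfsg.Agent.MK.C3L.O.okR.eq_1]
  try have : _root_.True := by simp only [_root_.Cfsg.Agent.MK.C3L.O.okX.eq_1]
  try have : _root_.True := by simp only [_root_.Cfsg.Agent.MK.C3L.O.nzW.eq_1]
  try have : _root_.True := by simp only [_root_.Cfsg.Agent.MK.C3L.O.rf.eq_1]
  try have : _root_.True := by simp only [_root_.Cfsg.Agent.MK.C3L.O.W.val.eq_1]
  try have : _root_.True := by simp only [_root_.Cfsg.Agent.MK.C3L.O.bnd.eq_1]
  try have : _root_.True := by simp only [_root_.Cfsg.Agent.MK.C3L.O.dotT.eq_1]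
  try have : _root_.True := by simp only [_root_.Cfsg.Agent.MK.C3L.O.actT.eq_1]
  try have : _root_.True := by simp only [_root_.Cfsg.Agent.MK.C3L.O.dotW.eq_1]
  try have : _root_.True := by simp only [_root_.Cfsg.Agent.MK.C3L.O.axW.eq_1]
  try have : _root_.True := by simp only [_root_.Cfsg.Agent.MK.C3L.O.T.val.eq_1]
  try have : _root_.True := by simp only [_root_.Cfsg.Agent.MK.C3L.O.sameB.eq_1]
  try have : _root_.True := by simp only [_root_.Cfsg.Agent.MK.C3L.O.zW.eq_1]
  try have : _root_.True := by simp only [_root_.Cfsg.Agent.MK.C3L.O.vb.eq_1]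
  try have : _root_.True := by simp only [_root_.Cfsg.Agent.MK.C3L.O.mkT.eq_1]
  exact _root_.True.intro
end

-- part: MK/C3L/OCls
section
set_option linter.all false

/-!
# The centralizer orders of the 57 nontrivial classes of `Ω₇(3)` (helper94; generated by notes/MK/o7)
-/

set_option autoImplicit false
set_option maxRecDepth 100000

namespace Cfsg.Agent.MK.C3L.O

open Subgroup Cfsg.Agent.Fischer.Derived Cfsg.Agent.Fischer.Y322

/-- order 13 -/
theorem c1 : Nat.card (centralizer {ev x8 [2, 3, 4, 2, 3, 6, 0, 3, 1, 3, 2, 5, 6, 1, 7]}) ≤ 13 :=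
  cent_four (d := 7) (lv := [⟨1, 7, []⟩])
    (l := [28]) (by decide +kernel)

/-- order 6 -/
theorem c2 : Nat.card (centralizer {ev x8 [0, 1, 5, 7, 4]}) ≤ 324 :=
  cent_four (d := 4) (lv := [⟨4, 4, []⟩, ⟨9, 3, []⟩])
    (l := [38, 1566, 2044]) (by decide +kernel)

/-- order 3 -/
theorem c3 : Nat.card (centralizer {ev x8 [0, 3, 4, 1]}) ≤ 2916 :=
  cent_four (d := 3) (lv := [⟨1, 3, []⟩, ⟨9, 3, []⟩, ⟨3, 1, []⟩])
    (l := [916, 2039, 815]) (by decide +kernel)

/-- order 2 -/
theorem c4 : Nat.card (centralizer {ev x8 [7]}) ≤ 13063680 :=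
  cent_four (d := 2) (lv := [⟨1, 2, []⟩, ⟨27, 1, []⟩, ⟨3, 1, [[2, 1]]⟩, ⟨81, 1, []⟩, ⟨9, 1, [[2, 1]]⟩, ⟨243, 1, []⟩])
    (l := [1125, 1003, 281, 440]) (by decide +kernel)

/-- order 8 -/
theorem c5 : Nat.card (centralizer {ev x8 [3, 2, 4, 5, 6, 1, 2, 6]}) ≤ 16 :=
  cent_four (d := 7) (lv := [⟨1, 7, []⟩])
    (l := [730, 1999]) (by decide +kernel)

/-- order 4 -/
theorem c6 : Nat.card (centralizer {ev x8 [2, 5, 1, 6, 2, 1, 3]}) ≤ 384 :=
  cent_four (d := 4) (lv := [⟨5, 4, [[2, 0, 1]]⟩, ⟨1, 3, []⟩])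
    (l := [1799, 716]) (by decide +kernel)

/-- order 2 -/
theorem c7 : Nat.card (centralizer {ev x8 [6, 0, 3]}) ≤ 13824 :=
  cent_four (d := 2) (lv := [⟨4, 2, [[2, 1]]⟩, ⟨31, 2, [[1, 1]]⟩, ⟨28, 2, [[2, 1]]⟩, ⟨9, 1, []⟩])
    (l := [84, 757, 1170]) (by decide +kernel)

/-- order 20 -/
theorem c8 : Nat.card (centralizer {ev x8 [2, 6, 0, 5, 1, 4, 2, 3, 7, 6]}) ≤ 20 :=
  cent_four (d := 7) (lv := [⟨1, 7, []⟩])
    (l := [1057, 544]) (by decide +kernel)

/-- order 10 -/
theorem c9 : Nat.card (centralizer {ev x8 [2, 5, 6, 3, 7, 0]}) ≤ 40 :=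
  cent_four (d := 6) (lv := [⟨4, 6, []⟩, ⟨27, 1, []⟩])
    (l := [731]) (by decide +kernel)

/-- order 5 -/
theorem c10 : Nat.card (centralizer {ev x8 [1, 7, 6, 2]}) ≤ 120 :=
  cent_four (d := 5) (lv := [⟨1, 5, []⟩, ⟨3, 1, [[1, 1, 1, 1, 1]]⟩, ⟨81, 1, []⟩])
    (l := [763, 844]) (by decide +kernel)

/-- order 4 -/
theorem c11 : Nat.card (centralizer {ev x8 [0, 1, 2]}) ≤ 2880 :=
  cent_four (d := 4) (lv := [⟨10, 4, []⟩, ⟨27, 1, []⟩, ⟨3, 1, [[2, 1]]⟩, ⟨81, 1, []⟩])
    (l := [83, 86]) (by decide +kernel)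

/-- order 2 -/
theorem c12 : Nat.card (centralizer {ev x8 [4, 0]}) ≤ 207360 :=
  cent_four (d := 2) (lv := [⟨1, 2, []⟩, ⟨29, 2, [[1, 1]]⟩, ⟨3, 1, []⟩, ⟨9, 1, [[1, 1]]⟩, ⟨243, 1, []⟩])
    (l := [1096, 328, 26]) (by decide +kernel)

/-- order 4 -/
theorem c15 : Nat.card (centralizer {ev x8 [6, 3, 2, 3, 1, 2]}) ≤ 1152 :=
  cent_four (d := 3) (lv := [⟨5, 3, [[2, 1]]⟩, ⟨11, 3, [[1, 0, 1]]⟩, ⟨1, 1, []⟩])
    (l := [74, 495]) (by decide +kernel)

/-- order 15 -/
theorem c17 : Nat.card (centralizer {ev x8 [7, 2, 5, 1, 6, 4]}) ≤ 15 :=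
  cent_four (d := 7) (lv := [⟨4, 7, []⟩])
    (l := [165, 1520, 84]) (by decide +kernel)

/-- order 3 -/
theorem c18 : Nat.card (centralizer {ev x8 [1, 0]}) ≤ 174960 :=
  cent_four (d := 3) (lv := [⟨9, 3, []⟩, ⟨1, 1, []⟩, ⟨27, 1, []⟩, ⟨84, 1, []⟩, ⟨3, 1, []⟩])
    (l := [163, 2001, 1758]) (by decide +kernel)

/-- order 10 -/
theorem c19 : Nat.card (centralizer {ev x8 [4, 2, 5, 3, 7]}) ≤ 20 :=
  cent_four (d := 6) (lv := [⟨30, 6, [[2, 2, 1, 2, 1, 1]]⟩, ⟨3, 1, []⟩])
    (l := [414]) (by decide +kernel)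

/-- order 7 -/
theorem c20 : Nat.card (centralizer {ev x8 [2, 3, 5, 4, 0, 1]}) ≤ 14 :=
  cent_four (d := 7) (lv := [⟨1, 7, []⟩])
    (l := [414, 746, 1535, 217, 654, 2128]) (by decide +kernel)

/-- order 8 -/
theorem c21 : Nat.card (centralizer {ev x8 [7, 1, 2, 3, 6]}) ≤ 16 :=
  cent_four (d := 6) (lv := [⟨4, 6, [[2, 1, 0, 0, 2, 1]]⟩, ⟨1, 1, []⟩])
    (l := [2136]) (by decide +kernel)

/-- order 12 -/
theorem c22 : Nat.card (centralizer {ev x8 [7, 2, 5, 3, 0, 6, 1]}) ≤ 48 :=
  cent_four (d := 6) (lv := [⟨1, 6, []⟩, ⟨3, 1, []⟩])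
    (l := [730]) (by decide +kernel)

/-- order 6 -/
theorem c23 : Nat.card (centralizer {ev x8 [0, 6, 7, 1, 3, 2, 0, 6, 7, 1, 3, 2]}) ≤ 864 :=
  cent_four (d := 3) (lv := [⟨3, 3, []⟩, ⟨1, 3, [[1, 2, 1]]⟩, ⟨27, 1, []⟩])
    (l := [493, 1471, 346]) (by decide +kernel)

/-- order 3 -/
theorem c24 : Nat.card (centralizer {ev x8 [0, 6, 7, 1, 3, 2, 0, 6, 7, 1, 3, 2, 0, 6, 7, 1, 3, 2, 0, 6, 7, 1, 3, 2]}) ≤ 629856 :=
  cent_four (d := 2) (lv := [⟨1, 2, [[2, 1]]⟩, ⟨3, 2, []⟩, ⟨9, 1, []⟩, ⟨108, 1, []⟩, ⟨27, 1, []⟩])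
    (l := [1815, 1159, 1941, 722]) (by decide +kernel)

/-- order 12 -/
theorem c25 : Nat.card (centralizer {ev x8 [3, 6, 0, 5, 4, 7]}) ≤ 24 :=
  cent_four (d := 6) (lv := [⟨37, 6, [[2, 0, 2, 1, 0, 1]]⟩, ⟨1, 1, []⟩])
    (l := [1330]) (by decide +kernel)

/-- order 6 -/
theorem c26 : Nat.card (centralizer {ev x8 [5, 3, 7, 2]}) ≤ 432 :=
  cent_four (d := 4) (lv := [⟨4, 4, []⟩, ⟨282, 2, [[1, 1]]⟩, ⟨9, 1, []⟩])
    (l := [783, 510]) (by decide +kernel)

/-- order 4 -/
theorem c27 : Nat.card (centralizer {ev x8 [4, 7, 3, 5]}) ≤ 192 :=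
  cent_four (d := 4) (lv := [⟨13, 4, [[2, 1, 2, 1]]⟩, ⟨48, 2, [[1, 1, 1, 1]]⟩, ⟨3, 1, []⟩])
    (l := [1827, 1971]) (by decide +kernel)

/-- order 13 -/
theorem c28 : Nat.card (centralizer {ev x8 [4, 2, 5, 6, 3, 0, 1, 7]}) ≤ 13 :=
  cent_four (d := 7) (lv := [⟨1, 7, []⟩])
    (l := [56]) (by decide +kernel)

/-- order 9 -/
theorem c30 : Nat.card (centralizer {ev x8 [6, 4, 0, 1, 2, 3, 6, 7, 1, 2, 6, 4, 0, 1, 2, 3, 6, 7, 1, 2]}) ≤ 324 :=
  cent_four (d := 5) (lv := [⟨1, 5, []⟩, ⟨3, 1, []⟩, ⟨9, 1, []⟩])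
    (l := [404, 1570]) (by decide +kernel)

/-- order 6 -/
theorem c31 : Nat.card (centralizer {ev x8 [1, 6, 7, 0, 2, 3, 4, 1, 6, 7, 0, 2, 3, 4, 1, 6, 7, 0, 2, 3, 4]}) ≤ 23328 :=
  cent_four (d := 3) (lv := [⟨1, 3, [[2, 0, 1]]⟩, ⟨3, 2, []⟩, ⟨9, 1, []⟩, ⟨27, 1, []⟩])
    (l := [1441, 1191, 369]) (by decide +kernel)

/-- order 14 -/
theorem c35 : Nat.card (centralizer {ev x8 [5, 4, 1, 7, 0, 3, 2]}) ≤ 14 :=
  cent_four (d := 7) (lv := [⟨1, 7, []⟩])
    (l := [608, 356, 119, 1385, 2044, 186]) (by decide +kernel)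

/-- order 18 -/
theorem c38 : Nat.card (centralizer {ev x8 [6, 4, 0, 1, 2, 3, 6, 7, 1, 2]}) ≤ 36 :=
  cent_four (d := 6) (lv := [⟨1, 6, []⟩, ⟨3, 1, []⟩])
    (l := [1937]) (by decide +kernel)

/-- order 6 -/
theorem c39 : Nat.card (centralizer {ev x8 [2, 7, 0, 1, 2, 6, 3, 0, 2, 7, 3, 1, 2, 5, 6]}) ≤ 2592 :=
  cent_four (d := 3) (lv := [⟨3, 3, [[2, 0, 1]]⟩, ⟨9, 3, []⟩, ⟨1, 1, []⟩])
    (l := [657, 1207, 267, 1077]) (by decide +kernel)

/-- order 18 -/
theorem c40 : Nat.card (centralizer {ev x8 [1, 6, 7, 0, 2, 3, 4]}) ≤ 54 :=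
  cent_four (d := 6) (lv := [⟨1, 6, []⟩, ⟨3, 1, []⟩])
    (l := [868]) (by decide +kernel)

/-- order 9 -/
theorem c41 : Nat.card (centralizer {ev x8 [6, 1, 0, 2, 6, 3, 2, 7]}) ≤ 162 :=
  cent_four (d := 5) (lv := [⟨1, 5, []⟩, ⟨9, 1, []⟩, ⟨3, 1, []⟩])
    (l := [1706]) (by decide +kernel)

/-- order 6 -/
theorem c43 : Nat.card (centralizer {ev x8 [3, 4, 6]}) ≤ 3888 :=
  cent_four (d := 4) (lv := [⟨1, 4, []⟩, ⟨9, 1, []⟩, ⟨51, 1, [[2, 1]]⟩, ⟨81, 1, []⟩])
    (l := [1635, 737, 607]) (by decide +kernel)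

/-- order 12 -/
theorem c44 : Nat.card (centralizer {ev x8 [7, 6, 5, 4, 1, 0, 3]}) ≤ 72 :=
  cent_four (d := 6) (lv := [⟨9, 6, []⟩, ⟨1, 1, []⟩])
    (l := [1165]) (by decide +kernel)

/-- order 6 -/
theorem c45 : Nat.card (centralizer {ev x8 [6, 3, 7, 0, 5, 1]}) ≤ 864 :=
  cent_four (d := 4) (lv := [⟨9, 4, []⟩, ⟨1, 2, []⟩, ⟨3, 1, []⟩])
    (l := [84, 1514]) (by decide +kernel)

/-- order 3 -/
theorem c46 : Nat.card (centralizer {ev x8 [6, 1, 7, 0]}) ≤ 139968 :=
  cent_four (d := 3) (lv := [⟨9, 3, []⟩, ⟨84, 1, []⟩, ⟨3, 1, []⟩, ⟨729, 1, []⟩, ⟨1, 1, []⟩])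
    (l := [976, 224, 1115, 467]) (by decide +kernel)

/-- order 12 -/
theorem c47 : Nat.card (centralizer {ev x8 [1, 2, 5, 6, 4]}) ≤ 72 :=
  cent_four (d := 6) (lv := [⟨4, 6, []⟩, ⟨1, 1, []⟩])
    (l := [1494, 1460]) (by decide +kernel)

/-- order 6 -/
theorem c48 : Nat.card (centralizer {ev x8 [1, 4, 2, 0, 7, 5, 6]}) ≤ 54 :=
  cent_four (d := 6) (lv := [⟨4, 6, []⟩, ⟨1, 1, []⟩])
    (l := [542]) (by decide +kernel)

/-- order 3 -/
theorem c49 : Nat.card (centralizer {ev x8 [6, 0, 1, 5, 4, 7]}) ≤ 1458 :=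
  cent_four (d := 3) (lv := [⟨12, 3, [[1, 1, 1]]⟩, ⟨3, 3, []⟩, ⟨1, 1, []⟩])
    (l := [919, 1654, 950]) (by decide +kernel)

/-- order 12 -/
theorem c51 : Nat.card (centralizer {ev x8 [2, 3, 1, 0, 4, 1, 5, 6, 2, 7, 1, 3, 6]}) ≤ 144 :=
  cent_four (d := 5) (lv := [⟨3, 5, [[2, 0, 0, 1]]⟩, ⟨1, 2, []⟩])
    (l := [1324, 666]) (by decide +kernel)

/-- order 6 -/
theorem c52 : Nat.card (centralizer {ev x8 [0, 6, 1, 7, 2]}) ≤ 1728 :=
  cent_four (d := 4) (lv := [⟨1, 4, [[2, 0, 0, 1]]⟩, ⟨27, 1, []⟩, ⟨3, 1, [[2, 1]]⟩, ⟨81, 1, []⟩])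
    (l := [872, 1679]) (by decide +kernel)

/-- order 12 -/
theorem c54 : Nat.card (centralizer {ev x8 [0, 6, 7, 1, 3, 2]}) ≤ 144 :=
  cent_four (d := 5) (lv := [⟨3, 5, []⟩, ⟨1, 1, [[1, 0, 2, 0, 1]]⟩, ⟨27, 1, []⟩])
    (l := [28]) (by decide +kernel)

/-- order 6 -/
theorem c55 : Nat.card (centralizer {ev x8 [1, 6, 2, 3]}) ≤ 432 :=
  cent_four (d := 4) (lv := [⟨9, 4, []⟩, ⟨4, 2, [[1, 0, 0, 1]]⟩, ⟨1, 1, []⟩])
    (l := [1843, 1514]) (by decide +kernel)

/-- order 6 -/
theorem c56 : Nat.card (centralizer {ev x8 [0, 7, 1, 6, 4]}) ≤ 3888 :=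
  cent_four (d := 4) (lv := [⟨10, 4, []⟩, ⟨1, 1, []⟩, ⟨33, 1, [[2, 1]]⟩, ⟨81, 1, []⟩])
    (l := [1655, 1485, 1971]) (by decide +kernel)

/-- order 6 -/
theorem c57 : Nat.card (centralizer {ev x8 [5, 0, 6, 2, 1, 7]}) ≤ 432 :=
  cent_four (d := 4) (lv := [⟨1, 4, []⟩, ⟨13, 2, [[1, 0, 0, 1]]⟩, ⟨81, 1, []⟩])
    (l := [1514, 548]) (by decide +kernel)

end Cfsg.Agent.MK.C3L.O
end
end
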