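import Cfsg.Agent.TAB.F24.G.Wd_m3
import Cfsg.Agent.MK.T.D_m3
import Cfsg.Agent.H64.O73Two
import Cfsg.Agent.H803.RowOmega
import Cfsg.Agent.UGT.U2.Rec.Congr
import Cfsg.Agent.S0816
import Cfsg.Agent.Lib.FinFast
import Cfsg.Agent.MK.C3L.OCls
import Cfsg.Agent.TAB.Eng.Fib
import Cfsg.Agent.MK.S7.Cov
import Cfsg.Agent.H86.TI.Lift
import Cfsg.Agent.TAB.ON.Op
import Cfsg.Agent.S0157
import Cfsg.Agent.FastGrp
import Cfsg.Agent.Prune
set_option linter.all false

section
prune_inst 0x7f00000000000000000000000000000000000000000000000000000000000000000000000000000000000000000000000000000000000000000000000000000000000000000000000000000000000000003fffffffffffffffffffffffffffbeffbdffffffff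

-- part: MK/S7/PcT
section
set_option linter.all false
open scoped Cfsg.Agent.FastGrp

/-!
# `a2` from a polycyclic certificate on tables (helper96, MK)

The generators act on a small set of points by certified tables (`TAB.CE.Tb`); the relations are checked in the image.
-/

set_option autoImplicit false

namespace Cfsg.Agent.MK.S7

open Subgroup Cfsg.Agent.MK.T Cfsg.Agent.MK.S.Pc Cfsg.Agent.TAB.CE
open Cfsg.Agent.Lib.PermNet (tb)
open Cfsg.Agent.Lib.PermNetPt (force force_eq)
open Cfsg.Agent.H123.Cls (nth)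

/-- a Sylow subgroup is isomorphic to a quotient of the right order -/
theorem a2_of_quot {H G Γ : Type} [Group H] [Group G] [Group Γ] [Finite G] (ι : H →* G) (hι : Function.Injective ι)
    (φ : H →* Γ) (hφ : Function.Surjective φ) (W : Subgroup Γ) {k o : ℕ} (hc : Nat.card W = 2 ^ k) (ho : Odd o)
    (hG : Nat.card G = 2 ^ k * o) : a2 G = ab W := by
  have := two_prime
  have : Finite H := Finite.of_injective ι hι
  have : Finite Γ := Finite.of_surjective φ hφ
  let ψ : W.comap φ →* W := (φ.comp (W.comap φ).subtype).codRestrict W fun x => x.2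
  have hψ : Function.Surjective ψ := fun w => by
    obtain ⟨x, hx⟩ := hφ w
    exact ⟨⟨x, by rw [mem_comap, hx]; exact w.2⟩, Subtype.ext hx⟩
  obtain ⟨P⟩ : Nonempty (Sylow 2 (W.comap φ)) := inferInstance
  have h1 : (P : Subgroup (W.comap φ)).map ψ = ⊤ := by
    have h2 := (P.mapSurjective hψ).is_maximal' (Q := ⊤) ((IsPGroup.of_card hc).to_subgroup ⊤) le_top
    exact h2.symm
  let χ : P →* W := ψ.comp (P : Subgroup (W.comap φ)).subtype
  have hχ : Function.Surjective χ := fun w => by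
    obtain ⟨x, hx, rfl⟩ : w ∈ (P : Subgroup (W.comap φ)).map ψ := h1 ▸ mem_top w
    exact ⟨⟨x, hx⟩, rfl⟩
  let κ : P →* G := (ι.comp (W.comap φ).subtype).comp (P : Subgroup (W.comap φ)).subtype
  have hκ : Function.Injective κ := (hι.comp Subtype.val_injective).comp Subtype.val_injective
  obtain ⟨a, ha⟩ := P.isPGroup'.exists_card_eq
  have h2 : Nat.card P ≤ 2 ^ k := by
    have h3 := Subgroup.card_dvd_of_injective κ hκ
    rw [ha, hG] at h3
    rw [ha]
    exact Nat.le_of_dvd (by positivity) ((Nat.Coprime.pow_left _ (Nat.coprime_two_left.2 ho)).dvd_of_dvd_mul_right h3)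
  have h3 := (Nat.bijective_iff_surjective_and_card χ).2
    ⟨hχ, le_antisymm (h2.trans hc.ge) (Nat.card_le_card_of_surjective χ hχ)⟩
  have e := MulEquiv.ofBijective χ h3
  rw [S5.a2_of_sub (MonoidHom.id G) Function.injective_id κ.range (fun x _ => ⟨x, rfl⟩)
    ((Nat.card_congr ((MonoidHom.ofInjective hκ).symm.trans e).toEquiv).trans hc) ho hG]
  exact ab_congr ((MonoidHom.ofInjective hκ).symm.trans e)

/-- the table of a word -/
noncomputable def evT (Ts : List ℕ) (w : List ℕ) : ℕ → ℕ :=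
  List.rec (motive := fun _ => ℕ → ℕ) (fun i => i) (fun a _ ih i => force (ih i) (gt (nth Ts a))) w

/-- two words have the same table -/
noncomputable def eqT (n : ℕ) (Ts v w : List ℕ) : Bool :=
  inR 0 Ts.length v && inR 0 Ts.length w && alt (fun i => Nat.beq (evT Ts v i) (evT Ts w i)) n

/-- new generators `p * q⁻¹` with their tables -/
noncomputable def extL (n : ℕ) (ds : List (List ℕ × List ℕ × ℕ)) : List ℕ → Bool :=
  List.rec (motive := fun _ => List ℕ → Bool) (fun _ => true) (fun d _ ih Ts =>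
    inR 0 Ts.length d.1 && inR 0 Ts.length d.2.1 &&
      alt (fun i => Nat.beq (gt d.2.2 (evT Ts d.2.1 i)) (evT Ts d.1 i)) n && ih (Ts ++ [d.2.2])) ds

/-- the normal form with a given code -/
noncomputable def bw (k c : ℕ) : List ℕ := (List.range k).filter (tb c)

/-- a chain of stabilizers -/
noncomputable def chn (n : ℕ) (Ts : List ℕ) (lv : List (ℕ × List ℕ)) : List ℕ → Bool :=
  List.rec (motive := fun _ => List ℕ → Bool) (fun _ => true) (fun v _ ih bs =>
    Nat.blt v.1 n && (v.2.all fun c => bs.all fun b => Nat.beq (evT Ts (bw Ts.length c) b) b) &&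
      inc (fun c => evT Ts (bw Ts.length c) v.1) v.2 0 && ih (v.1 :: bs)) lv

theorem le_relIndex' {G : Type} [Group G] [Finite G] {S B : Subgroup G} {ws : List ℕ} {s : ℕ → ℕ} (f : ℕ → G)
    (hf : ∀ w ∈ ws, f w ∈ B) (hs : ∀ w w', (f w)⁻¹ * f w' ∈ S → s w = s w') (h : (ws.map s).Nodup) :
    ws.length ≤ S.relIndex B := by
  classical
  have := Fintype.ofFinite (B ⧸ S.subgroupOf B)
  rw [Subgroup.relIndex, Subgroup.index, Nat.card_eq_fintype_card, ← List.length_attach,
    ← List.length_map fun w : {w // w ∈ ws} => (QuotientGroup.mk ⟨f w.1, hf w.1 w.2⟩ : B ⧸ S.subgroupOf B)]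
  refine List.Nodup.length_le_card (List.Nodup.map_on (fun w _ w' _ e => ?_)
    (List.nodup_attach.2 (List.Nodup.of_map _ h)))
  have e' := QuotientGroup.eq.1 e
  exact Subtype.ext (List.inj_on_of_nodup_map h w.2 w'.2 (hs _ _ e'))

section

variable {E : Type} [Group E] {rho : E →* Equiv.Perm ℕ} {n L : ℕ}

/-- generators with tables -/
def Gs (rho : E →* Equiv.Perm ℕ) (n L : ℕ) (gs : List E) (Ts : List ℕ) : Prop :=
  List.Forall₂ (fun g T => Tb rho n L g (gt T)) gs Ts

theorem evT_spec {gs : List E} {Ts : List ℕ} (h : Gs rho n L gs Ts) : ∀ {w : List ℕ}, inR 0 Ts.length w = true →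
    Tb rho n L (ev (fun a => gs.getD a 1) w) (evT Ts w)
  | [], _ => Tb.one
  | a :: w, hw => by
    rw [inR, List.all_cons, Bool.and_eq_true, Bool.and_eq_true] at hw
    have e : evT Ts (a :: w) = fun i => gt (nth Ts a) (evT Ts w i) := funext fun i => force_eq _ _
    rw [e, ev_cons]
    exact (nth_rel (d := 1) h a (Nat.blt_eq.mp hw.1.2)).mul (evT_spec h hw.2)

theorem ext_spec (hi : Inj n L) (hE : ∀ g : E, ∃ f, Tb rho n L g f) : ∀ (ds : List (List ℕ × List ℕ × ℕ))
    {gs : List E} {Ts : List ℕ}, Gs rho n L gs Ts → extL n ds Ts = true →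
      ∃ gs', Gs rho n L gs' (Ts ++ ds.map fun d => d.2.2)
  | [], gs, _, h, _ => ⟨gs, by rwa [List.map_nil, List.append_nil]⟩
  | d :: ds, gs, Ts, h, hc => by
    replace hc : (inR 0 Ts.length d.1 && inR 0 Ts.length d.2.1 &&
      alt (fun i => Nat.beq (gt d.2.2 (evT Ts d.2.1 i)) (evT Ts d.1 i)) n && extL n ds (Ts ++ [d.2.2])) = true := hc
    simp only [Bool.and_eq_true] at hc
    obtain ⟨⟨⟨h1, h2⟩, h3⟩, h4⟩ := hc
    obtain ⟨f, h5⟩ := hE (ev (fun a => gs.getD a 1) d.2.1)⁻¹
    have h6 := (evT_spec h h2).mul h5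
    rw [mul_inv_cancel] at h6
    have h7 : Tb rho n L (ev (fun a => gs.getD a 1) d.1 * (ev (fun a => gs.getD a 1) d.2.1)⁻¹) (gt d.2.2) := by
      intro i hi'
      have h8 := Nat.eq_of_beq_eq_true (alt_spec h3 _ (h5 i hi').1)
      rw [show evT Ts d.2.1 (f i) = i from h6.uniq hi Tb.one hi'] at h8
      rw [h8]
      exact ((evT_spec h h1).mul h5) i hi'
    obtain ⟨gs', h8⟩ := ext_spec hi hE ds (List.rel_append h (List.Forall₂.cons h7 List.Forall₂.nil)) h4
    exact ⟨gs', by rwa [List.map_cons, List.append_cons]⟩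

/-- the stabilizer of some points -/
def Sb (rho : E →* Equiv.Perm ℕ) (L : ℕ) (p : ℕ → Prop) : Subgroup E where
  carrier := {g | ∀ i, p i → rho g (pt L i) = pt L i}
  one_mem' _ _ := by rw [map_one]; rfl
  mul_mem' ha hb i hi := by rw [map_mul, Equiv.Perm.mul_apply, hb i hi, ha i hi]
  inv_mem' ha i hi := by rw [map_inv, Equiv.Perm.inv_eq_iff_eq, ha i hi]

theorem normal_Sb (hE : ∀ g : E, ∃ f, Tb rho n L g f) : (Sb rho L (· < n)).Normal := ⟨fun k hk g i hi => by
  obtain ⟨f, h⟩ := hE g⁻¹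
  rw [map_mul, map_mul, Equiv.Perm.mul_apply, Equiv.Perm.mul_apply, (h i hi).2, hk _ (h i hi).1, ← (h i hi).2,
    ← Equiv.Perm.mul_apply, ← map_mul, mul_inv_cancel, map_one]
  rfl⟩

theorem bw_in (k c : ℕ) : inR 0 k (bw k c) = true := List.all_eq_true.2 fun i hi => by
  rw [Bool.and_eq_true, Nat.blt_eq]
  exact ⟨Nat.ble_eq_true_of_le (Nat.zero_le i), List.mem_range.1 (List.mem_of_mem_filter hi)⟩

theorem chn_spec [Finite E] (hi : Inj n L) {gs : List E} {Ts : List ℕ} (h : Gs rho n L gs Ts) {A : Subgroup E}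
    (hA : ∀ c, ev (fun a => gs.getD a 1) (bw Ts.length c) ∈ A) : ∀ (lv : List (ℕ × List ℕ)) (bs : List ℕ),
    chn n Ts lv bs = true → (∀ b ∈ bs, b < n) →
      (lv.map fun v => v.2.length).prod ≤ (Sb rho L (· < n)).relIndex (A ⊓ Sb rho L (· ∈ bs))
  | [], _, _, _ => one_le_rel _ _
  | v :: lv, bs, hc, hb => by
    replace hc : (Nat.blt v.1 n && (v.2.all fun c => bs.all fun b => Nat.beq (evT Ts (bw Ts.length c) b) b) &&
      inc (fun c => evT Ts (bw Ts.length c) v.1) v.2 0 && chn n Ts lv (v.1 :: bs)) = true := hc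
    simp only [Bool.and_eq_true] at hc
    obtain ⟨⟨⟨h1, h2⟩, h3⟩, h4⟩ := hc
    have h0 : v.1 < n := Nat.blt_eq.mp h1
    have hb2 : ∀ b ∈ v.1 :: bs, b < n := List.forall_mem_cons.2 ⟨h0, hb⟩
    have h5 := chn_spec hi h hA lv _ h4 hb2
    have h6 := le_relIndex' (S := A ⊓ Sb rho L (· ∈ v.1 :: bs)) (B := A ⊓ Sb rho L (· ∈ bs))
      (s := fun c => evT Ts (bw Ts.length c) v.1) (fun c => ev (fun a => gs.getD a 1) (bw Ts.length c))
      (fun c hc => ⟨hA c, fun b hb' => by
        rw [(evT_spec h (bw_in _ c) b (hb b hb')).2,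
          Nat.eq_of_beq_eq_true (List.all_eq_true.1 (List.all_eq_true.1 h2 c hc) b hb')]⟩)
      (fun c c' e => by
        have h6 := e.2 v.1 List.mem_cons_self
        rw [map_mul, map_inv, Equiv.Perm.mul_apply, Equiv.Perm.inv_eq_iff_eq, (evT_spec h (bw_in _ c) _ h0).2,
          (evT_spec h (bw_in _ c') _ h0).2] at h6
        exact (hi _ (evT_spec h (bw_in _ c') _ h0).1 _ (evT_spec h (bw_in _ c) _ h0).1 h6).symm) (inc_spec _ _ h3).2
    have h7 : A ⊓ Sb rho L (· ∈ v.1 :: bs) ≤ A ⊓ Sb rho L (· ∈ bs) :=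
      inf_le_inf_left _ fun g hg b hb => hg b (List.mem_cons_of_mem _ hb)
    have h8 : Sb rho L (· < n) ⊓ (A ⊓ Sb rho L (· ∈ bs)) = Sb rho L (· < n) ⊓ (A ⊓ Sb rho L (· ∈ v.1 :: bs)) :=
      le_antisymm (fun g hg => ⟨hg.1, hg.2.1, fun b hb' => hg.1 b (hb2 b hb')⟩)
        (inf_le_inf_left _ h7)
    rw [← Subgroup.inf_relIndex_right _ (A ⊓ Sb rho L (· ∈ bs)), h8,
      ← Subgroup.relIndex_mul_relIndex _ _ _ inf_le_right h7, Subgroup.inf_relIndex_right, List.map_cons,
      List.prod_cons, mul_comm]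
    exact Nat.mul_le_mul h5 h6

theorem map_ev {Γ : Type} [Group Γ] (φ : E →* Γ) (y : ℕ → E) : ∀ w, φ (ev y w) = ev (fun a => φ (y a)) w
  | [] => φ.map_one
  | a :: w => by rw [ev_cons, ev_cons, map_mul, map_ev φ y w]

/-- the rest of the check -/
noncomputable def endB (n : ℕ) (Ts : List ℕ) (k m : ℕ) (c : Cert) (lv : List (ℕ × List ℕ)) : Bool :=
  Nat.beq Ts.length k && Nat.ble m k && alt (fun a => c.gw.getD a [] == [a]) k && chn n Ts lv [] &&
    Nat.ble (Nat.pow 2 k) (lv.map fun v => v.2.length).prod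

theorem a2_of_gs {G : Type} [Group G] [Finite G] (ι : E →* G) (hι : Function.Injective ι) (hi : Inj n L)
    (hE : ∀ g : E, ∃ f, Tb rho n L g f) {gs : List E} {Ts : List ℕ} (h : Gs rho n L gs Ts) {k m o : ℕ} {c : Cert}
    {lv : List (ℕ × List ℕ)} (hc : ∀ i < k, chk1 (eqT n Ts) k m c i = true) (hl : endB n Ts k m c lv = true)
    (ho : Odd o) (hG : Nat.card G = 2 ^ k * o) : a2 G = 2 ^ m := by
  have : Finite E := Finite.of_injective ι hι
  have := normal_Sb hE
  simp only [endB, Bool.and_eq_true] at hl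
  obtain ⟨⟨⟨⟨h1, h2⟩, h3⟩, h4⟩, h5⟩ := hl
  obtain rfl := Nat.eq_of_beq_eq_true h1
  let φ := QuotientGroup.mk' (Sb rho L (· < n))
  have h6 : PC (c.el fun a => φ (gs.getD a 1)) Ts.length m := pc_of_chk (eqv := eqT n Ts) (fun v w e => by
    rw [eqT, Bool.and_eq_true, Bool.and_eq_true] at e
    rw [← map_ev, ← map_ev]
    refine QuotientGroup.eq.2 fun i hi' => ?_
    rw [map_mul, map_inv, Equiv.Perm.mul_apply, Equiv.Perm.inv_eq_iff_eq, (evT_spec h e.1.1 i hi').2,
      (evT_spec h e.1.2 i hi').2, Nat.eq_of_beq_eq_true (alt_spec e.2 i hi')]) (Nat.le_of_ble_eq_true h2) hc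
  have h7 := chn_spec hi h (A := (V (c.el fun a => φ (gs.getD a 1)) Ts.length 0).comap φ) (fun x => by
    rw [mem_comap, map_ev]
    refine ev_mem fun a ha => ?_
    have h7 := List.mem_range.1 (List.mem_of_mem_filter ha)
    have h8 : (c.el fun a => φ (gs.getD a 1)) a = φ (gs.getD a 1) := by
      rw [Cert.el, beq_iff_eq.1 (alt_spec h3 a h7), ev_cons, ev_nil, mul_one]
    rw [← h8]
    exact mem_V (Nat.zero_le _) h7) lv [] h4 (fun _ hb => absurd hb List.not_mem_nil)
  have h8 : 2 ^ Ts.length ≤ Nat.card (V (c.el fun a => φ (gs.getD a 1)) Ts.length 0) := by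
    refine ((Nat.le_of_ble_eq_true h5).trans h7).trans ?_
    conv_lhs => arg 1; rw [← QuotientGroup.ker_mk' (Sb rho L (· < n))]
    rw [Subgroup.relIndex_ker]
    exact Subgroup.card_le_of_le (map_le_iff_le_comap.2 inf_le_left)
  rw [a2_of_quot ι hι φ (QuotientGroup.mk'_surjective _) _ (h6.card_eq h8 (Nat.zero_le _)) ho hG]
  exact h6.index h8

end

/-- **`a2` of a subgroup which contains the generators** -/
theorem a2_sub {G : Type} [Group G] [Finite G] {rho : G →* Equiv.Perm ℕ} {n L : ℕ} (A : Subgroup G) (hi : Inj n L)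
    {gs : List G} {Ts Ts' : List ℕ} (h : List.Forall₂ (fun g T => g ∈ A ∧ Tb rho n L g (gt T)) gs Ts)
    {ds : List (List ℕ × List ℕ × ℕ)} (hd : extL n ds Ts = true) (he : (Ts ++ ds.map fun d => d.2.2) = Ts')
    {k m o : ℕ} {c : Cert} {lv : List (ℕ × List ℕ)} (hc : ∀ i < k, chk1 (eqT n Ts') k m c i = true)
    (hl : endB n Ts' k m c lv = true) (ho : Odd o) (hG : Nat.card A = 2 ^ k * o) : a2 A = 2 ^ m := by
  have hE : ∀ g : (A ⊓ SG rho n L (fun i => i) (fun i => i) False : Subgroup G),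
      ∃ f, Tb (rho.comp (Subgroup.subtype _)) n L g f := fun g =>
    let ⟨f, h1, _⟩ := mem_SG.1 g.2.2
    ⟨f, h1⟩
  have h1 : ∃ gs', Gs (rho.comp (A ⊓ SG rho n L (fun i => i) (fun i => i) False).subtype) n L gs' Ts := by
    clear hd he
    induction h with
    | nil => exact ⟨[], List.Forall₂.nil⟩
    | cons h1 _ ih =>
      obtain ⟨gs', h2⟩ := ih
      exact ⟨⟨_, h1.1, mem_SG.2 ⟨_, h1.2, fun _ _ _ _ e => congrArg _ e, False.elim⟩⟩ :: gs',
        List.Forall₂.cons h1.2 h2⟩
  obtain ⟨gs', h1⟩ := h1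
  obtain ⟨gs'', h2⟩ := ext_spec hi hE ds h1 hd
  exact a2_of_gs (inclusion inf_le_left) (inclusion_injective _) hi hE (he ▸ h2) hc hl ho hG

end Cfsg.Agent.MK.S7

private theorem dce_be00c5451d70 : _root_.True := by
  try have : _root_.True := by simp only [_root_.Cfsg.Agent.MK.S7.eqT.eq_1]
  try have : _root_.True := by simp only [_root_.Cfsg.Agent.MK.S.Pc.Cert.el.eq_1]
  try have : _root_.True := by simp only [_root_.Cfsg.Agent.MK.S.Pc.inR.eq_1]
  try have : _root_.True := by simp only [_root_.Cfsg.Agent.MK.S7.endB.eq_1]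
  exact _root_.True.intro
end

-- part: MK/S7/O7
section
set_option linter.all false
open scoped Cfsg.Agent.FastGrp

/-!
# MK, the local side of the row of `3.Ω₇(3)` (helper96)

`H8 ≃ Ω₇(3)` is the group of the diagram `Y₂₃₂`; the symmetry of the diagram inverts the centre of a triple cover
(data generated by notes/MK/s7gen/o7.py).
-/

set_option autoImplicit false
set_option maxRecDepth 100000

namespace Cfsg.Agent.MK.S7.O7

open Cfsg Subgroup Cfsg.Agent.MK.T Cfsg.Agent.MK.S Cfsg.Agent.H51.Mult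
open Cfsg.Agent.TAB.CE hiding ev
open Cfsg.Agent.Fischer.Derived Cfsg.Agent.Fischer.Y322 Cfsg.Agent.Fischer.Y322Iso Cfsg.Agent.H64.O73Upper
open Cfsg.Agent.MK.S.Pc (Cert chk1)

/-! ### the action on 378 points -/

/-- a letter at a point -/
noncomputable def lt (j p : ℕ) : ℕ := bif Nat.blt p 378 then gt (H64.O73Data.T j) (3 * p) / 3 else p

theorem lt_big (j : ℕ) {p : ℕ} (h : 378 ≤ p) : lt j p = p := by
  rw [lt, show Nat.blt p 378 = false from Bool.eq_false_iff.2 fun e => by have := Nat.blt_eq.mp e; omega, cond_false]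

/-- a word at a point -/
noncomputable def wp (w : List (Fin 8)) (p : ℕ) : ℕ := List.rec p (fun a _ r => lt a.val r) w

theorem wp_big {p : ℕ} (h : 378 ≤ p) : ∀ w, wp w p = p
  | [] => rfl
  | a :: w => (congrArg (lt a.val) (wp_big h w)).trans (lt_big _ h)

/-- the word is trivial -/
noncomputable def tr (w : List (Fin 8)) : Bool := alt (fun p => Nat.beq (wp w p) p) 378

theorem tr_spec {w : List (Fin 8)} (h : tr w = true) (p : ℕ) : wp w p = p :=
  (Nat.lt_or_ge p 378).elim (fun hp => Nat.eq_of_beq_eq_true (alt_spec h p hp)) fun hp => wp_big hp w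

private noncomputable def _root_.Cfsg.Agent.LsF.f9a2838_0 : {f // @Cfsg.Agent.H64.O73Data.T = f} := ⟨_, by first | (delta Cfsg.Agent.H64.O73Data.T; (try delta Cfsg.Agent.H64.O73Data.T.match_1); (try rewrite [Cfsg.Agent.LsF.instDecEq_eq, Cfsg.Agent.LsF.dite_eq]); exact rfl) | exact rfl⟩
private noncomputable def _root_.Cfsg.Agent.LsF.f9a2838_1 : {f // @Cfsg.Agent.MK.S7.O7.lt = f} := ⟨_, by first | (delta Cfsg.Agent.MK.S7.O7.lt; rewrite [Cfsg.Agent.LsF.f9a2838_0.2, Cfsg.Agent.LsF.nmul_pat, Cfsg.Agent.LsF.ndiv_pat, Cfsg.Agent.LsF.cond_eq]; exact rfl) | exact rfl⟩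
private noncomputable def h11w (w : List (Fin 8)) (p : ℕ) : ℕ :=
  @List.rec (Fin 8) (fun _ => ℕ) p (fun a _ r =>
    @Nat.rec (fun _ => ℕ) 0 (fun q _ => Cfsg.Agent.LsF.f9a2838_1.1 a.val q) (Nat.succ r)) w
private theorem h11w_eq : wp = h11w := funext fun w => funext fun p => by
  induction w with
  | nil => rfl
  | cons a w ih =>
    show lt a.val (wp w p) = Cfsg.Agent.LsF.f9a2838_1.1 a.val (h11w w p)
    rw [ih, ← Cfsg.Agent.LsF.f9a2838_1.2]
private noncomputable def _root_.Cfsg.Agent.LsF.f9a2838_2 : {f // @Cfsg.Agent.MK.S7.O7.wp = f} := ⟨h11w, h11w_eq⟩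
private noncomputable def _root_.Cfsg.Agent.LsF.f9a2838_3 : {f // @Cfsg.Agent.MK.S7.O7.tr = f} := ⟨_, by first | (delta Cfsg.Agent.MK.S7.O7.tr; rewrite [Cfsg.Agent.LsF.f9a2838_2.2]; exact rfl) | exact rfl⟩
private noncomputable def _root_.Cfsg.Agent.LsF.f9a2838_4 : {f // @Cfsg.Agent.Fischer.Derived.rep = f} := ⟨_, by first | (delta Cfsg.Agent.Fischer.Derived.rep; rewrite [Cfsg.Agent.LsF.flatten_eq, Cfsg.Agent.LsF.replicate_eq]; exact rfl) | exact rfl⟩
private noncomputable def _root_.Cfsg.Agent.LsF.f9a2838_5 : {f // @Cfsg.Agent.Fischer.Derived.adj = f} := ⟨_, by first | (delta Cfsg.Agent.Fischer.Derived.adj; rewrite [Cfsg.Agent.LsF.fbeq_pat, Cfsg.Agent.LsF.and_eq, Cfsg.Agent.LsF.or_eq, Cfsg.Agent.LsF.any_eq]; exact rfl) | exact rfl⟩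
private noncomputable def _root_.Cfsg.Agent.LsF.f9a2838_6 : {f // @Cfsg.Agent.Fischer.Derived.lab = f} := ⟨_, by first | (delta Cfsg.Agent.Fischer.Derived.lab; rewrite [Cfsg.Agent.LsF.f9a2838_5.2, Cfsg.Agent.LsF.dFinEq_eq, Cfsg.Agent.LsF.dBoolEq_eq, Cfsg.Agent.LsF.ite_eq]; exact rfl) | exact rfl⟩
theorem tr_rel : ∀ i j : Fin 8, tr (rep (lab i j) [i, j]) = true := by (refine of_decide_eq_true ?_; (try (rewrite [Cfsg.Agent.LsF.f9a2838_3.2, Cfsg.Agent.LsF.f9a2838_4.2, Cfsg.Agent.LsF.f9a2838_6.2, Cfsg.Agent.LsF.dBoolEq_eq, Cfsg.Agent.LsF.dForallFin_eq, Cfsg.Agent.LsF.decide_eq])); decide +kernel)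

/-- the letters -/
noncomputable def pm (j : Fin 8) : Equiv.Perm ℕ :=
  Function.Involutive.toPerm (lt j.val) fun p => by
    have h := tr_rel j j
    rw [lab_diag] at h
    exact tr_spec h p

theorem ev_pm (p : ℕ) : ∀ w, ev pm w p = wp w p
  | [] => rfl
  | a :: w => by rw [ev_cons, Equiv.Perm.mul_apply, ev_pm p w]; rfl

theorem pm_one {k : ℕ} {w : List (Fin 8)} (h : tr (rep k w) = true) : ev pm w ^ k = 1 := by
  rw [← ev_rep]
  exact Equiv.ext fun p => (ev_pm p _).trans (tr_spec h p)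

/-- the action -/
noncomputable def rho : H8 →* Equiv.Perm ℕ :=
  lift (s := pm) (fun i j => by
    have h := pm_one (tr_rel i j)
    rwa [ev_cons, ev_cons, ev_nil, mul_one] at h) (pm_one (by ((try (rewrite [Cfsg.Agent.LsF.f9a2838_3.2, Cfsg.Agent.LsF.f9a2838_4.2])); decide +kernel))) (pm_one (by ((try (rewrite [Cfsg.Agent.LsF.f9a2838_3.2, Cfsg.Agent.LsF.f9a2838_4.2])); decide +kernel)))

theorem rho_ev (w : List (Fin 8)) (p : ℕ) : rho (ev x8 w) p = wp w p := by
  rw [Fischer.Y322.map_ev, ← ev_pm]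
  exact congrArg (fun s : Fin 8 → Equiv.Perm ℕ => (ev s w : Equiv.Perm ℕ) p) (funext fun i => lift_x8 _ _ _ i)

/-- the points -/
noncomputable def L : ℕ := 0x1510014d00101000fc000cb000c1000bc000a90002a000240002300011

/-- the generators -/
def ws : List (List (Fin 8)) := [[2, 1, 6, 2], [1], [4, 5, 3, 4], [5]]

/-- tables -/
noncomputable def ts : List ℕ := [0xb00800300a007004001006009002005000, 0xb00a009008007006004005003002001000,
    0x800000700b00900600500400200300100a, 0xb00a009008000006005004003002001007]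

/-- new generators -/
noncomputable def ds : List (List ℕ × List ℕ × ℕ) :=
  [([2, 3], [3, 2], 0xb00900a008000006005004003002001007), ([0, 2], [2, 0], 0x800300a00200600500400900700100b),
    ([0, 1], [1, 0], 0xb00a009008007001004005003002006000), ([4, 0], [0, 4],
    0xb00900a003007006005004008002001000), ([7, 2], [2, 7], 0x200900a00300000600500400800b001007)]

/-- all the tables -/
noncomputable def us : List ℕ := ts ++ ds.map fun d => d.2.2

/-- the relations -/
noncomputable def ct : Cert where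
  gw := [[0], [1], [2], [3], [4], [5], [6], [7], [8]]
  sq := [[], [], [], [], [], [], [], [], []]
  cm := [[[], [6], [5], [], [7], [], [], [], []], [[], [], [], [], [], [], [], [], []], [[], [], [], [4], [], [], [],
    [8], []], [[], [], [], [], [], [7, 8], [], [], []], [[], [], [], [], [], [8], [], [], []], [[], [], [],
    [], [], [], [], [], []], [[], [], [], [], [], [], [], [], []], [[], [], [], [], [], [], [], [], []], [[],
    [], [], [], [], [], [], [], []]]
  dv := [([], [], []), ([], [], []), ([], [], []), ([], [], []), ([2], [3], []), ([0], [2], []), ([0], [1], []), ([4],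
    [0], []), ([7], [2], [])]

/-- the chain of stabilizers -/
noncomputable def lv : List (ℕ × List ℕ) :=
  [(1, [0, 67, 1, 66]), (4, [0, 2]), (0, [0, 424, 428, 8, 36, 12, 4, 32]), (9, [0, 24]), (3, [0, 152]), (2, [0,
    392])]

theorem ex : extL 12 ds ts = true := by decide +kernel

theorem ck : alt (chk1 (eqT 12 us) 9 4 ct) 9 = true := by decide +kernel

theorem en : endB 12 us 9 4 ct lv = true := by decide +kernel

theorem ok : ∀ i < 4, ∀ p < 12, gt (ts.getD i 0) p < 12 ∧ wp (ws.getD i []) (pt L p) = pt L (gt (ts.getD i 0) p) := by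
  decide +kernel

theorem one (i : ℕ) (hi : i < 4) : ev x8 (ws.getD i []) ∈ (⊤ : Subgroup H8) ∧
    Tb rho 12 L (ev x8 (ws.getD i [])) (gt (ts.getD i 0)) :=
  ⟨mem_top _, fun p hp => ⟨(ok i hi p hp).1, (rho_ev _ _).trans (ok i hi p hp).2⟩⟩

theorem fin8 : Finite H8 := Nat.finite_of_card_ne_zero (by rw [card_H8]; decide)

theorem a2_H8 : a2 H8 = 16 := by
  have := fin8
  rw [← a2_congr (topEquiv (G := H8))]
  exact a2_sub ⊤ (inj_of (by decide +kernel)) (Ts := ts) (.cons (one 0 (by decide)) (.cons (one 1 (by decide))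
    (.cons (one 2 (by decide)) (.cons (one 3 (by decide)) .nil)))) ex rfl (alt_spec ck) en (o := 8955765) (by decide)
    (card_top.trans card_H8)

/-! ### the symmetry of the diagram -/

/-- the symmetry -/
def fl : Fin 8 → Fin 8 := ![7, 6, 2, 3, 4, 5, 1, 0]

theorem ev_fl {G : Type} [Group G] (s : Fin 8 → G) (w : List (Fin 8)) : ev (fun i => s (fl i)) w = ev s (w.map fl) := by
  rw [ev, ev, List.map_map]
  rfl

private noncomputable def _root_.Cfsg.Agent.LsF.f9a2838_7 : {f // @Cfsg.Agent.ChevalleyStructure.CoxeterWordCheck.subAt = f} := ⟨_, by first | (delta Cfsg.Agent.ChevalleyStructure.CoxeterWordCheck.subAt Nat.brecOn.go Nat.brecOn Cfsg.Agent.ChevalleyStructure.CoxeterWordCheck.subAt._f; rewrite [Cfsg.Agent.LsF.isub_pat]; (try delta Cfsg.Agent.ChevalleyStructure.CoxeterWordCheck.subAt.match_1); (try delta List.casesOn Nat.casesOn); first | dsimp -zeta only | exact rfl) | exact rfl⟩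
private noncomputable def _root_.Cfsg.Agent.LsF.f9a2838_8 : {f // @Cfsg.Agent.ChevalleyStructure.CoxeterWordCheck.dot = f} := ⟨_, by first | (delta Cfsg.Agent.ChevalleyStructure.CoxeterWordCheck.dot List.brecOn Cfsg.Agent.ChevalleyStructure.CoxeterWordCheck.dot._f List.brecOn.go; rewrite [Cfsg.Agent.LsF.iadd_pat, Cfsg.Agent.LsF.imul_pat]; (try delta Cfsg.Agent.ChevalleyStructure.CoxeterWordCheck.dot.match_1); (try delta Cfsg.Agent.ChevalleyStructure.CoxeterWordCheck.dot._sparseCasesOn_1); first | dsimp -zeta only | exact rfl) | exact rfl⟩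
private noncomputable def _root_.Cfsg.Agent.LsF.f9a2838_9 : {f // @Cfsg.Agent.ChevalleyStructure.CoxeterWordCheck.reflList = f} := ⟨_, by first | (delta Cfsg.Agent.ChevalleyStructure.CoxeterWordCheck.reflList; rewrite [Cfsg.Agent.LsF.f9a2838_7.2, Cfsg.Agent.LsF.f9a2838_8.2, Cfsg.Agent.LsF.getD_eq]; exact rfl) | exact rfl⟩
private noncomputable def _root_.Cfsg.Agent.LsF.f9a2838_10 : {f // @Cfsg.Agent.ChevalleyStructure.CoxeterWordCheck.actList = f} := ⟨_, by first | (delta Cfsg.Agent.ChevalleyStructure.CoxeterWordCheck.actList List.brecOn List.brecOn.go Cfsg.Agent.ChevalleyStructure.CoxeterWordCheck.actList._f; rewrite [Cfsg.Agent.LsF.f9a2838_9.2]; (try delta Cfsg.Agent.ChevalleyStructure.CoxeterWordCheck.actList.match_1); (try delta List.casesOn); first | dsimp -zeta only | exact rfl) | exact rfl⟩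
private noncomputable def _root_.Cfsg.Agent.LsF.f9a2838_11 : {f // @Cfsg.Agent.ChevalleyStructure.CoxeterWordCheck.rows = f} := ⟨_, by first | (delta Cfsg.Agent.ChevalleyStructure.CoxeterWordCheck.rows; rewrite [Cfsg.Agent.LsF.ofFn_eq]; exact rfl) | exact rfl⟩
private noncomputable def _root_.Cfsg.Agent.LsF.f9a2838_12 : {f // @Cfsg.Agent.Fischer.Derived.A8 = f} := ⟨_, by first | (delta Cfsg.Agent.Fischer.Derived.A8; rewrite [Cfsg.Agent.LsF.f9a2838_5.2, Cfsg.Agent.LsF.ineg_pat, Cfsg.Agent.LsF.dFinEq_eq, Cfsg.Agent.LsF.dBoolEq_eq, Cfsg.Agent.LsF.ite_eq]; exact rfl) | exact rfl⟩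
private noncomputable def _root_.Cfsg.Agent.LsF.f9a2838_13 : {f // @Cfsg.Agent.ChevalleyStructure.CoxeterWordCheck.unit = f} := ⟨_, by first | (delta Cfsg.Agent.ChevalleyStructure.CoxeterWordCheck.unit; rewrite [Cfsg.Agent.LsF.instDecEq_eq, Cfsg.Agent.LsF.map_eq, Cfsg.Agent.LsF.range_eq, Cfsg.Agent.LsF.ite_eq]; exact rfl) | exact rfl⟩
private noncomputable def _root_.Cfsg.Agent.LsF.f9a2838_14 : {f // @Cfsg.Agent.Fischer.Derived.chk = f} := ⟨_, by first | (delta Cfsg.Agent.Fischer.Derived.chk; rewrite [Cfsg.Agent.LsF.f9a2838_10.2, Cfsg.Agent.LsF.f9a2838_11.2, Cfsg.Agent.LsF.f9a2838_12.2, Cfsg.Agent.LsF.f9a2838_13.2, Cfsg.Agent.LsF.instIBEq_pat, Cfsg.Agent.LsF.all_eq, Cfsg.Agent.LsF.map_eq, Cfsg.Agent.LsF.range_eq, Cfsg.Agent.LsF.instBEq_eq]; exact rfl) | exact rfl⟩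
private noncomputable def _root_.Cfsg.Agent.LsF.f9a2838_15 : {f // @Cfsg.Agent.MK.S7.O7.fl = f} := ⟨_, by first | (delta Cfsg.Agent.MK.S7.O7.fl; rewrite [Cfsg.Agent.LsF.vecCons_eq]; exact rfl) | exact rfl⟩
theorem fl_sp {G : Type} [Group G] {s : Fin 8 → G} (hs : M8.IsLiftable s) :
    ev s [7, 4, 2, 0] * ev (fun i => s (fl i)) spider ^ 10 * (ev s [7, 4, 2, 0])⁻¹ = (ev s spider ^ 10)⁻¹ := by
  have h := ev_eq_ev hs (w := [7, 4, 2, 0] ++ rep 10 (spider.map fl) ++ [7, 4, 2, 0].reverse)
    (w' := rep 10 spider.reverse) (by ((try (rewrite [Cfsg.Agent.LsF.f9a2838_14.2, Cfsg.Agent.LsF.f9a2838_4.2, Cfsg.Agent.LsF.f9a2838_15.2, Cfsg.Agent.LsF.lappend_pat, Cfsg.Agent.LsF.map_eq, Cfsg.Agent.LsF.reverse_eq])); decide +kernel))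
  rwa [ev_append, ev_append, ev_rep, ev_rep, ev_reverse hs, ev_reverse hs, ← ev_fl, inv_pow] at h

/-- the symmetry as a homomorphism -/
noncomputable def flH : H8 →* H8 :=
  lift (s := fun i => x8 (fl i)) (fun i j => by
    rw [← show M8 (fl i) (fl j) = M8 i j from (by decide : ∀ i j, lab (fl i) (fl j) = lab i j) i j]
    exact x8_liftable _ _) (by
    have h := fl_sp x8_liftable
    rwa [x8_spider, inv_one, mul_inv_eq_one, mul_eq_left] at h) (by
    have h := ev_eq_ev x8_liftable (w := rep 9 (e7w.map fl)) (w' := rep 9 [1, 2, 3, 4, 5, 6, 7]) (by ((try (rewrite [Cfsg.Agent.LsF.f9a2838_14.2, Cfsg.Agent.LsF.f9a2838_4.2, Cfsg.Agent.LsF.f9a2838_15.2, Cfsg.Agent.LsF.map_eq])); decide +kernel))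
    rwa [ev_rep, ev_rep, ← ev_fl, R2 x8_liftable x8_spider x8_e7] at h)

theorem flH_x (i : Fin 8) : flH (x8 i) = x8 (fl i) := lift_x8 _ _ _ i

theorem flH_flH : flH.comp flH = MonoidHom.id H8 := PresentedGroup.ext fun i => by
  change flH (flH (x8 i)) = x8 i
  rw [flH_x, flH_x, (by decide : ∀ i, fl (fl i) = i)]

/-- the symmetry as an automorphism -/
noncomputable def flA : MulAut H8 := MonoidHom.toMulEquiv flH flH flH_flH flH_flH

theorem index_inn : (MulAut.conj : H8 →* MulAut H8).range.index = 2 := by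
  have := fin8
  have := simple_H8
  have : Fact (Nat.Prime 3) := ⟨Nat.prime_three⟩
  have h1 := S0816.result (F := ZMod 3) 3 1 le_rfl (by simp) (by decide) 3 le_rfl
  rw [← Nat.card_congr (MulAut.congr equiv).toEquiv, ← Nat.card_congr equiv.toEquiv] at h1
  have h2 : center H8 = ⊥ := (inferInstance : (center H8).Normal).eq_bot_or_eq_top.resolve_right fun h => by
    let _ := Group.commGroupOfCenterEqTop h
    exact absurd (IsSimpleGroup.prime_card (α := H8)) (by rw [card_H8]; norm_num)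
  have h3 := (MulAut.conj : H8 →* MulAut H8).range.index_mul_card
  rw [← Nat.card_congr (MonoidHom.ofInjective (conj_inj h2)).toEquiv, h1] at h3
  exact Nat.eq_of_mul_eq_mul_right Nat.card_pos h3

section cover

variable {X : Type} [Group X] [Finite X] (φ : X →* H8) (h1 : Function.Surjective φ) (h2 : φ.ker = center X)
  (h3 : Nat.card (center X) = 3) (h4 : _root_.commutator X = ⊤)

include h1 h2 h3 h4

theorem not_fix (α : MulAut X) (h : ∀ x, φ (α x) = flA (φ x)) : ¬ ∀ z ∈ center X, α z = z := fun hα => by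
  have hd : PCE φ := ⟨h1, h2.le, h4⟩
  have hp : IsPGroup 3 φ.ker := IsPGroup.of_card (n := 1) (h2 ▸ h3)
  choose s hs1 hs2 using fun i : Fin 8 => exists_invol hd hp (sq x8_liftable i)
  have hl := liftable hd hp hs1 hs2
  have hev : ∀ w, φ (ev s w) = ev x8 w := fun w => by rw [Fischer.Y322.map_ev, funext hs1]
  have h5 : φ (ev s spider ^ 10) = 1 := by rw [map_pow, hev, x8_spider]
  have h6 : ∀ i, α (s i) = s (fl i) := fun i => by
    have h6 : φ (α (s i) * s (fl i)) = 1 := by
      rw [map_mul, h, hs1, hs1]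
      exact (congrArg (· * _) (flH_x i)).trans (sq x8_liftable _)
    refine (eq_inv_of_mul_eq_one_left (one_of_sq hp h6 ?_)).trans (inv_eq_of_mul_eq_one_left (hs2 _))
    rw [mul_assoc, ← hd.comm h6, ← mul_assoc, ← mul_assoc, ← map_mul, hs2, map_one, one_mul, hs2]
  have h7 := fl_sp hl
  rw [← funext h6, ← show α _ = ev (fun i => α (s i)) spider from Fischer.Y322.map_ev α.toMonoidHom s _, ← map_pow,
    hα _ (h2.le h5), ← hd.comm h5, mul_inv_cancel_right, eq_inv_iff_mul_eq_one] at h7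
  have h8 : ev s e7w ^ 9 = 1 := one_of_sq hp (by rw [map_pow, hev, x8_e7]) (by
    have h8 := ev_eq_ev hl chk_e7
    rwa [ev_rep, ev_rep, ev_nil, pow_two] at h8)
  have h9 := inf_eq_of_split φ (lift hl (one_of_sq hp h5 h7) h8) fun y =>
    DFunLike.congr_fun (PresentedGroup.ext (φ := φ.comp (lift hl (one_of_sq hp h5 h7) h8)) (ψ := MonoidHom.id H8)
      fun i => (congrArg φ (lift_x8 _ _ _ i)).trans (hs1 i)) y
  rw [h4, top_inf_eq, h2, commutator_eq_bot_iff_le_centralizer.2 (center_le_centralizer _)] at h9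
  rw [h9, card_bot] at h3
  omega

/-- **the automorphisms which fix the centre are inner** -/
theorem inn : ∀ α : MulAut X, (∀ z ∈ center X, α z = z) → ∃ x, α = MulAut.conj x := by
  have := fin8
  refine inn_of_no φ h1 h2 h4 (out_cases index_inn fun ⟨y, hy⟩ => ?_) (not_fix φ h1 h2 h3 h4)
  obtain ⟨x, rfl⟩ := h1 y
  refine not_fix φ h1 h2 h3 h4 (MulAut.conj x) (fun u => by rw [← hy]; simp) fun z hz => ?_
  rw [MulAut.conj_apply, mem_center_iff.1 hz, mul_inv_cancel_right]

end cover

theorem selfN_H8 (Q : Sylow 2 H8) : normalizer ((Q : Subgroup H8) : Set H8) ≤ Q := by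
  have := fin8
  have : Fact (Nat.Prime 3) := ⟨Nat.prime_three⟩
  have := two_prime
  intro x hx
  have h := H803.RowOmega.self_odd (F := ZMod 3) (by simp; decide) 3 le_rfl
    (Q.mapSurjective (f := equiv.toMonoidHom) equiv.surjective)
  obtain ⟨y, hy, e⟩ := h (le_normalizer_map equiv.toMonoidHom (mem_map_of_mem _ hx))
  exact equiv.injective e ▸ hy

/-- the count on the side of the group -/
def GS (S : Type) [Group S] : Prop :=
  ∀ (X : Type) [Group X] [Finite X] (φ : X →* S), Function.Surjective φ → φ.ker = center X →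
    Nat.card (center X) = 3 → _root_.commutator X = ⊤ → ∀ (l : X → ℂ) (m : center X →* ℂˣ), Fa (center X) l →
      (∀ z : center X, l z = m z) → kk ⊤ (center X) l = 16

theorem GS.congr {S S' : Type} [Group S] [Group S'] (e : S ≃* S') (h : GS S') : GS S := fun X _ _ φ h1 h2 =>
  h X (e.toMonoidHom.comp φ) (e.surjective.comp h1) ((ker_congr φ e).trans h2)

theorem smC_H8 (h : GS H8) : SmC H8 := fun X _ _ φ h1 h2 h3 h4 _ => by
  have := fin8
  have := two_prime
  obtain ⟨Q, hQ⟩ := kk_norm φ h1 h2 (by rw [h3]; decide) (CycN.of_selfN selfN_H8)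
  refine sm_of_inn (inn φ h1 h2 h3 h4) Q fun l hl => kk_eq_of_hom le_rfl le_top (center_le_normalizer _) fun m hm => ?_
  rw [h X φ h1 h2 h3 h4 l m hl hm, hQ l m hm, ← a2_H8]
  exact (k0_norm_self selfN_H8 (Q.mapSurjective h1)).symm

theorem iso_H8 (F : Type) [Field F] [Fintype F] (hF : Fintype.card F = 3) :
    Nonempty (POmega F (quadFormOdd 3 F) ≃* H8) := by
  have : Fact (Nat.Prime 3) := ⟨Nat.prime_three⟩
  obtain ⟨e⟩ := UGT.U2.Rec.Congr.nonempty_POmegaOdd
    (FiniteField.ringEquivOfCardEq (by rw [ZMod.card, hF]) : ZMod 3 ≃+* F) 3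
  exact ⟨(equiv.trans e).symm⟩

/-- **the row of `3.Ω₇(3)`** from the count in any model -/
theorem o73_of {S : Type} [Group S] (e : H8 ≃* S) (h : GS S) (F : Type) [Field F] [Fintype F]
    (hF : Fintype.card F = 3) : SmC (POmega F (quadFormOdd 3 F)) :=
  (iso_H8 F hF).elim fun f => SmC.congr f (smC_H8 (h.congr e))

end Cfsg.Agent.MK.S7.O7

private theorem dce_75413ce5a106 : _root_.True := by
  try have : _root_.True := by simp only [_root_.Cfsg.Agent.MK.S7.O7.lt.eq_1]
  exact _root_.True.intro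
end

-- part: MK/C3L/OBig
section
set_option linter.all false
open scoped Cfsg.Agent.FastGrp

/-!
# Unions of classes of `Ω₇(3)` (helper94)

`Big ws m` : at least `m` elements are conjugate to one of the words `ws`.
-/

set_option autoImplicit false
set_option maxRecDepth 100000

namespace Cfsg.Agent.MK.C3L.O

open Cfsg Matrix Subgroup
open Cfsg.Agent.Fischer.Derived Cfsg.Agent.Fischer.O73 Cfsg.Agent.Fischer.Y322 Cfsg.Agent.Fischer.Y322Iso
open Cfsg.Agent.MK.S7.O7 (fl flA flH flH_x fin8 ev_fl)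

local notation "O7" => isometryGroup (ZMod 3) Q

/-- the union of the classes of the words is large -/
def Big (ws : List (List (Fin 8))) (m : ℕ) : Prop := m ≤ Set.ncard {g : H8 | ∃ w ∈ ws, IsConj (ev x8 w) g}

theorem Big.one {w : List (Fin 8)} {c : ℕ} (h : Nat.card (centralizer {ev x8 w}) ≤ c) : Big [w] (4585351680 / c) := by
  have := fin8
  have h1 := TAB.Eng.div_le_class h
  rw [card_H8] at h1
  exact h1.trans_eq (congrArg Set.ncard (Set.ext fun g =>
    ⟨fun e => ⟨w, List.mem_singleton_self w, e⟩, fun ⟨_, e, e'⟩ => List.mem_singleton.1 e ▸ e'⟩))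

theorem Big.nil : Big [[]] 1 := by
  have := fin8
  exact Big.one (c := 4585351680) (card_H8 ▸ card_le_card_group _)

theorem Big.add {ws vs : List (List (Fin 8))} {m n : ℕ} (h1 : Big ws m) (h2 : Big vs n)
    (h : ∀ w ∈ ws, ∀ v ∈ vs, ¬ IsConj (ev x8 w) (ev x8 v)) : Big (ws ++ vs) (m + n) := by
  have := fin8
  refine (Nat.add_le_add h1 h2).trans ?_
  rw [← Set.ncard_union_eq (Set.disjoint_left.2 (by
    rintro g ⟨w, h3, h4⟩ ⟨v, h5, h6⟩
    exact h w h3 v h5 (h4.trans h6.symm)))]
  refine Set.ncard_le_ncard ?_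
  rintro g (⟨w, h3, h4⟩ | ⟨w, h3, h4⟩)
  exacts [⟨w, List.mem_append_left _ h3, h4⟩, ⟨w, List.mem_append_right _ h3, h4⟩]

theorem toO_ev (w : List (Fin 8)) : toO (ev x8 w) = ev gen w :=
  (Fischer.Y322.map_ev toO x8 w).trans (congrArg (ev · w) (funext toO_x8))

theorem exists_r : ∃ r : O7, sg r = (-1, 1) ∧ ∀ w, r * ev gen w * r⁻¹ = ev gen (w.map fl) := by
  obtain ⟨r, h1, h2⟩ := exists_rf (X.val 730) (by decide +kernel)
  have h3 : ∀ i : Fin 8, ∀ x ∈ basis, rf (X.val 730) (actW [i] x) = actW [fl i] (rf (X.val 730) x) := by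
    decide +kernel
  refine ⟨r, h1.trans (by decide +kernel), fun w => ?_⟩
  rw [← ev_fl, ← MulAut.conj_apply, show MulAut.conj r _ = ev (fun i => MulAut.conj r (gen i)) w from
    Fischer.Y322.map_ev (MulAut.conj r).toMonoidHom gen w]
  refine congrArg (ev · w) (funext fun i => ?_)
  rw [MulAut.conj_apply, mul_inv_eq_iff_eq_mul, ← mul_one (gen i), ← mul_one (gen (fl i))]
  refine mat_injective (Matrix.ext_of_mulVec_single fun j => ?_)
  rw [mat_mul, mat_mul _ r, ← mulVec_mulVec, ← mulVec_mulVec, ← toFun_ofFun (Pi.single j 1), h2]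
  exact (congrArg _ (mat_ev [i] _)).trans (((h2 _).trans (congrArg _ (h3 i _ (single_mem j)))).trans
    (mat_ev [fl i] _).symm)

/-- two classes which are interchanged by the symmetry -/
theorem Big.pair {w v : List (Fin 8)} {d : ℕ} {lv : List Lv} {c : ℕ} (h : Nat.ble (bnd w d lv) (2 * c) = true)
    (hv : w.map fl = v) : Big [w, v] (4585351680 / c + 4585351680 / c) := by
  have := fin8
  have h1 := cent_two h
  by_cases h2 : IsConj (ev x8 w) (ev x8 v)
  · obtain ⟨r, h3, h4⟩ := exists_r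
    obtain ⟨k, h5⟩ := isConj_iff.1 h2
    have h6 := congrArg toO h5
    rw [map_mul, map_mul, map_inv, toO_ev, toO_ev, ← hv, ← h4] at h6
    have h7 : ((-1, 1) : ℤˣ × ℤˣ) ∈ (HS (ev gen w) []).map sg := ⟨(toO k)⁻¹ * r, ⟨show _ * _ = _ * _ by
      rw [mul_assoc, mul_inv_eq_iff_eq_mul.1 h6.symm]; group, fun _ e => by cases e⟩, by
      rw [map_mul, map_inv, show sg (toO k) = 1 from Abelianization.commutator_subset_ker sg (toO_mem k), h3, inv_one,
        one_mul]⟩
    have h8 := neg_mem (ev gen w)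
    have h9 : ∀ s : ℤˣ × ℤˣ, s = 1 ∨ s = (-1, 1) ∨ s = (1, -1) ∨ s = (-1, 1) * (1, -1) := by decide
    have h10 : (HS (ev gen w) []).map sg = ⊤ := (eq_top_iff' _).2 fun s => by
      rcases h9 s with rfl | rfl | rfl | rfl
      exacts [one_mem _, h7, h8, mul_mem h7 h8]
    have h11 := (cent_mul w).trans ((card_le_bnd w d lv).trans (Nat.le_of_ble_eq_true h))
    rw [h10, card_top, Nat.card_prod, Nat.card_eq_fintype_card] at h11
    replace h11 : 2 * 2 * Nat.card (centralizer {ev x8 w}) ≤ 2 * c := h11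
    have h12 : 0 < Nat.card (centralizer {ev x8 w}) := Nat.card_pos
    refine le_trans ?_ ((Big.one (w := w) (c := c / 2) (by omega)).trans (Set.ncard_le_ncard ?_))
    · rw [Nat.le_div_iff_mul_le (by omega), ← mul_two, mul_assoc]
      exact (Nat.mul_le_mul_left _ (Nat.mul_div_le c 2)).trans (Nat.div_mul_le_self _ _)
    · rintro g ⟨u, h12, h13⟩
      exact ⟨u, List.mem_append_left [v] h12, h13⟩
  · refine (Big.one h1).add (Big.one (le_of_eq_of_le ?_ h1)) (by simpa using h2)
    have h3 : ev x8 v = flA (ev x8 w) := by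
      rw [← hv, ← ev_fl, ← funext flH_x]
      exact (Fischer.Y322.map_ev flH x8 w).symm
    rw [h3]
    refine Nat.card_congr (flA.toEquiv.subtypeEquiv fun g => ?_).symm
    rw [mem_centralizer_singleton_iff, mem_centralizer_singleton_iff, MulEquiv.toEquiv_eq_coe, EquivLike.coe_coe,
      ← map_mul, ← map_mul, EmbeddingLike.apply_eq_iff_eq]

/-! ### an invariant -/

/-- a polynomial in `g` at a vector -/
def pf (g : O7) (x : Ix → ZMod 3) : List (ZMod 3) → Ix → ZMod 3
  | [] => 0
  | c :: cs => c • x + mat g *ᵥ pf g x cs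

theorem pf_conj (c g : O7) (x : Ix → ZMod 3) : ∀ cs, pf (c * g * c⁻¹) (mat c *ᵥ x) cs = mat c *ᵥ pf g x cs
  | [] => (mulVec_zero _).symm
  | a :: cs => by
    rw [pf, pf, pf_conj c g x cs, mulVec_add, mulVec_smul, mulVec_mulVec, mulVec_mulVec, ← mat_mul, ← mat_mul,
      inv_mul_cancel_right]

/-- the polynomial on all the vectors -/
noncomputable def pl (w : List (Fin 8)) (cs : List (ZMod 3)) : W := List.rec zW (fun c _ r => axW c X (actL w r)) cs

theorem val_pl (w : List (Fin 8)) (i : ℕ) : ∀ cs, ((pl w cs).val i).toFun = pf (ev gen w) (X.val i).toFun cs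
  | [] => val_zW i
  | c :: cs => by
    rw [pf, ← val_pl w i cs, mat_ev, ← val_actL]
    exact val_axW c X _ i

/-- the value `1` does not occur -/
noncomputable def nv (cs : List (ZMod 3)) (w : List (Fin 8)) : Bool :=
  fT (dotW X (pl w cs)) fun t => Nat.beq (Nat.land t.z t.s) t.z

theorem nv_iff (cs : List (ZMod 3)) (w : List (Fin 8)) : nv cs w = true ↔ ∀ x, B x (pf (ev gen w) x cs) ≠ 1 := by
  have h1 : ∀ i, (dotW X (pl w cs)).val i = B (X.val i).toFun (pf (ev gen w) (X.val i).toFun cs) := fun i => by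
    rw [val_dotW, ← B_toFun, val_pl]
  have h2 : ∀ a b : Bool, (a && b) = a ↔ vb a b ≠ 1 := by decide
  rw [nv, fT_eq, Nat.beq_eq, Nat.land_eq]
  refine ⟨fun h x => ?_, fun h => Nat.eq_of_testBit_eq fun i => ?_⟩
  · rw [← toFun_ofFun x, ← (X_code (ofFun x)).2, ← h1]
    exact (h2 _ _).1 ((Nat.testBit_and _ _ _).symm.trans (congrArg (Nat.testBit · _) h))
  · exact (Nat.testBit_and _ _ _).trans ((h2 _ _).2 (fun e => h _ ((h1 i).symm.trans e)))

theorem nv_conj (cs : List (ZMod 3)) {w v : List (Fin 8)} (h : IsConj (ev x8 w) (ev x8 v)) (h1 : nv cs v = true) :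
    nv cs w = true := by
  obtain ⟨k, h2⟩ := isConj_iff.1 h
  have h3 := congrArg toO h2
  rw [map_mul, map_mul, map_inv, toO_ev, toO_ev] at h3
  refine (nv_iff cs w).2 fun x => ?_
  rw [← B_mat (toO k), ← pf_conj, h3]
  exact (nv_iff cs v).1 h1 _

theorem Big.app (cs : List (ZMod 3)) {ws vs : List (List (Fin 8))} {m n : ℕ} (h1 : Big ws m) (h2 : Big vs n)
    (h : (ws.all (nv cs) && vs.all fun v => !nv cs v) = true) : Big (ws ++ vs) (m + n) := by
  simp only [Bool.and_eq_true, List.all_eq_true, Bool.not_eq_true'] at h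
  exact h1.add h2 fun w hw v hv e => absurd (nv_conj cs e.symm (h.1 w hw)) (by rw [h.2 v hv]; decide)

end Cfsg.Agent.MK.C3L.O

private theorem dce_9e9eb2e8231a : _root_.True := by
  try have : _root_.True := by simp only [_root_.Cfsg.Agent.MK.C3L.O.pf.eq_1]
  try have : _root_.True := by simp only [_root_.Cfsg.Agent.MK.C3L.O.pf.eq_2]
  try have : _root_.True := by simp only [_root_.Cfsg.Agent.MK.C3L.O.pf.eq_def]
  try have : _root_.True := by simp only [_root_.Cfsg.Agent.MK.C3L.O.nv.eq_1]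
  exact _root_.True.intro
end

-- part: MK/C3L/OTrip
section
set_option linter.all false
open scoped Cfsg.Agent.FastGrp

/-!
# The types of the elements of `3.Ω₇(3)` : the key and the checker (helper94)

The key consists of the numbers of the fixed points among the `1134` points and among the `378` blocks.
-/

set_option autoImplicit false
set_option maxRecDepth 100000

namespace Cfsg.Agent.MK.C3L.O

open Cfsg Subgroup Cfsg.Agent.H64.O73Perm Cfsg.Agent.H86.TI Cfsg.Agent.TAB.Eng Cfsg.Agent.H51.Mult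
open Cfsg.Agent.Fischer.Derived Cfsg.Agent.Fischer.Y322 Cfsg.Agent.Fischer.Y322Iso
open Cfsg.Agent.Characters Cfsg.Agent.Characters.Core Cfsg.Agent.Characters.Brauer
open Cfsg.Agent.H123.Cls (fB_eq)

/-- the central element -/
def zz : Trip := ev y8 spider ^ 10

theorem zz_val (p : Fin 1134) : ((zz : Equiv.Perm (Fin 1134)) p).val = sh p.val := by
  rw [zz, coe_pow, coe_ev, spider_val]

theorem zz_cube : zz ^ 3 = 1 := Subtype.ext (by rw [zz, coe_pow, coe_pow, coe_ev, spider_cube]; rfl)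

theorem zz_ord : orderOf zz = 3 := by
  have : Fact (Nat.Prime 3) := ⟨Nat.prime_three⟩
  exact orderOf_eq_prime zz_cube fun h => spider_ne (by rw [← coe_ev, ← coe_pow]; exact congrArg Subtype.val h)

theorem zz_comm (x : Trip) : Commute zz x := (mem_center_iff.1 spider_center x).symm

theorem exists_pi : ∃ π : Trip →* H8, (∀ i, π (y8 i) = x8 i) ∧ Ext (zpowers zz) π := by
  have h1 : zpowers zz ≤ center Trip := zpowers_le.2 spider_center
  have := normal_of_le_center h1
  obtain ⟨q, h2, h3⟩ : ∃ q : Trip →* Trip ⧸ zpowers zz, Function.Surjective q ∧ q.ker = zpowers zz :=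
    ⟨_, QuotientGroup.mk'_surjective _, QuotientGroup.ker_mk' _⟩
  have l1 : M8.IsLiftable fun i => q (y8 i) := fun i j => by
    show (q (y8 i) * q (y8 j)) ^ M8 i j = 1
    rw [← map_mul, ← map_pow, y8_liftable, map_one]
  have l2 : ev (fun i => q (y8 i)) spider ^ 10 = 1 := by
    rw [← map_ev, ← map_pow, ← MonoidHom.mem_ker, h3]
    exact mem_zpowers zz
  have l3 : ev (fun i => q (y8 i)) e7w ^ 9 = 1 := by rw [← map_ev, ← map_pow, y8_e7, map_one]
  have h4 : Function.Surjective (lift l1 l2 l3) := by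
    have h4 := congrArg (Subgroup.map q) closure_y8
    rw [MonoidHom.map_closure, ← MonoidHom.range_eq_map, MonoidHom.range_eq_top.2 h2, ← Set.range_comp] at h4
    rw [← MonoidHom.range_eq_top, range_lift]
    exact h4
  have h5 : Function.Injective (lift l1 l2 l3) := injective_of_ne _ ⟨x8 0, fun h => by
    rw [lift_x8, ← MonoidHom.mem_ker, h3] at h
    have h5 := congrArg (fun g : Trip => ((g : Equiv.Perm (Fin 1134)) 0).val) (mem_center_iff.1 (h1 h) (y8 1))
    have h6 := congrArg (fun g : Trip => ((g : Equiv.Perm (Fin 1134)) 30).val) (mem_center_iff.1 (h1 h) (y8 1))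
    exact absurd (And.intro h5 h6) (by decide +kernel)⟩
  let e := MulEquiv.ofBijective _ ⟨h5, h4⟩
  exact ⟨e.symm.toMonoidHom.comp q, fun i => e.symm_apply_eq.2 (lift_x8 l1 l2 l3 i).symm,
    e.symm.surjective.comp h2, (ker_congr q e.symm).trans h3, h1, (Nat.card_zpowers _).trans zz_ord⟩

/-- the projection -/
noncomputable def pi : Trip →* H8 := exists_pi.choose

theorem ext_pi : Ext (zpowers zz) pi := exists_pi.choose_spec.2

theorem pi_ev (w : List (Fin 8)) : pi (ev y8 w) = ev x8 w :=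
  (map_ev pi y8 w).trans (congrArg (ev · w) (funext exists_pi.choose_spec.1))

theorem pi_zz : pi zz = 1 := ext_pi.mem_iff.1 (mem_zpowers zz)

theorem card_trip : Nat.card Trip = 13756055040 := by rw [ext_pi.card_E, card_H8]

/-! ### the key -/

/-- the number of the fixed points -/
noncomputable def fx (g : Trip) : ℕ := Nat.card (MulAction.fixedBy (Fin 1134) g)

/-- three times the number of the fixed blocks -/
noncomputable def fb (g : Trip) : ℕ := fx g + fx (zz * g) + fx (zz * (zz * g))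

theorem gen_fx : IsGeneralizedCharacter Trip fun g => (fx g : ℂ) :=
  isGeneralizedCharacter_of_isCharacter (S0157.isCharacter_fixedBy (Fin 1134))

theorem fx_conj (g h : Trip) : fx (h * g * h⁻¹) = fx g :=
  Nat.cast_injective (R := ℂ) (isCharacter_isClassFunction (S0157.isCharacter_fixedBy (Fin 1134)) g h)

theorem fb_conj (g h : Trip) : fb (h * g * h⁻¹) = fb g := by
  have h1 : ∀ g, zz * (h * g * h⁻¹) = h * (zz * g) * h⁻¹ := fun g => by
    rw [← mul_assoc, ← mul_assoc, (zz_comm h).eq, mul_assoc h]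
  rw [fb, h1, h1, fx_conj, fx_conj, fx_conj, fb]

theorem gen_fb : IsGeneralizedCharacter Trip fun g => (fb g / 3 : ℂ) := by
  have := Fintype.ofFinite Trip
  refine isGeneralizedCharacter_of_int (fun g h => by rw [fb_conj]) fun χ hχ => ?_
  obtain ⟨c, h1, h2, -⟩ := ODD.Red.exists_central hχ spider_center
  by_cases h3 : c = 1
  · have h4 := S7.inner_shift (z := zz) (fun g => (fx g : ℂ)) h1
    have h5 := S7.inner_shift (z := zz) (fun g => (fx (zz * g) : ℂ)) h1
    rw [h3, map_one, one_mul] at h4 h5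
    refine ⟨H447.CTab.mu gen_fx ⟨χ, hχ⟩, ?_⟩
    rw [← H447.CTab.inner_mu]
    simp only [classInner_def, fb, Nat.cast_add, div_mul_eq_mul_div, add_mul, ← Finset.sum_div,
      Finset.sum_add_distrib] at h4 h5 ⊢
    linear_combination (-2 / 3) * h4 - h5 / 3
  · refine ⟨0, (S7.inner_inv (z := zz) (fun x => ?_) h1 h3).trans Int.cast_zero.symm⟩
    have h4 : zz * (zz * (zz * x)) = x := by rw [← mul_assoc, ← mul_assoc, ← pow_three', zz_cube, one_mul]
    rw [fb, fb, h4, ← add_rotate]

/-- the key -/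
def key : Key Trip (ℕ × ℕ) where
  P g a := (fx g, fb g) = a
  func _ _ _ ha hb := ha.symm.trans hb
  conj g h a ha := by rw [fx_conj, fb_conj, ha]
  gal g k a hk ha := by
    have h1 := TAB.ON.gen_pow gen_fx (q := fx g) (by norm_num) hk
    have h2 := TAB.ON.gen_pow gen_fb (q := fb g / 3) (by norm_num) hk
    rw [Nat.cast_inj.1 h1, Nat.cast_inj.1 ((div_left_inj' three_ne_zero).1 h2), ha]

theorem fx_one {g : Trip} : fx g = 1134 ↔ g = 1 := by
  refine ⟨fun h => Subtype.ext (Equiv.ext fun p => ?_), fun h => by rw [h, fx, MulAction.fixedBy_one_eq_univ]; simp⟩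
  have h1 := (Set.eq_univ_iff_ncard (MulAction.fixedBy (Fin 1134) g)).2 (h.trans (by simp))
  exact (h1 ▸ Set.mem_univ p : p ∈ MulAction.fixedBy (Fin 1134) g)

/-! ### tables -/

/-- an entry -/
noncomputable def en (G p : ℕ) : ℕ := Nat.land (Nat.shiftRight G (Nat.mul 12 p)) 4095

/-- the table of a function -/
noncomputable def bld (f : ℕ → ℕ) (n : ℕ) : ℕ → ℕ :=
  Nat.rec (fun a => a) (fun i ih a => H123.Cls.fB (Nat.add (Nat.mul a 4096) (f i)) ih) n

theorem en_eq (G p : ℕ) : en G p = G / 4096 ^ p % 4096 := by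
  rw [en, Nat.land_eq, Nat.shiftRight_eq, Nat.mul_eq, Nat.shiftRight_eq_div_pow, pow_mul]
  exact Nat.and_two_pow_sub_one_eq_mod _ 12

/-- counting -/
noncomputable def cnt (f : ℕ → Bool) (n : ℕ) : ℕ → ℕ :=
  Nat.rec (fun a => a) (fun i ih a => Bool.rec (ih a) (frc (Nat.succ a) ih) (f i)) n

theorem cnt_eq (f : ℕ → Bool) : ∀ n a, cnt f n a = a + ∑ i ∈ Finset.range n, if f i = true then 1 else 0
  | 0, _ => rfl
  | n + 1, a => by
    rw [show cnt f (n + 1) a = Bool.rec (cnt f n a) (frc (a + 1) (cnt f n)) (f n) from rfl, frc_eq, cnt_eq f n,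
      cnt_eq f n, Finset.sum_range_succ]
    cases f n
    · rfl
    · exact (add_right_comm _ _ _).trans (add_assoc _ _ _)

/-- the function of an element -/
def Fn (g : Trip) (f : ℕ → ℕ) : Prop := ∀ p : Fin 1134, ((g : Equiv.Perm (Fin 1134)) p).val = f p.val

theorem Fn.mul {g k : Trip} {f e : ℕ → ℕ} (h : Fn g f) (h' : Fn k e) : Fn (g * k) fun p => f (e p) := fun p =>
  (h _).trans (congrArg f (h' p))

theorem Fn.fx {g : Trip} {f : ℕ → ℕ} (h : Fn g f) : fx g = cnt (fun p => Nat.beq (f p) p) 1134 0 := by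
  classical
  rw [cnt_eq, zero_add, ← Fin.sum_univ_eq_sum_range (fun i => if Nat.beq (f i) i = true then 1 else 0), O.fx,
    Nat.card_eq_fintype_card, Fintype.card_subtype, Finset.card_filter]
  refine Finset.sum_congr rfl fun p _ => if_congr ?_ rfl rfl
  rw [Nat.beq_eq, ← h p, Fin.val_inj]
  rfl

/-- a word -/
noncomputable def wd (w : List (Fin 8)) (p : ℕ) : ℕ := List.rec p (fun a _ r => frc r (en (H64.O73Data.T a.val))) w

theorem fn_wd : ∀ w, Fn (ev y8 w) (wd w)
  | [] => fun _ => rfl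
  | a :: w => fun p => (Fn.mul (g := y8 a) (f := en (H64.O73Data.T a.val)) (fun _ => rfl) (fn_wd w) p).trans
    (frc_eq _ _).symm

/-- an entry of a table of triples -/
private noncomputable def en3 (G p : ℕ) : ℕ := Nat.land (Nat.shiftRight G (Nat.mul 36 p)) 68719476735

/-- a table of triples -/
private noncomputable def bld3 (f : ℕ → ℕ) (n : ℕ) : ℕ → ℕ :=
  Nat.rec (fun a => a) (fun i ih a => H123.Cls.fB (Nat.add (Nat.mul a 68719476736) (f i)) ih) n

private theorem en3_eq (G p : ℕ) : en3 G p = G / 68719476736 ^ p % 68719476736 := by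
  rw [en3, Nat.land_eq, Nat.shiftRight_eq, Nat.mul_eq, Nat.shiftRight_eq_div_pow, pow_mul]
  exact Nat.and_two_pow_sub_one_eq_mod _ 36

private theorem en3_bld3 {f : ℕ → ℕ} : ∀ {n : ℕ}, (∀ i < n, f i < 68719476736) → ∀ a p, en3 (bld3 f n a) p =
    if p < n then f p else en3 a (p - n)
  | 0, _, _, _ => (if_neg (Nat.not_lt_zero _)).symm
  | n + 1, h, a, p => by
    have h1 := h n n.lt_succ_self
    rw [show bld3 f (n + 1) a = H123.Cls.fB (a * 68719476736 + f n) (bld3 f n) from rfl, fB_eq,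
      en3_bld3 fun i hi => h i (hi.trans n.lt_succ_self)]
    rcases lt_trichotomy p n with e | rfl | e
    · rw [if_pos e, if_pos (by omega)]
    · rw [if_neg (lt_irrefl _), if_pos (by omega), Nat.sub_self, en3_eq]
      omega
    · rw [if_neg (by omega), if_neg (by omega), show p - n = p - (n + 1) + 1 by omega, en3_eq, en3_eq, pow_succ',
        ← Nat.div_div_eq_div_mul, show (a * 68719476736 + f n) / 68719476736 = a by omega]

private theorem en_en3 (G k : ℕ) : en G (3 * k) = en3 G k % 4096 ∧ en G (3 * k + 1) = en3 G k / 4096 % 4096 ∧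
    en G (3 * k + 2) = en3 G k / 16777216 := by
  rw [en_eq, en_eq, en_eq, en3_eq, pow_add, pow_add, pow_mul, ← Nat.div_div_eq_div_mul, ← Nat.div_div_eq_div_mul,
    show 4096 ^ 3 = 68719476736 from rfl]
  omega

private def tID : ℕ := 0x46d46c46b46a46946846746646546446346246146045f45e45d45c45b45a45945845745645545445345245145044f44e44d44c44b44a44944844744644544444344244144043f43e43d43c43b43a43943843743643543443343243143042f42e42d42c42b42a42942842742642542442342242142041f41e41d41c41b41a41941841741641541441341241141040f40e40d40c40b40a4094084074064054044034024014003ff3fe3fd3fc3fb3fa3f93f83f73f63f53f43f33f23f13f03ef3ee3ed3ec3eb3ea3e93e83e73e63e53e43e33e23e13e03df3de3dd3dc3db3da3d93d83d73d63d53d43d33d23d13d03cf3ce3cd3cc3cb3ca3c93c83c73c63c53c43c33c23c13c03bf3be3bd3bc3bb3ba3b93b83b73b63b53b43b33b23b13b03af3ae3ad3ac3ab3aa3a93a83a73a63a53a43a33a23a13a039f39e39d39c39b39a39939839739639539439339239139038f38e38d38c38b38a38938838738638538438338238138037f37e37d37c37b37a379378377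37637537437337237137036f36e36d36c36b36a36936836736636536436336236136035f35e35d35c35b35a35935835735635535435335235135034f34e34d34c34b34a34934834734634534434334234134033f33e33d33c33b33a33933833733633533433333233133032f32e32d32c32b32a32932832732632532432332232132031f31e31d31c31b31a31931831731631531431331231131030f30e30d30c30b30a3093083073063053043033023013002ff2fe2fd2fc2fb2fa2f92f82f72f62f52f42f32f22f12f02ef2ee2ed2ec2eb2ea2e92e82e72e62e52e42e32e22e12e02df2de2dd2dc2db2da2d92d82d72d62d52d42d32d22d12d02cf2ce2cd2cc2cb2ca2c92c82c72c62c52c42c32c22c12c02bf2be2bd2bc2bb2ba2b92b82b72b62b52b42b32b22b12b02af2ae2ad2ac2ab2aa2a92a82a72a62a52a42a32a22a12a029f29e29d29c29b29a29929829729629529429329229129028f28e28d28c28b28a28928828728628528428328228128027f27e27d27c27b27a27927827727627527427327227127026f26e26d26c26b26a26926826726626526426326226126025f25e25d25c25b25a25925825725625525425325225125024f24e24d24c24b24a24924824724624524424324224124023f23e23d23c23b23a23923823723623523423323223123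022f22e22d22c22b22a22922822722622522422322222122021f21e21d21c21b21a21921821721621521421321221121020f20e20d20c20b20a2092082072062052042032022012001ff1fe1fd1fc1fb1fa1f91f81f71f61f51f41f31f21f11f01ef1ee1ed1ec1eb1ea1e91e81e71e61e51e41e31e21e11e01df1de1dd1dc1db1da1d91d81d71d61d51d41d31d21d11d01cf1ce1cd1cc1cb1ca1c91c81c71c61c51c41c31c21c11c01bf1be1bd1bc1bb1ba1b91b81b71b61b51b41b31b21b11b01af1ae1ad1ac1ab1aa1a91a81a71a61a51a41a31a21a11a019f19e19d19c19b19a19919819719619519419319219119018f18e18d18c18b18a18918818718618518418318218118017f17e17d17c17b17a17917817717617517417317217117016f16e16d16c16b16a16916816716616516416316216116015f15e15d15c15b15a15915815715615515415315215115014f14e14d14c14b14a14914814714614514414314214114013f13e13d13c13b13a13913813713613513413313213113012f12e12d12c12b12a12912812712612512412312212112011f11e11d11c11b11a11911811711611511411311211111010f10e10d10c10b10a1091081071061051041031021011000ff0fe0fd0fc0fb0fa0f90f80f70f60f50f40f30f20f10f00ef0ee0ed0ec0eb0ea0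e90e80e70e60e50e40e30e20e10e00df0de0dd0dc0db0da0d90d80d70d60d50d40d30d20d10d00cf0ce0cd0cc0cb0ca0c90c80c70c60c50c40c30c20c10c00bf0be0bd0bc0bb0ba0b90b80b70b60b50b40b30b20b10b00af0ae0ad0ac0ab0aa0a90a80a70a60a50a40a30a20a10a009f09e09d09c09b09a09909809709609509409309209109008f08e08d08c08b08a08908808708608508408308208108007f07e07d07c07b07a07907807707607507407307207107006f06e06d06c06b06a06906806706606506406306206106005f05e05d05c05b05a05905805705605505405305205105004f04e04d04c04b04a04904804704604504404304204104003f03e03d03c03b03a03903803703603503403303203103002f02e02d02c02b02a02902802702602502402302202102001f01e01d01c01b01a01901801701601501401301201101000f00e00d00c00b00a009008007006005004003002001000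
private def tS1 : ℕ := 0x46b46d46c46846a46946546746646246446345f46146045c45e45d45945b45a45645845745345545445045245144d44f44e44a44c44b44744944844444644544144344243e44043f43b43d43c43843a43943543743643243443342f43143042c42e42d42942b42a42642842742342542442042242141d41f41e41a41c41b41741941841441641541141341240e41040f40b40d40c40840a4094054074064024044033ff4014003fc3fe3fd3f93fb3fa3f63f83f73f33f53f43f03f23f13ed3ef3ee3ea3ec3eb3e73e93e83e43e63e53e13e33e23de3e03df3db3dd3dc3d83da3d93d53d73d63d23d43d33cf3d13d03cc3ce3cd3c93cb3ca3c63c83c73c33c53c43c03c23c13bd3bf3be3ba3bc3bb3b73b93b83b43b63b53b13b33b23ae3b03af3ab3ad3ac3a83aa3a93a53a73a63a23a43a339f3a13a039c39e39d39939b39a39639839739339539439039239138d38f38e38a38c38b38738938838438638538138338237e38037f37b37d37c37837a37937537737637237437336f37137036c36e36d36936b36a36636836736336536436036236135d35f35e35a35c35b35735935835435635535135335234e35034f34b34d34c34834a34934534734634234434333f34134033c33e33d33933b33a336338337333335334330332331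32d32f32e32a32c32b32732932832432632532132332231e32031f31b31d31c31831a31931531731631231431330f31131030c30e30d30930b30a3063083073033053043003023012fd2ff2fe2fa2fc2fb2f72f92f82f42f62f52f12f32f22ee2f02ef2eb2ed2ec2e82ea2e92e52e72e62e22e42e32df2e12e02dc2de2dd2d92db2da2d62d82d72d32d52d42d02d22d12cd2cf2ce2ca2cc2cb2c72c92c82c42c62c52c12c32c22be2c02bf2bb2bd2bc2b82ba2b92b52b72b62b22b42b32af2b12b02ac2ae2ad2a92ab2aa2a62a82a72a32a52a42a02a22a129d29f29e29a29c29b29729929829429629529129329228e29028f28b28d28c28828a28928528728628228428327f28128027c27e27d27927b27a27627827727327527427027227126d26f26e26a26c26b26726926826426626526126326225e26025f25b25d25c25825a25925525725625225425324f25125024c24e24d24924b24a24624824724324524424024224123d23f23e23a23c23b23723923823423623523123323222e23022f22b22d22c22822a22922522722622222422321f22122021c21e21d21921b21a21621821721321521421021221120d20f20e20a20c20b2072092082042062052012032021fe2001ff1fb1fd1fc1f81fa1f91f51f71f61f21f41f31ef1f11f01ec1ee1ed1e91eb1e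a1e61e81e71e31e51e41e01e21e11dd1df1de1da1dc1db1d71d91d81d41d61d51d11d31d21ce1d01cf1cb1cd1cc1c81ca1c91c51c71c61c21c41c31bf1c11c01bc1be1bd1b91bb1ba1b61b81b71b31b51b41b01b21b11ad1af1ae1aa1ac1ab1a71a91a81a41a61a51a11a31a219e1a019f19b19d19c19819a19919519719619219419318f19119018c18e18d18918b18a18618818718318518418018218117d17f17e17a17c17b17717917817417617517117317216e17016f16b16d16c16816a16916516716616216416315f16116015c15e15d15915b15a15615815715315515415015215114d14f14e14a14c14b14714914814414614514114314213e14013f13b13d13c13813a13913513713613213413312f13113012c12e12d12912b12a12612812712312512412012212111d11f11e11a11c11b11711911811411611511111311210e11010f10b10d10c10810a1091051071061021041030ff1011000fc0fe0fd0f90fb0fa0f60f80f70f30f50f40f00f20f10ed0ef0ee0ea0ec0eb0e70e90e80e40e60e50e10e30e20de0e00df0db0dd0dc0d80da0d90d50d70d60d20d40d30cf0d10d00cc0ce0cd0c90cb0ca0c60c80c70c30c50c40c00c20c10bd0bf0be0ba0bc0bb0b70b90b80b40b60b50b10b30b20ae0b00af0ab0ad0ac0a80aa0a90a50a70a60a20a40a309f0a10a009c09e09d09909b09a09609809709309509409009209108d08f08e08a08c08b08708908808408608508108308207e08007f07b07d07c07807a07907507707607207407306f07107006c06e06d06906b06a06606806706306506406006206105d05f05e05a05c05b05705905805405605505105305204e05004f04b04d04c04804a04904504704604204404303f04104003c03e03d03903b03a03603803703303503403003203102d02f02e02a02c02b02702902802402602502102302201e02001f01b01d01c01801a01901501701601201401300f01101000c00e00d00900b00a006008007003005004000002001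
private def tS2 : ℕ := 0x46c46b46d46946846a46646546746346246446045f46145d45c45e45a45945b45745645845445345545145045244e44d44f44b44a44c44844744944544444644244144343f43e44043c43b43d43943843a43643543743343243443042f43142d42c42e42a42942b42742642842442342542142042241e41d41f41b41a41c41841741941541441641241141340f40e41040c40b40d40940840a4064054074034024044003ff4013fd3fc3fe3fa3f93fb3f73f63f83f43f33f53f13f03f23ee3ed3ef3eb3ea3ec3e83e73e93e53e43e63e23e13e33df3de3e03dc3db3dd3d93d83da3d63d53d73d33d23d43d03cf3d13cd3cc3ce3ca3c93cb3c73c63c83c43c33c53c13c03c23be3bd3bf3bb3ba3bc3b83b73b93b53b43b63b23b13b33af3ae3b03ac3ab3ad3a93a83aa3a63a53a73a33a23a43a039f3a139d39c39e39a39939b39739639839439339539139039238e38d38f38b38a38c38838738938538438638238138337f37e38037c37b37d37937837a37637537737337237437036f37136d36c36e36a36936b36736636836436336536136036235e35d35f35b35a35c35835735935535435635235135334f34e35034c34b34d34934834a34634534734334234434033f34133d33c33e33a33933b337336338334333335331330332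32e32d32f32b32a32c32832732932532432632232132331f31e32031c31b31d31931831a31631531731331231431030f31130d30c30e30a30930b3073063083043033053013003022fe2fd2ff2fb2fa2fc2f82f72f92f52f42f62f22f12f32ef2ee2f02ec2eb2ed2e92e82ea2e62e52e72e32e22e42e02df2e12dd2dc2de2da2d92db2d72d62d82d42d32d52d12d02d22ce2cd2cf2cb2ca2cc2c82c72c92c52c42c62c22c12c32bf2be2c02bc2bb2bd2b92b82ba2b62b52b72b32b22b42b02af2b12ad2ac2ae2aa2a92ab2a72a62a82a42a32a52a12a02a229e29d29f29b29a29c29829729929529429629229129328f28e29028c28b28d28928828a28628528728328228428027f28127d27c27e27a27927b27727627827427327527127027226e26d26f26b26a26c26826726926526426626226126325f25e26025c25b25d25925825a25625525725325225425024f25124d24c24e24a24924b24724624824424324524124024223e23d23f23b23a23c23823723923523423623223123322f22e23022c22b22d22922822a22622522722322222422021f22121d21c21e21a21921b21721621821421321521121021220e20d20f20b20a20c2082072092052042062022012031ff1fe2001fc1fb1fd1f91f81fa1f61f51f71f31f21f41f01ef1f11ed1ec1ee1ea1e91e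b1e71e61e81e41e31e51e11e01e21de1dd1df1db1da1dc1d81d71d91d51d41d61d21d11d31cf1ce1d01cc1cb1cd1c91c81ca1c61c51c71c31c21c41c01bf1c11bd1bc1be1ba1b91bb1b71b61b81b41b31b51b11b01b21ae1ad1af1ab1aa1ac1a81a71a91a51a41a61a21a11a319f19e1a019c19b19d19919819a19619519719319219419018f19118d18c18e18a18918b18718618818418318518118018217e17d17f17b17a17c17817717917517417617217117316f16e17016c16b16d16916816a16616516716316216416015f16115d15c15e15a15915b15715615815415315515115015214e14d14f14b14a14c14814714914514414614214114313f13e14013c13b13d13913813a13613513713313213413012f13112d12c12e12a12912b12712612812412312512112012211e11d11f11b11a11c11811711911511411611211111310f10e11010c10b10d10910810a1061051071031021041000ff1010fd0fc0fe0fa0f90fb0f70f60f80f40f30f50f10f00f20ee0ed0ef0eb0ea0ec0e80e70e90e50e40e60e20e10e30df0de0e00dc0db0dd0d90d80da0d60d50d70d30d20d40d00cf0d10cd0cc0ce0ca0c90cb0c70c60c80c40c30c50c10c00c20be0bd0bf0bb0ba0bc0b80b70b90b50b40b60b20b10b30af0ae0b00ac0ab0ad0a90a80aa0a60a50a70a30a20a40a009f0a109d09c09e09a09909b09709609809409309509109009208e08d08f08b08a08c08808708908508408608208108307f07e08007c07b07d07907807a07607507707307207407006f07106d06c06e06a06906b06706606806406306506106006205e05d05f05b05a05c05805705905505405605205105304f04e05004c04b04d04904804a04604504704304204404003f04103d03c03e03a03903b03703603803403303503103003202e02d02f02b02a02c02802702902502402602202102301f01e02001c01b01d01901801a01601501701301201401000f01100d00c00e00a00900b007006008004003005001000002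
private def tONE : ℕ := 0x10010010010010010010010010010010010010010010010010010010010010010010010010010010010010010010010010010010010010010010010010010010010010010010010010010010010010010010010010010010010010010010010010010010010010010010010010010010010010010010010010010010010010010010010010010010010010010010010010010010010010010010010010010010010010010010010010010010010010010010010010010010010010010010010010010010010010010010010010010010010010010010010010010010010010010010010010010010010010010010010010010010010010010010010010010010010010010010010010010010010010010010010010010010010010010010010010010010010010010010010010010010010010010010010010010010010010010010010010010010010010010010010010010010010010010010010010010010010010010010010010010010010010010010010010010010010010010010010010010010010010010010010010010010010010010010010010010010010010010010010010010010010010010010010010010010010010010010010010010010010010010010010010010010010010010010010010010010010010010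01001001001001001001001001001001001001001001001001001001001001001001001001001001001001001001001001001001001001001001001001001001001001001001001001001001001001001001001001001001001001001001001001001001001001001001001001001001001001001001001001001001001001001001001001001001001001001001001001001001001001001001001001001001001001001001001001001001001001001001001001001001001001001001001001001001001001001001001001001001001001001001001001001001001001001001001001001001001001001001001001001001001001001001001001001001001001001001001001001001001001001001001001001001001001001001001001001001001001001001001001001001001001001001001001001001001001001001001001001001001001001001001001001001001001001001001001001001001001001001001001001001001001001001001001001001001001001001001001001001001001001001001001001001001001001001001001001001001001001001001001001001001001001001001001001001001001001001001001001001001001001001001001001001001001001001001001001001001001001001001001001001001001001001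001001001001001001001001001001001001001001001001001001001001001001001001001001001001001001001001001001001001001001001001001001001001001001001001001001001001001001001001001001001001001001001001001001001001001001001001001001001001001001001001001001001001001001001001001001001001001001001001001001001001001001001001001001001001001001001001001001001001001001001001001001001001001001001001001001001001001001001001001001001001001001001001001001001001001001001001001001001001001001001001001001001001001001001001001001001001001001001001001001001001001001001001001001001001001001001001001001001001001001001001001001001001001001001001001001001001001001001001001001001001001001001001001001001001001001001001001001001001001001001001001001001001001001001001001001001001001001001001001001001001001001001001001001001001001001001001001001001001001001001001001001001001001001001001001001001001001001001001001001001001001001001001001001001001001001001001001001001001001001001001001001001001001001001001001001001001001001001001001001001001001001001001001001001001001001001001001001001001001001001001001001001001001001001001001001001001001001001001001001001001001001001001001001001001001001001001001001001001001001001001001001001001001001001001001001001001001001001001001001001001001001001001001001001001001001001001001001001001001001001001001001001001001001001001001001001001001001001001001001001001001001001001001001001001001001001001001001001001001001001001001001001001001001001001001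
private def tTR : ℕ := 0x46c46b46d46b46d46c46d46c46b46946846a46846a46946a46946846646546746546746646746646546346246446246446346446346246045f46145f46146046146045f45d45c45e45c45e45d45e45d45c45a45945b45945b45a45b45a45945745645845645845745845745645445345545345545445545445345145045245045245145245145044e44d44f44d44f44e44f44e44d44b44a44c44a44c44b44c44b44a44844744944744944844944844744544444644444644544644544444244144344144344244344244143f43e44043e44043f44043f43e43c43b43d43b43d43c43d43c43b43943843a43843a43943a43943843643543743543743643743643543343243443243443343443343243042f43142f43143043143042f42d42c42e42c42e42d42e42d42c42a42942b42942b42a42b42a42942742642842642842742842742642442342542342542442542442342142042242042242142242142041e41d41f41d41f41e41f41e41d41b41a41c41a41c41b41c41b41a41841741941741941841941841741541441641441641541641541441241141341141341241341241140f40e41040e41040f41040f40e40c40b40d40b40d40c40d40c40b40940840a40840a40940a409408406405407405407406407406405403402404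4024044034044034024003ff4013ff4014004014003ff3fd3fc3fe3fc3fe3fd3fe3fd3fc3fa3f93fb3f93fb3fa3fb3fa3f93f73f63f83f63f83f73f83f73f63f43f33f53f33f53f43f53f43f33f13f03f23f03f23f13f23f13f03ee3ed3ef3ed3ef3ee3ef3ee3ed3eb3ea3ec3ea3ec3eb3ec3eb3ea3e83e73e93e73e93e83e93e83e73e53e43e63e43e63e53e63e53e43e23e13e33e13e33e23e33e23e13df3de3e03de3e03df3e03df3de3dc3db3dd3db3dd3dc3dd3dc3db3d93d83da3d83da3d93da3d93d83d63d53d73d53d73d63d73d63d53d33d23d43d23d43d33d43d33d23d03cf3d13cf3d13d03d13d03cf3cd3cc3ce3cc3ce3cd3ce3cd3cc3ca3c93cb3c93cb3ca3cb3ca3c93c73c63c83c63c83c73c83c73c63c43c33c53c33c53c43c53c43c33c13c03c23c03c23c13c23c13c03be3bd3bf3bd3bf3be3bf3be3bd3bb3ba3bc3ba3bc3bb3bc3bb3ba3b83b73b93b73b93b83b93b83b73b53b43b63b43b63b53b63b53b43b23b13b33b13b33b23b33b23b13af3ae3b03ae3b03af3b03af3ae3ac3ab3ad3ab3ad3ac3ad3ac3ab3a93a83aa3a83aa3a93aa3a93a83a63a53a73a53a73a63a73a63a53a33a23a43a23a43a33a43a33a23a039f3a139f3a13a03a13a039f39d39c39e39c39e39d39e39d39c39a39939b39939b39a39b39a39939739639839639839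739839739639439339539339539439539439339139039239039239139239139038e38d38f38d38f38e38f38e38d38b38a38c38a38c38b38c38b38a38838738938738938838938838738538438638438638538638538438238138338138338238338238137f37e38037e38037f38037f37e37c37b37d37b37d37c37d37c37b37937837a37837a37937a37937837637537737537737637737637537337237437237437337437337237036f37136f37137037137036f36d36c36e36c36e36d36e36d36c36a36936b36936b36a36b36a36936736636836636836736836736636436336536336536436536436336136036236036236136236136035e35d35f35d35f35e35f35e35d35b35a35c35a35c35b35c35b35a35835735935735935835935835735535435635435635535635535435235135335135335235335235134f34e35034e35034f35034f34e34c34b34d34b34d34c34d34c34b34934834a34834a34934a34934834634534734534734634734634534334234434234434334434334234033f34133f34134034134033f33d33c33e33c33e33d33e33d33c33a33933b33933b33a33b33a33933733633833633833733833733633433333533333533433533433333133033233033233133233133032e32d32f32d32f32e32f32e32d32b32a32c32a32c32b32c32b3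2a32832732932732932832932832732532432632432632532632532432232132332132332232332232131f31e32031e32031f32031f31e31c31b31d31b31d31c31d31c31b31931831a31831a31931a31931831631531731531731631731631531331231431231431331431331231030f31130f31131031131030f30d30c30e30c30e30d30e30d30c30a30930b30930b30a30b30a3093073063083063083073083073063043033053033053043053043033013003023003023013023013002fe2fd2ff2fd2ff2fe2ff2fe2fd2fb2fa2fc2fa2fc2fb2fc2fb2fa2f82f72f92f72f92f82f92f82f72f52f42f62f42f62f52f62f52f42f22f12f32f12f32f22f32f22f12ef2ee2f02ee2f02ef2f02ef2ee2ec2eb2ed2eb2ed2ec2ed2ec2eb2e92e82ea2e82ea2e92ea2e92e82e62e52e72e52e72e62e72e62e52e32e22e42e22e42e32e42e32e22e02df2e12df2e12e02e12e02df2dd2dc2de2dc2de2dd2de2dd2dc2da2d92db2d92db2da2db2da2d92d72d62d82d62d82d72d82d72d62d42d32d52d32d52d42d52d42d32d12d02d22d02d22d12d22d12d02ce2cd2cf2cd2cf2ce2cf2ce2cd2cb2ca2cc2ca2cc2cb2cc2cb2ca2c82c72c92c72c92c82c92c82c72c52c42c62c42c62c52c62c52c42c22c12c32c12c32c22c32c22c12bf2be2c02be2c02bf2c02bf2be2bc2bb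2bd2bb2bd2bc2bd2bc2bb2b92b82ba2b82ba2b92ba2b92b82b62b52b72b52b72b62b72b62b52b32b22b42b22b42b32b42b32b22b02af2b12af2b12b02b12b02af2ad2ac2ae2ac2ae2ad2ae2ad2ac2aa2a92ab2a92ab2aa2ab2aa2a92a72a62a82a62a82a72a82a72a62a42a32a52a32a52a42a52a42a32a12a02a22a02a22a12a22a12a029e29d29f29d29f29e29f29e29d29b29a29c29a29c29b29c29b29a29829729929729929829929829729529429629429629529629529429229129329129329229329229128f28e29028e29028f29028f28e28c28b28d28b28d28c28d28c28b28928828a28828a28928a28928828628528728528728628728628528328228428228428328428328228027f28127f28128028128027f27d27c27e27c27e27d27e27d27c27a27927b27927b27a27b27a27927727627827627827727827727627427327527327527427527427327127027227027227127227127026e26d26f26d26f26e26f26e26d26b26a26c26a26c26b26c26b26a26826726926726926826926826726526426626426626526626526426226126326126326226326226125f25e26025e26025f26025f25e25c25b25d25b25d25c25d25c25b25925825a25825a25925a25925825625525725525725625725625525325225425225425325425325225024f25124f25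125025125024f24d24c24e24c24e24d24e24d24c24a24924b24924b24a24b24a24924724624824624824724824724624424324524324524424524424324124024224024224124224124023e23d23f23d23f23e23f23e23d23b23a23c23a23c23b23c23b23a23823723923723923823923823723523423623423623523623523423223123323123323223323223122f22e23022e23022f23022f22e22c22b22d22b22d22c22d22c22b22922822a22822a22922a22922822622522722522722622722622522322222422222422322422322222021f22121f22122022122021f21d21c21e21c21e21d21e21d21c21a21921b21921b21a21b21a21921721621821621821721821721621421321521321521421521421321121021221021221121221121020e20d20f20d20f20e20f20e20d20b20a20c20a20c20b20c20b20a2082072092072092082092082072052042062042062052062052042022012032012032022032022011ff1fe2001fe2001ff2001ff1fe1fc1fb1fd1fb1fd1fc1fd1fc1fb1f91f81fa1f81fa1f91fa1f91f81f61f51f71f51f71f61f71f61f51f31f21f41f21f41f31f41f31f21f01ef1f11ef1f11f01f11f01ef1ed1ec1ee1ec1ee1ed1ee1ed1ec1ea1e91eb1e91eb1ea1eb1ea1e91e71e61e81e61e81e71e81e71e61e41e31e51e31e51e41e51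e41e31e11e01e21e01e21e11e21e11e01de1dd1df1dd1df1de1df1de1dd1db1da1dc1da1dc1db1dc1db1da1d81d71d91d71d91d81d91d81d71d51d41d61d41d61d51d61d51d41d21d11d31d11d31d21d31d21d11cf1ce1d01ce1d01cf1d01cf1ce1cc1cb1cd1cb1cd1cc1cd1cc1cb1c91c81ca1c81ca1c91ca1c91c81c61c51c71c51c71c61c71c61c51c31c21c41c21c41c31c41c31c21c01bf1c11bf1c11c01c11c01bf1bd1bc1be1bc1be1bd1be1bd1bc1ba1b91bb1b91bb1ba1bb1ba1b91b71b61b81b61b81b71b81b71b61b41b31b51b31b51b41b51b41b31b11b01b21b01b21b11b21b11b01ae1ad1af1ad1af1ae1af1ae1ad1ab1aa1ac1aa1ac1ab1ac1ab1aa1a81a71a91a71a91a81a91a81a71a51a41a61a41a61a51a61a51a41a21a11a31a11a31a21a31a21a119f19e1a019e1a019f1a019f19e19c19b19d19b19d19c19d19c19b19919819a19819a19919a19919819619519719519719619719619519319219419219419319419319219018f19118f19119019119018f18d18c18e18c18e18d18e18d18c18a18918b18918b18a18b18a18918718618818618818718818718618418318518318518418518418318118018218018218118218118017e17d17f17d17f17e17f17e17d17b17a17c17a17c17b17c17b17a178177179177179178179178177175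17417617417617517617517417217117317117317217317217116f16e17016e17016f17016f16e16c16b16d16b16d16c16d16c16b16916816a16816a16916a16916816616516716516716616716616516316216416216416316416316216015f16115f16116016116015f15d15c15e15c15e15d15e15d15c15a15915b15915b15a15b15a15915715615815615815715815715615415315515315515415515415315115015215015215115215115014e14d14f14d14f14e14f14e14d14b14a14c14a14c14b14c14b14a14814714914714914814914814714514414614414614514614514414214114314114314214314214113f13e14013e14013f14013f13e13c13b13d13b13d13c13d13c13b13913813a13813a13913a13913813613513713513713613713613513313213413213413313413313213012f13112f13113013113012f12d12c12e12c12e12d12e12d12c12a12912b12912b12a12b12a12912712612812612812712812712612412312512312512412512412312112012212012212112212112011e11d11f11d11f11e11f11e11d11b11a11c11a11c11b11c11b11a11811711911711911811911811711511411611411611511611511411211111311111311211311211110f10e11010e11010f11010f10e10c10b10d10b10d10c10d10c10b10910810a10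810a10910a1091081061051071051071061071061051031021041021041031041031021000ff1010ff1011001011000ff0fd0fc0fe0fc0fe0fd0fe0fd0fc0fa0f90fb0f90fb0fa0fb0fa0f90f70f60f80f60f80f70f80f70f60f40f30f50f30f50f40f50f40f30f10f00f20f00f20f10f20f10f00ee0ed0ef0ed0ef0ee0ef0ee0ed0eb0ea0ec0ea0ec0eb0ec0eb0ea0e80e70e90e70e90e80e90e80e70e50e40e60e40e60e50e60e50e40e20e10e30e10e30e20e30e20e10df0de0e00de0e00df0e00df0de0dc0db0dd0db0dd0dc0dd0dc0db0d90d80da0d80da0d90da0d90d80d60d50d70d50d70d60d70d60d50d30d20d40d20d40d30d40d30d20d00cf0d10cf0d10d00d10d00cf0cd0cc0ce0cc0ce0cd0ce0cd0cc0ca0c90cb0c90cb0ca0cb0ca0c90c70c60c80c60c80c70c80c70c60c40c30c50c30c50c40c50c40c30c10c00c20c00c20c10c20c10c00be0bd0bf0bd0bf0be0bf0be0bd0bb0ba0bc0ba0bc0bb0bc0bb0ba0b80b70b90b70b90b80b90b80b70b50b40b60b40b60b50b60b50b40b20b10b30b10b30b20b30b20b10af0ae0b00ae0b00af0b00af0ae0ac0ab0ad0ab0ad0ac0ad0ac0ab0a90a80aa0a80aa0a90aa0a90a80a60a50a70a50a70a60a70a60a50a30a20a40a20a40a30a40a30a20a009f0a109f0a10a00a10a009f09d09c09e09c09e09d0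9e09d09c09a09909b09909b09a09b09a09909709609809609809709809709609409309509309509409509409309109009209009209109209109008e08d08f08d08f08e08f08e08d08b08a08c08a08c08b08c08b08a08808708908708908808908808708508408608408608508608508408208108308108308208308208107f07e08007e08007f08007f07e07c07b07d07b07d07c07d07c07b07907807a07807a07907a07907807607507707507707607707607507307207407207407307407307207006f07106f07107007107006f06d06c06e06c06e06d06e06d06c06a06906b06906b06a06b06a06906706606806606806706806706606406306506306506406506406306106006206006206106206106005e05d05f05d05f05e05f05e05d05b05a05c05a05c05b05c05b05a05805705905705905805905805705505405605405605505605505405205105305105305205305205104f04e05004e05004f05004f04e04c04b04d04b04d04c04d04c04b04904804a04804a04904a04904804604504704504704604704604504304204404204404304404304204003f04103f04104004104003f03d03c03e03c03e03d03e03d03c03a03903b03903b03a03b03a03903703603803603803703803703603403303503303503403503403303103003203003203103203103002e02d02f02d02f02e02f02e02d02b02a02c02a02c02b02c02b02a02802702902702902802902802702502402602402602502602502402202102302102302202302202101f01e02001e02001f02001f01e01c01b01d01b01d01c01d01c01b01901801a01801a01901a01901801601501701501701601701601501301201401201401301401301201000f01100f01101001101000f00d00c00e00c00e00d00e00d00c00a00900b00900b00a00b00a009007006008006008007008007006004003005003005004005004003001000002000002001002001000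

private theorem tabs {p : ℕ} (hp : p < 1134) : en tID p = p ∧ en tS1 p = sh p ∧ en tS2 p = sh (sh p) ∧
    sh (sh (sh p)) = p ∧ sh p < 1134 ∧ en3 tTR p = p + 4096 * (sh p + 4096 * sh (sh p)) ∧ (p % 3 = 2 ∨ sh p = p + 1) := by
  have h : allL (fun p => Nat.beq (en tID p) p && Nat.beq (en tS1 p) (sh p) && Nat.beq (en tS2 p) (sh (sh p)) &&
      Nat.beq (sh (sh (sh p))) p && Nat.blt (sh p) 1134 &&
      Nat.beq (en3 tTR p) (p + 4096 * (sh p + 4096 * sh (sh p))) && (Nat.beq (p % 3) 2 || Nat.beq (sh p) (p + 1)))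
      (List.range 1134) = true := by decide +kernel
  have h1 := allL_spec h p (List.mem_range.2 hp)
  simpa only [Bool.and_eq_true, Bool.or_eq_true, Nat.beq_eq, Nat.blt_eq, and_assoc] using h1

/-- the table of an element from the values at the first points of the blocks -/
private noncomputable def bldB (f : ℕ → ℕ) : ℕ := bld3 (fun k => en3 tTR (f (Nat.mul 3 k))) 378 0

private theorem Fn.bldB {g : Trip} {f : ℕ → ℕ} (h : Fn g f) : Fn g (en (bldB f)) := fun p => by
  have h0 : ∀ q < 1134, f q < 1134 := fun q hq => h ⟨q, hq⟩ ▸ Fin.is_lt _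
  have h1 : ∀ q < 1134, f (sh q) = sh (f q) := fun q hq =>
    (Fn.mul h zz_val ⟨q, hq⟩).symm.trans ((zz_comm g).eq ▸ Fn.mul zz_val h ⟨q, hq⟩)
  have h2 : ∀ k < 378, en3 tTR (f (Nat.mul 3 k)) = f (3 * k) + 4096 * (sh (f (3 * k)) + 4096 * sh (sh (f (3 * k)))) :=
    fun k hk => (tabs (h0 (3 * k) (by omega))).2.2.2.2.2.1
  have h3 : ∀ k < 378, f (3 * k) < 1134 ∧ sh (f (3 * k)) < 1134 ∧ sh (sh (f (3 * k))) < 1134 := fun k hk =>
    have e := h0 (3 * k) (by omega)
    ⟨e, (tabs e).2.2.2.2.1, (tabs (tabs e).2.2.2.2.1).2.2.2.2.1⟩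
  obtain ⟨p, hp⟩ := p
  rw [h]
  show f p = en (O.bldB f) p
  obtain ⟨k, hk, h4⟩ : ∃ k < 378, p = 3 * k ∨ p = 3 * k + 1 ∨ p = 3 * k + 2 := ⟨p / 3, by omega, by omega⟩
  have h5 := en_en3 (O.bldB f) k
  have h6 := h3 k hk
  rw [show en3 (O.bldB f) k = _ from (en3_bld3 (fun i hi => by
    have := h3 i hi
    rw [h2 i hi]
    omega) 0 k).trans ((if_pos hk).trans (h2 k hk))] at h5
  have h7 : sh (3 * k) = 3 * k + 1 := (tabs (by omega)).2.2.2.2.2.2.resolve_left (by omega)
  have h8 : sh (3 * k + 1) = 3 * k + 2 := (tabs (by omega)).2.2.2.2.2.2.resolve_left (by omega)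
  have h9 := h1 (3 * k) (by omega)
  have h10 := h1 (3 * k + 1) (by omega)
  rw [h7] at h9
  rw [h8, h9] at h10
  rcases h4 with rfl | rfl | rfl <;> omega

private def ones : ℕ → ℕ
  | 0 => 0
  | n + 1 => 1 + 4096 * ones n

private theorem land_dig {a c : ℕ} (b d : ℕ) (ha : a < 4096) (hc : c < 4096) :
    (a + 4096 * b) &&& (c + 4096 * d) = (a &&& c) + 4096 * (b &&& d) := by
  have h1 := Nat.and_mod_two_pow (a := a + 4096 * b) (b := c + 4096 * d) (n := 12)
  have h2 := Nat.and_div_two_pow (a := a + 4096 * b) (b := c + 4096 * d) (n := 12)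
  rw [show 2 ^ 12 = 4096 from rfl] at h1 h2
  rw [show (a + 4096 * b) % 4096 = a by omega, show (c + 4096 * d) % 4096 = c by omega] at h1
  rw [show (a + 4096 * b) / 4096 = b by omega, show (c + 4096 * d) / 4096 = d by omega] at h2
  omega

private theorem simd : ∀ (n X : ℕ), (∀ i < n, en X i < 2048) →
    ∃ Y, (X + 2047 * ones n) &&& (2048 * ones n) = 2048 * Y ∧
      (Y + ∑ i ∈ Finset.range n, if en X i = 0 then 1 else 0) % 4095 = n % 4095
  | 0, _, _ => ⟨0, Nat.and_zero _, rfl⟩
  | n + 1, X, h => by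
    have h1 : ∀ i, en X (i + 1) = en (X / 4096) i := fun i => by
      rw [en_eq, en_eq, pow_succ', Nat.div_div_eq_div_mul]
    have h2 : en X 0 = X % 4096 := by rw [en_eq, pow_zero, Nat.div_one]
    obtain ⟨Y, h3, h4⟩ := simd n (X / 4096) fun i hi => h1 i ▸ h _ (Nat.succ_lt_succ hi)
    have h5 := h2 ▸ h 0 n.succ_pos
    have h6 := land_dig (a := X % 4096 + 2047) (c := 2048) (X / 4096 + 2047 * ones n) (2048 * ones n) (by omega) (by omega)
    have h7 := Nat.and_two_pow (X % 4096 + 2047) 11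
    rw [Nat.testBit_eq_decide_div_mod_eq, show 2 ^ 11 = 2048 from rfl] at h7
    rw [h3, h7] at h6
    rw [Finset.sum_range_succ', h2, show ones (n + 1) = 1 + 4096 * ones n from rfl,
      show X + 2047 * (1 + 4096 * ones n) = X % 4096 + 2047 + 4096 * (X / 4096 + 2047 * ones n) by omega,
      show 2048 * (1 + 4096 * ones n) = 2048 + 4096 * (2048 * ones n) by omega, h6]
    simp only [h1]
    by_cases e : X % 4096 = 0
    · rw [if_pos e, decide_eq_false (by omega)]
      exact ⟨4096 * Y, by rw [Bool.toNat_false]; omega, by omega⟩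
    · rw [if_neg e, decide_eq_true (by omega)]
      exact ⟨1 + 4096 * Y, by rw [Bool.toNat_true]; omega, by omega⟩

/-- the number of the places where two tables agree -/
private noncomputable def zc (G H : ℕ) : ℕ :=
  Nat.sub 1134 (Nat.mod (Nat.div (Nat.land (Nat.add (Nat.xor G H) (Nat.mul 2047 tONE)) (Nat.mul 2048 tONE)) 2048) 4095)

private theorem zc_eq {G H : ℕ} {f : ℕ → Bool} (h : ∀ p < 1134, en G p < 1134 ∧ en H p < 1134 ∧
    (f p = true ↔ en G p = en H p)) : zc G H = cnt f 1134 0 := by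
  have h1 : ∀ p, en (G ^^^ H) p = en G p ^^^ en H p := fun p =>
    (congrArg (· &&& 4095) (Nat.shiftRight_xor_distrib (a := G) (b := H) (i := 12 * p))).trans Nat.and_xor_distrib_right
  obtain ⟨Y, h2, h3⟩ := simd 1134 (G ^^^ H) fun p hp => by
    rw [h1]
    exact Nat.xor_lt_two_pow (n := 11) ((h p hp).1.trans (by decide)) ((h p hp).2.1.trans (by decide))
  have h4 : (∑ i ∈ Finset.range 1134, if en (G ^^^ H) i = 0 then 1 else 0) =
      ∑ i ∈ Finset.range 1134, if f i = true then 1 else 0 := Finset.sum_congr rfl fun p hp =>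
    if_congr (by rw [h1, Nat.xor_eq_zero_iff, (h p (Finset.mem_range.1 hp)).2.2]) rfl rfl
  have h5 : (∑ i ∈ Finset.range 1134, if f i = true then 1 else 0) ≤ 1134 := by
    rw [← Finset.card_filter]
    exact (Finset.card_filter_le _ _).trans_eq (Finset.card_range _)
  rw [show ones 1134 = tONE by decide +kernel] at h2
  rw [h4] at h3
  rw [cnt_eq, show zc G H = 1134 - ((G ^^^ H) + 2047 * tONE &&& 2048 * tONE) / 2048 % 4095 from rfl, h2]
  omega

/-- the three numbers -/
noncomputable def tri {α : Type} (G : ℕ) (k : ℕ → ℕ → ℕ → α) : α :=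
  frc (zc G tID) fun a => frc (zc G tS2) fun b => frc (zc G tS1) fun c => k a b c

theorem tri_eq {α : Type} {g : Trip} {G : ℕ} (h : Fn g (en G)) (k : ℕ → ℕ → ℕ → α) :
    tri G k = k (fx g) (fx (zz * g)) (fx (zz * (zz * g))) := by
  have h0 : ∀ q < 1134, en G q < 1134 := fun q hq => h ⟨q, hq⟩ ▸ Fin.is_lt _
  rw [tri, frc_eq, frc_eq, frc_eq, h.fx, (Fn.mul zz_val h).fx, (Fn.mul zz_val (Fn.mul zz_val h)).fx]
  refine congr (congr (congrArg k (zc_eq fun p hp => ?_)) (zc_eq fun p hp => ?_)) (zc_eq fun p hp => ?_)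
  all_goals
    obtain ⟨h1, h2, h3, h4, h5, -⟩ := tabs hp
    have h6 := (tabs (h0 p hp)).2.2.2.1
    refine ⟨h0 p hp, by first | (rw [h1]; exact hp) | (rw [h3]; exact (tabs h5).2.2.2.2.1) | (rw [h2]; exact h5), ?_⟩
    rw [Nat.beq_eq]
  · rw [h1]
  · rw [h3]
    exact ⟨fun e => h6.symm.trans (congrArg (fun x => sh (sh x)) e), fun e => by rw [e, h4]⟩
  · rw [h2]
    exact ⟨fun e => h6.symm.trans (congrArg sh e), fun e => by rw [e, h4]⟩

/-- an exponent, the table and the three numbers -/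
structure En where
  (d G a b c : ℕ)

/-- correctness -/
def En.Ok (g : Trip) (e : En) : Prop :=
  Fn (g ^ e.d) (en e.G) ∧ fx (g ^ e.d) = e.a ∧ fx (zz * g ^ e.d) = e.b ∧ fx (zz * (zz * g ^ e.d)) = e.c

/-- a new entry -/
noncomputable def new (d : ℕ) (f : ℕ → ℕ) (k : En → Bool) : Bool :=
  frc d fun d => H123.Cls.fB (bldB f) fun G => tri G fun a b c => k ⟨d, G, a, b, c⟩

theorem new_spec {g : Trip} {d : ℕ} {f : ℕ → ℕ} (h : Fn (g ^ d) f) {k : En → Bool} (hk : new d f k = true) :
    ∃ e, e.Ok g ∧ k e = true := by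
  rw [new, frc_eq, fB_eq, tri_eq (Fn.bldB h)] at hk
  exact ⟨_, ⟨Fn.bldB h, rfl, rfl, rfl⟩, hk⟩

/-- the `m`-th power of a function -/
noncomputable def itr (G m p : ℕ) : ℕ := Nat.rec p (fun _ r => en G r) m

theorem Fn.itr {g : Trip} {G : ℕ} (h : Fn g (en G)) : ∀ m, Fn (g ^ m) (itr G m)
  | 0 => fun _ => rfl
  | m + 1 => fun p => by
    rw [pow_succ']
    exact h.mul (h.itr m) p

/-- a chain of powers : the index of an entry and the exponent -/
noncomputable def chain (ch : List (ℕ × ℕ)) (k : List En → Bool) : List En → Bool :=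
  List.rec k (fun c _ ih l => En.rec (fun d G _ _ _ => new (Nat.mul d c.2) (itr G c.2) fun e => ih (e :: l))
    (ntd l (l.headD ⟨0, 0, 0, 0, 0⟩) c.1)) ch

theorem chain_spec {g : Trip} {k : List En → Bool} : ∀ (ch : List (ℕ × ℕ)) {a : En} {l : List En},
    (∀ e ∈ a :: l, e.Ok g) → chain ch k (a :: l) = true → ∃ l, (∀ e ∈ l, e.Ok g) ∧ k l = true
  | [], _, _, h, hk => ⟨_, h, hk⟩
  | c :: ch, a, l, h, hk => by
    have h1 : (ntd (a :: l) a c.1).Ok g := (ntd_mem (a :: l) a c.1).elim (fun e => e.symm ▸ h a List.mem_cons_self) (h _)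
    have h2 := h1.1.itr c.2
    rw [← pow_mul] at h2
    obtain ⟨e, h3, h4⟩ := new_spec (k := fun e => chain ch k (e :: a :: l)) h2 hk
    exact chain_spec ch (List.forall_mem_cons.2 ⟨h3, h⟩) h4

/-- one value of the key -/
noncomputable def okE (j d : ℕ) (v : ℕ × ℕ) (e : En) : Bool :=
  Nat.beq e.d d && Nat.beq (e.a + e.b + e.c) v.2 && Nat.beq (ntd [e.a, e.b] e.c (j * d % 3)) v.1

theorem okE_spec {g : Trip} {j d : ℕ} {v : ℕ × ℕ} {e : En} (h : e.Ok g) (hk : okE j d v e = true) :
    key.P ((zz ^ j * g) ^ d) v := by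
  simp only [okE, Bool.and_eq_true, Nat.beq_eq] at hk
  obtain ⟨⟨rfl, h1⟩, h2⟩ := hk
  obtain ⟨-, h3, h4, h5⟩ := h
  have h6 : ∀ x, zz * (zz * (zz * x)) = x := fun x => by
    rw [← mul_assoc, ← mul_assoc, ← pow_three', zz_cube, one_mul]
  show (fx _, fb _) = (v.1, v.2)
  rw [((zz_comm g).pow_left j).mul_pow, ← pow_mul, pow_eq_pow_mod _ zz_cube, ← h1, ← h2, ← h3, ← h4, ← h5]
  rcases (by omega : j * e.d % 3 = 0 ∨ j * e.d % 3 = 1 ∨ j * e.d % 3 = 2) with e | e | e <;> rw [e]
  · rw [pow_zero, one_mul]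
    rfl
  · rw [pow_one, fb, h6, ← add_rotate]
    rfl
  · rw [pow_two, mul_assoc, fb, h6, add_rotate]
    rfl

/-- a word, the types of its three preimages and the chain -/
structure Rp where
  w : List (Fin 8)
  t : List ℕ
  ch : List (ℕ × ℕ)

variable (D : Dat) (val : ℕ → ℕ × ℕ)

/-- the check of the types -/
noncomputable def okT (r : Rp) : Bool :=
  new 1 (wd r.w) fun e => chain r.ch (fun l => allL (fun j => Nat.blt (r.t.getD j 0) D.n &&
    allL (fun p => l.any (okE j p.1 (val p.2))) (D.pw (r.t.getD j 0))) [0, 1, 2]) [e]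

/-- the orders can be read off -/
def OkO : Prop := ∀ i < D.n, 0 < D.ord i ∧ ∀ m ≤ D.ord i, m ∣ D.ord i →
  ∃ p ∈ D.pw i, p.1 = m ∧ ((val p.2).1 = 1134 ↔ m = D.ord i)

variable {D val}

theorem okT_spec (hO : OkO D val) {r : Rp} (h : okT D val r = true) {j : ℕ} (hj : j < 3) :
    Ty key D val (r.t.getD j 0) (zz ^ j * ev y8 r.w) := by
  obtain ⟨e, h1, h2⟩ := new_spec (g := ev y8 r.w) (by rw [pow_one]; exact fn_wd _) h
  obtain ⟨l, h3, h4⟩ := chain_spec _ (List.forall_mem_singleton.2 h1) h2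
  have h5 := allL_spec h4 j (by simp only [List.mem_cons]; omega)
  rw [Bool.and_eq_true, Nat.blt_eq] at h5
  have h6 : ∀ p ∈ D.pw (r.t.getD j 0), key.P ((zz ^ j * ev y8 r.w) ^ p.1) (val p.2) := fun p hp => by
    obtain ⟨e, h6, h7⟩ := List.any_eq_true.1 (allL_spec h5.2 p hp)
    exact okE_spec (h3 e h6) h7
  obtain ⟨h7, h8⟩ := hO _ h5.1
  have h9 : orderOf (zz ^ j * ev y8 r.w) ∣ D.ord (r.t.getD j 0) := by
    obtain ⟨p, h9, h10, h11⟩ := h8 _ le_rfl dvd_rfl
    exact orderOf_dvd_of_pow_eq_one (h10 ▸ fx_one.1 ((congrArg Prod.fst (h6 p h9)).trans (h11.2 rfl)))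
  obtain ⟨p, h10, h11, h12⟩ := h8 _ (Nat.le_of_dvd h7 h9) h9
  exact ⟨h12.1 ((congrArg Prod.fst (h6 p h10)).symm.trans (fx_one.2 (h11 ▸ pow_orderOf_eq_one _))), h6⟩

/-- **the box of a type from a family of words** -/
theorem box_of (hO : OkO D val) {rs : List Rp} (h : ∀ r ∈ rs, okT D val r = true) {m : ℕ} (hb : Big (rs.map Rp.w) m)
    {t k : ℕ} (hk : ∀ r ∈ rs, k ≤ ((Finset.range 3).filter fun j => r.t.getD j 0 = t).card) (hc : D.cnt t ≤ k * m) :
    TAB.Eng.Box key D val t := by
  classical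
  have := S7.O7.fin8
  have := Fintype.ofFinite Trip
  have := Fintype.ofFinite H8
  refine hc.trans ((Nat.mul_le_mul_left k hb).trans ?_)
  rw [Set.ncard_eq_toFinset_card', Nat.card_eq_fintype_card, Fintype.card_subtype]
  refine (Finset.mul_card_image_le_card_of_maps_to (f := pi) (s := Finset.univ.filter fun x =>
    Ty key D val t x ∧ ∃ w ∈ rs.map Rp.w, IsConj (ev x8 w) (pi x)) (fun x hx => ?_) k fun g hg => ?_).trans
    (Finset.card_le_card fun x hx => Finset.mem_filter.2 ⟨Finset.mem_univ _, (Finset.mem_filter.1 hx).2.1⟩)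
  · exact Set.mem_toFinset.2 (Finset.mem_filter.1 hx).2.2
  obtain ⟨w, h1, h2⟩ := Set.mem_toFinset.1 hg
  obtain ⟨r, hr, rfl⟩ := List.mem_map.1 h1
  obtain ⟨c, h3⟩ := isConj_iff.1 h2
  obtain ⟨c, rfl⟩ := ext_pi.surj c
  refine (hk r hr).trans (Finset.card_le_card_of_injOn (fun j => c * (zz ^ j * ev y8 r.w) * c⁻¹) (fun j hj => ?_)
    fun i hi j hj e => ?_)
  · obtain ⟨h4, h5⟩ := Finset.mem_filter.1 hj
    have h6 : pi (c * (zz ^ j * ev y8 r.w) * c⁻¹) = g := by
      rw [map_mul, map_mul, map_mul, map_pow, map_inv, pi_zz, one_pow, one_mul, pi_ev, h3]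
    exact Finset.mem_filter.2 ⟨Finset.mem_filter.2 ⟨Finset.mem_univ _,
      (h5 ▸ okT_spec hO (h r hr) (Finset.mem_range.1 h4)).conj c, _, h1, h6 ▸ h2⟩, h6⟩
  · exact pow_injOn_Iio_orderOf (zz_ord ▸ Finset.mem_range.1 (Finset.mem_filter.1 hi).1)
      (zz_ord ▸ Finset.mem_range.1 (Finset.mem_filter.1 hj).1) (mul_right_cancel (mul_left_cancel (mul_right_cancel e)))

end Cfsg.Agent.MK.C3L.O

private theorem dce_fd17ff7d7a30 : _root_.True := by
  try have : _root_.True := by simp only [_root_.Cfsg.Agent.MK.C3L.O.okE.eq_1]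
  try have : _root_.True := by simp only [_root_.Cfsg.Agent.MK.C3L.O.new.eq_1]
  try have : _root_.True := by simp only [_root_.Cfsg.Agent.MK.C3L.O.zz.eq_1]
  try have : _root_.True := by simp only [_root_.Cfsg.Agent.MK.C3L.O.tri.eq_1]
  try have : _root_.True := by simp only [_root_.Cfsg.Agent.MK.C3L.O.en.eq_1]
  try have : _root_.True := by simp only [_root_.Cfsg.Agent.MK.C3L.O.fb.eq_1]
  try have : _root_.True := by simp only [_root_.Cfsg.Agent.MK.C3L.O.fx.eq_1]
  exact _root_.True.intro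
end

-- part: MK/C3L/OFam
section
set_option linter.all false

/-!
# The types of the elements of `3.Ω₇(3)` (helper94; generated by notes/MK/o7)
-/

set_option autoImplicit false
set_option maxRecDepth 100000

namespace Cfsg.Agent.MK.C3L.O

open Cfsg Cfsg.Agent.TAB.Eng Cfsg.Agent.H64.O73Perm

/-- the data -/
def dat : Dat where
  n := 81
  N := 13756055040
  ordL := [1, 2, 2, 2, 3, 3, 3, 3, 3, 3, 3, 4, 4, 4, 4, 5, 6, 6, 6, 6, 6, 6, 6, 6, 6, 6, 6, 6, 6, 6, 6, 6, 6, 6, 6,
    6, 6, 6, 7, 8, 8, 9, 9, 9, 9, 10, 10, 12, 12, 12, 12, 12, 12, 12, 12, 12, 12, 12, 12, 12, 12, 12, 13, 14,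
    15, 15, 15, 18, 18, 18, 18, 18, 20, 21, 24, 24, 30, 30, 39, 42, 60]
  cntL := [1, 351, 22113, 331695, 2, 21840, 26208, 52416, 98280, 6289920, 9434880, 1592136, 3980340, 11941020,
    23882040, 38211264, 702, 44226, 196560, 393120, 663390, 1179360, 1769040, 2358720, 3538080, 3538080,
    5307120, 7960680, 10614240, 10614240, 10614240, 15921360, 21228480, 21228480, 31842720, 42456960,
    254741760, 382112640, 327525120, 286584480, 286584480, 14152320, 28304640, 84913920, 1018967040,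
    114633792, 229267584, 3184272, 7960680, 23882040, 47764080, 63685440, 63685440, 95528160, 95528160,
    95528160, 127370880, 127370880, 191056320, 191056320, 382112640, 764225280, 705438720, 327525120,
    76422528, 305690112, 611380224, 84913920, 127370880, 169827840, 254741760, 254741760, 229267584,
    655050240, 573168960, 573168960, 229267584, 458535168, 1410877440, 655050240, 458535168]
  pwL := [[(1, 0)], [(1, 1), (2, 0)], [(1, 2), (2, 0)], [(1, 3), (2, 0)], [(1, 4), (3, 0)], [(1, 5), (3, 0)], [(1,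
    6), (3, 0)], [(1, 7), (3, 0)], [(1, 8), (3, 0)], [(1, 9), (3, 0)], [(1, 10), (3, 0)], [(1, 11), (2, 2),
    (4, 0)], [(1, 12), (2, 3), (4, 0)], [(1, 13), (2, 3), (4, 0)], [(1, 14), (2, 2), (4, 0)], [(1, 15), (5,
    0)], [(1, 16), (2, 4), (3, 1), (6, 0)], [(1, 17), (2, 4), (3, 2), (6, 0)], [(1, 18), (2, 5), (3, 1), (6,
    0)], [(1, 19), (2, 5), (3, 1), (6, 0)], [(1, 20), (2, 4), (3, 3), (6, 0)], [(1, 21), (2, 6), (3, 1), (6,
    0)], [(1, 22), (2, 5), (3, 2), (6, 0)], [(1, 23), (2, 7), (3, 1), (6, 0)], [(1, 24), (2, 5), (3, 2), (6,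
    0)], [(1, 25), (2, 8), (3, 1), (6, 0)], [(1, 26), (2, 8), (3, 2), (6, 0)], [(1, 27), (2, 8), (3, 3), (6,
    0)], [(1, 28), (2, 6), (3, 2), (6, 0)], [(1, 29), (2, 8), (3, 2), (6, 0)], [(1, 30), (2, 6), (3, 3), (6,
    0)], [(1, 31), (2, 5), (3, 3), (6, 0)], [(1, 32), (2, 7), (3, 2), (6, 0)], [(1, 33), (2, 7), (3, 3), (6,
    0)], [(1, 34), (2, 8), (3, 3), (6, 0)], [(1, 35), (2, 9), (3, 1), (6, 0)], [(1, 36), (2, 10), (3, 3), (6,
    0)], [(1, 37), (2, 9), (3, 3), (6, 0)], [(1, 38), (7, 0)], [(1, 39), (2, 13), (4, 3), (8, 0)], [(1, 40),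
    (2, 12), (4, 3), (8, 0)], [(1, 41), (3, 5), (9, 0)], [(1, 42), (3, 5), (9, 0)], [(1, 43), (3, 5), (9,
    0)], [(1, 44), (3, 9), (9, 0)], [(1, 45), (2, 15), (5, 2), (10, 0)], [(1, 46), (2, 15), (5, 1), (10, 0)],
    [(1, 47), (2, 17), (3, 11), (4, 4), (6, 2), (12, 0)], [(1, 48), (2, 20), (3, 12), (4, 4), (6, 3), (12,
    0)], [(1, 49), (2, 20), (3, 13), (4, 4), (6, 3), (12, 0)], [(1, 50), (2, 17), (3, 14), (4, 4), (6, 2),
    (12, 0)], [(1, 51), (2, 26), (3, 11), (4, 8), (6, 2), (12, 0)], [(1, 52), (2, 28), (3, 11), (4, 6), (6,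
    2), (12, 0)], [(1, 53), (2, 31), (3, 13), (4, 5), (6, 3), (12, 0)], [(1, 54), (2, 27), (3, 12), (4, 8),
    (6, 3), (12, 0)], [(1, 55), (2, 31), (3, 12), (4, 5), (6, 3), (12, 0)], [(1, 56), (2, 29), (3, 11), (4,
    8), (6, 2), (12, 0)], [(1, 57), (2, 32), (3, 11), (4, 7), (6, 2), (12, 0)], [(1, 58), (2, 31), (3, 13),
    (4, 5), (6, 3), (12, 0)], [(1, 59), (2, 28), (3, 14), (4, 6), (6, 2), (12, 0)], [(1, 60), (2, 32), (3,
    14), (4, 7), (6, 2), (12, 0)], [(1, 61), (2, 37), (3, 12), (4, 9), (6, 3), (12, 0)], [(1, 62), (13, 0)],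
    [(1, 63), (2, 38), (7, 1), (14, 0)], [(1, 64), (3, 15), (5, 4), (15, 0)], [(1, 65), (3, 15), (5, 6), (15,
    0)], [(1, 66), (3, 15), (5, 7), (15, 0)], [(1, 67), (2, 41), (3, 19), (6, 5), (9, 1), (18, 0)], [(1, 68),
    (2, 41), (3, 22), (6, 5), (9, 2), (18, 0)], [(1, 69), (2, 42), (3, 19), (6, 5), (9, 1), (18, 0)], [(1,
    70), (2, 42), (3, 22), (6, 5), (9, 2), (18, 0)], [(1, 71), (2, 43), (3, 18), (6, 5), (9, 1), (18, 0)],
    [(1, 72), (2, 45), (4, 15), (5, 11), (10, 2), (20, 0)], [(1, 73), (3, 38), (7, 4), (21, 0)], [(1, 74),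
    (2, 49), (3, 39), (4, 20), (6, 13), (8, 4), (12, 3), (24, 0)], [(1, 75), (2, 48), (3, 40), (4, 20), (6,
    12), (8, 4), (12, 3), (24, 0)], [(1, 76), (2, 64), (3, 45), (5, 17), (6, 15), (10, 4), (15, 2), (30, 0)],
    [(1, 77), (2, 64), (3, 46), (5, 16), (6, 15), (10, 4), (15, 1), (30, 0)], [(1, 78), (3, 62), (13, 4),
    (39, 0)], [(1, 79), (2, 73), (3, 63), (6, 38), (7, 16), (14, 4), (21, 1), (42, 0)], [(1, 80), (2, 76),
    (3, 72), (4, 64), (5, 47), (6, 45), (10, 17), (12, 15), (15, 11), (20, 4), (30, 2), (60, 0)]]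

/-- the values of the key -/
def valL : List (ℕ × ℕ) :=
  [(1134, 1134), (378, 378), (114, 114), (54, 54), (0, 1134), (54, 162), (135, 135), (0, 135), (36, 108), (0,
  0), (9, 27), (48, 48), (18, 18), (6, 6), (12, 12), (9, 9), (0, 378), (0, 114), (54, 54), (0, 54), (0, 54),
  (27, 27), (6, 6), (0, 27), (0, 6), (18, 54), (24, 24), (12, 36), (15, 15), (0, 24), (27, 27), (6, 18), (0,
  15), (0, 27), (6, 18), (0, 0), (3, 9), (0, 0), (0, 0), (0, 0), (6, 6), (18, 18), (0, 18), (3, 9), (0, 0),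
  (9, 9), (3, 3), (0, 48), (0, 18), (0, 6), (0, 12), (12, 12), (3, 3), (6, 6), (0, 0), (6, 18), (0, 12), (0,
  3), (0, 6), (3, 3), (0, 3), (0, 0), (3, 3), (0, 0), (0, 9), (0, 0), (0, 0), (0, 0), (6, 6), (0, 0), (0, 6),
  (3, 9), (3, 3), (0, 0), (0, 0), (0, 6), (0, 9), (0, 3), (0, 3), (0, 0), (0, 3)]

/-- the values of the key -/
def val (t : ℕ) : ℕ × ℕ := valL.getD t (0, 0)

/-- the families -/
def fam : List (List Rp × ℕ) :=
  [([⟨[], [0, 4, 4], [(0, 3)]⟩], 1), ([⟨[0, 1, 5, 7, 4], [35, 35, 35], [(0, 2), (1, 3), (0, 2)]⟩], 14152320),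
  ([⟨[7], [1, 16, 16], [(0, 2), (1, 3), (0, 2)]⟩], 351), ([⟨[3, 2, 4, 5, 6, 1, 2, 6], [39, 74, 74], [(0, 2),
  (1, 3), (1, 2), (1, 2), (1, 2), (1, 2), (0, 2)]⟩], 286584480), ([⟨[2, 5, 1, 6, 2, 1, 3], [13, 49, 49], [(0,
  2), (1, 3), (1, 2), (1, 2), (0, 2)]⟩], 11941020), ([⟨[6, 0, 3], [3, 20, 20], [(0, 2), (1, 3), (0, 2)]⟩],
  331695), ([⟨[2, 6, 0, 5, 1, 4, 2, 3, 7, 6], [80, 80, 72], [(0, 2), (1, 3), (1, 2), (3, 5), (2, 2), (1, 2),
  (1, 2), (3, 3), (2, 2), (1, 2), (0, 2)]⟩], 229267584), ([⟨[2, 5, 6, 3, 7, 0], [45, 76, 76], [(0, 2), (1,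
  3), (2, 5), (1, 2), (1, 2), (2, 3), (0, 2)]⟩], 114633792), ([⟨[1, 7, 6, 2], [15, 64, 64], [(0, 3), (1, 5),
  (0, 3)]⟩], 38211264), ([⟨[0, 1, 2], [11, 47, 47], [(0, 2), (1, 3), (1, 2), (1, 2), (0, 2)]⟩], 1592136),
  ([⟨[4, 0], [2, 17, 17], [(0, 2), (1, 3), (0, 2)]⟩], 22113), ([⟨[6, 3, 2, 3, 1, 2], [12, 48, 48], [(0, 2),
  (1, 3), (1, 2), (1, 2), (0, 2)]⟩], 3980340), ([⟨[7, 2, 5, 1, 6, 4], [65, 66, 66], [(0, 3), (1, 5), (0,
  3)]⟩], 305690112), ([⟨[1, 0], [6, 7, 7], [(0, 3)]⟩], 26208), ([⟨[4, 2, 5, 3, 7], [46, 77, 77], [(0, 2), (1,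
  3), (2, 5), (1, 2), (1, 2), (2, 3), (0, 2)]⟩], 229267584), ([⟨[2, 3, 5, 4, 0, 1], [38, 73, 73], [(0, 3),
  (1, 7), (0, 3)]⟩], 327525120), ([⟨[7, 1, 2, 3, 6], [40, 75, 75], [(0, 2), (1, 3), (1, 2), (1, 2), (1, 2),
  (1, 2), (0, 2)]⟩], 286584480), ([⟨[7, 2, 5, 3, 0, 6, 1], [53, 58, 58], [(0, 2), (1, 3), (1, 2), (1, 2), (0,
  2)]⟩], 95528160), ([⟨[0, 6, 7, 1, 3, 2, 0, 6, 7, 1, 3, 2], [31, 31, 31], [(0, 2), (1, 3), (0, 2)]⟩],
  5307120), ([⟨[0, 6, 7, 1, 3, 2, 0, 6, 7, 1, 3, 2, 0, 6, 7, 1, 3, 2, 0, 6, 7, 1, 3, 2], [5, 5, 5], [(0,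
  3)]⟩], 7280), ([⟨[3, 6, 0, 5, 4, 7], [59, 60, 60], [(0, 2), (1, 3), (1, 2), (1, 2), (0, 2)]⟩], 191056320),
  ([⟨[5, 3, 7, 2], [28, 32, 32], [(0, 2), (1, 3), (0, 2)]⟩], 10614240), ([⟨[4, 7, 3, 5], [14, 50, 50], [(0,
  2), (1, 3), (1, 2), (1, 2), (0, 2)]⟩], 23882040), ([⟨[6, 4, 0, 1, 2, 3, 6, 7, 1, 2, 6, 4, 0, 1, 2, 3, 6, 7,
  1, 2], [41, 42, 42], [(0, 3), (0, 3)]⟩], 14152320), ([⟨[1, 6, 7, 0, 2, 3, 4, 1, 6, 7, 0, 2, 3, 4, 1, 6, 7,
  0, 2, 3, 4], [18, 19, 19], [(0, 2), (1, 3), (0, 2)]⟩], 196560), ([⟨[5, 4, 1, 7, 0, 3, 2], [63, 79, 79],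
  [(0, 2), (1, 3), (0, 2), (3, 7), (0, 2), (1, 3), (0, 2)]⟩], 327525120), ([⟨[6, 4, 0, 1, 2, 3, 6, 7, 1, 2],
  [68, 70, 70], [(0, 2), (1, 3), (0, 2), (1, 3), (0, 2)]⟩], 127370880), ([⟨[2, 7, 0, 1, 2, 6, 3, 0, 2, 7, 3,
  1, 2, 5, 6], [22, 24, 24], [(0, 2), (1, 3), (0, 2)]⟩], 1769040), ([⟨[1, 6, 7, 0, 2, 3, 4], [71, 71, 71],
  [(0, 2), (1, 3), (0, 2), (1, 3), (0, 2)]⟩], 84913920), ([⟨[6, 1, 0, 2, 6, 3, 2, 7], [43, 43, 43], [(0, 3),
  (0, 3)]⟩], 28304640), ([⟨[3, 4, 6], [21, 23, 23], [(0, 2), (1, 3), (0, 2)]⟩], 1179360), ([⟨[7, 6, 5, 4, 1,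
  0, 3], [51, 56, 56], [(0, 2), (1, 3), (1, 2), (1, 2), (0, 2)]⟩], 63685440), ([⟨[6, 3, 7, 0, 5, 1], [26, 29,
  29], [(0, 2), (1, 3), (0, 2)]⟩], 5307120), ([⟨[6, 1, 7, 0], [8, 8, 8], [(0, 3)]⟩], 32760), ([⟨[1, 2, 5, 6,
  4], [52, 57, 57], [(0, 2), (1, 3), (1, 2), (1, 2), (0, 2)]⟩], 63685440), ([⟨[1, 4, 2, 0, 7, 5, 6], [36, 36,
  36], [(0, 2), (1, 3), (0, 2)]⟩], 84913920), ([⟨[6, 0, 1, 5, 4, 7], [10, 10, 10], [(0, 3)]⟩], 3144960),
  ([⟨[2, 3, 1, 0, 4, 1, 5, 6, 2, 7, 1, 3, 6], [54, 54, 54], [(0, 2), (1, 3), (1, 2), (1, 2), (0, 2)]⟩],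
  31842720), ([⟨[0, 6, 1, 7, 2], [27, 27, 27], [(0, 2), (1, 3), (0, 2)]⟩], 2653560), ([⟨[0, 6, 7, 1, 3, 2],
  [55, 55, 55], [(0, 2), (1, 3), (1, 2), (1, 2), (0, 2)]⟩], 31842720), ([⟨[1, 6, 2, 3], [30, 33, 33], [(0,
  2), (1, 3), (0, 2)]⟩], 10614240), ([⟨[0, 7, 1, 6, 4], [25, 25, 25], [(0, 2), (1, 3), (0, 2)]⟩], 1179360),
  ([⟨[5, 0, 6, 2, 1, 7], [34, 34, 34], [(0, 2), (1, 3), (0, 2)]⟩], 10614240), ([⟨[2, 1, 3, 5, 4, 7, 6, 2, 1,
  3, 5, 4, 7, 6, 2, 1, 3, 5, 4, 7, 6], [9, 9, 9], [(0, 3)]⟩, ⟨[2, 6, 3, 5, 4, 0, 1, 2, 6, 3, 5, 4, 0, 1, 2,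
  6, 3, 5, 4, 0, 1], [9, 9, 9], [(0, 3)]⟩, ⟨[0, 3, 4, 1], [9, 9, 9], [(0, 3)]⟩], 2096640), ([⟨[6, 7, 2, 4, 3,
  1, 6, 7, 2, 4, 3, 1], [37, 37, 37], [(0, 2), (1, 3), (0, 2)]⟩, ⟨[1, 0, 2, 4, 3, 6, 1, 0, 2, 4, 3, 6], [37,
  37, 37], [(0, 2), (1, 3), (0, 2)]⟩, ⟨[2, 3, 7, 6, 4], [37, 37, 37], [(0, 2), (1, 3), (0, 2)]⟩, ⟨[2, 3, 0,
  1, 4], [37, 37, 37], [(0, 2), (1, 3), (0, 2)]⟩], 127370880), ([⟨[5, 1, 2, 6, 4, 0, 3], [44, 44, 44], [(0,
  3), (0, 3)]⟩, ⟨[5, 6, 2, 1, 4, 7, 3], [44, 44, 44], [(0, 3), (0, 3)]⟩], 339655680), ([⟨[6, 7, 2, 4, 3, 1],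
  [61, 61, 61], [(0, 2), (1, 3), (1, 2), (1, 2), (0, 2)]⟩, ⟨[1, 0, 2, 4, 3, 6], [61, 61, 61], [(0, 2), (1,
  3), (1, 2), (1, 2), (0, 2)]⟩], 254741760), ([⟨[2, 3, 4, 2, 3, 6, 0, 3, 1, 3, 2, 5, 6, 1, 7], [62, 78, 78],
  [(0, 3), (1, 13), (0, 3)]⟩, ⟨[4, 2, 5, 6, 3, 0, 1, 7], [62, 78, 78], [(0, 3), (1, 13), (0, 3)]⟩],
  705438720), ([⟨[7, 6, 2, 4, 3, 1, 2, 4, 6, 5, 2, 0, 1, 0, 2, 5, 3], [69, 67, 69], [(0, 2), (1, 3), (0, 2),
  (1, 3), (0, 2)]⟩, ⟨[0, 1, 2, 4, 3, 6, 2, 4, 1, 5, 2, 7, 6, 7, 2, 5, 3], [69, 69, 67], [(0, 2), (1, 3), (0,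
  2), (1, 3), (0, 2)]⟩], 84913920)]

theorem okO : OkO dat val := by
  unfold OkO
  decide +kernel

theorem big_fam : ∀ f ∈ fam, Big (f.1.map Rp.w) f.2 := by
  simp only [fam, List.forall_mem_cons]
  exact ⟨Big.nil, Big.one c2, Big.one c4, Big.one c5, Big.one c6, Big.one c7, Big.one c8, Big.one c9, Big.one
    c10, Big.one c11, Big.one c12, Big.one c15, Big.one c17, Big.one c18, Big.one c19, Big.one c20, Big.one
    c21, Big.one c22, Big.one c23, Big.one c24, Big.one c25, Big.one c26, Big.one c27, Big.one c30, Big.one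
    c31, Big.one c35, Big.one c38, Big.one c39, Big.one c40, Big.one c41, Big.one c43, Big.one c44, Big.one
    c45, Big.one c46, Big.one c47, Big.one c48, Big.one c49, Big.one c51, Big.one c52, Big.one c54, Big.one
    c55, Big.one c56, Big.one c57, Big.app [2, 1] (Big.pair (c := 17496) (d := 3) (lv := [⟨1, 3, []⟩, ⟨9, 2,
    [[2, 1]]⟩, ⟨243, 2, []⟩]) (by decide +kernel) (by decide)) (Big.one c3) (by decide +kernel), Big.app [2,
    0, 1] (Big.pair (c := 216) (d := 5) (lv := [⟨1, 5, [[2, 2, 0, 1, 1]]⟩, ⟨3, 2, []⟩]) (by decide +kernel)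
    (by decide)) (Big.pair (c := 108) (d := 6) (lv := [⟨1, 6, []⟩, ⟨27, 1, []⟩]) (by decide +kernel) (by
    decide)) (by decide +kernel), Big.pair (c := 27) (d := 7) (lv := [⟨1, 7, []⟩]) (by decide +kernel) (by
    decide), Big.pair (c := 36) (d := 7) (lv := [⟨1, 7, []⟩]) (by decide +kernel) (by decide), Big.app [0, 2,
    1, 1] (Big.one c1) (Big.one c28) (by decide +kernel), Big.pair (c := 108) (d := 6) (lv := [⟨3, 6, []⟩,
    ⟨1, 1, []⟩]) (by decide +kernel) (by decide), fun _ h => by cases h⟩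


theorem okT0 : allL (fun f => allL (okT dat val) f.1) ((fam.drop 0).take 10) = true := by decide +kernel

theorem okT1 : allL (fun f => allL (okT dat val) f.1) ((fam.drop 10).take 10) = true := by decide +kernel

theorem okT2 : allL (fun f => allL (okT dat val) f.1) ((fam.drop 20).take 10) = true := by decide +kernel

theorem okT3 : allL (fun f => allL (okT dat val) f.1) ((fam.drop 30).take 10) = true := by decide +kernel

theorem okT4 : allL (fun f => allL (okT dat val) f.1) ((fam.drop 40).take 10) = true := by decide +kernel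

theorem okT_fam : ∀ f ∈ fam, ∀ r ∈ f.1, okT dat val r = true := fun f hf => allL_spec (by
  rw [show fam = (fam.drop 0).take 10 ++ (fam.drop 10).take 10 ++ (fam.drop 20).take 10 ++ (fam.drop 30).take 10 ++ (fam.drop 40).take 10 from rfl] at hf
  simp only [List.mem_append] at hf
  rcases hf with (((h | h) | h) | h) | h
  exacts [allL_spec okT0 f h, allL_spec okT1 f h, allL_spec okT2 f h, allL_spec okT3 f h, allL_spec okT4 f h])


theorem exists_tdT : ∃ T : TD Trip dat, T.Mass ∧ ∀ g, ∀ i < dat.n, T.ty g = i ↔ Ty key dat val i g := by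
  refine exists_td (by decide +kernel) (by decide +kernel) (by decide +kernel) card_trip fun t ht => ?_
  obtain ⟨f, h1, k, -, h2, h3⟩ := (by decide +kernel : ∀ t < 81, ∃ f ∈ (fam.drop
    (0x666f3874033c671ac1ac0c30866fb9451189f9e54627d610b24e1ed7575d00cfb2306aa154a88159a0a5b79b78561828221610b264ae134d4c014a080 / 64 ^ t % 64)).take 1, ∃ k < 4,
    (∀ r ∈ f.1, k ≤ ((Finset.range 3).filter fun j => r.t.getD j 0 = t).card) ∧ dat.cnt t ≤ k * f.2) t ht
  replace h1 := List.mem_of_mem_drop (List.mem_of_mem_take h1)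
  exact box_of okO (okT_fam f h1) (big_fam f h1) h2 h3

end Cfsg.Agent.MK.C3L.O

private theorem dce_56d83c747f8b : _root_.True := by
  try have : _root_.True := by simp only [_root_.Cfsg.Agent.MK.C3L.O.fam.eq_1]
  exact _root_.True.intro
end
end
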